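import Cfsg.Agent.R2.Spec.X3.Base

/-!
# Size estimates for `Cand p x M S` (helper16, S3435, box X3)

* `exists_E` : the element orders prime to `M` divide a number `E` with `E² < 800 M⁵`;
* `prod2`, `prod3`, `prod4`, `prod5` : pairwise coprime element orders prime to `M` have product `P` with `P² < 800 M⁵`;
* `le_free` : an element order `N` prime to `M` satisfies `N² ≤ 9 M³`.
-/

set_option autoImplicit false

namespace Cfsg.Agent.R2.Spec.X3

namespace Cand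

variable {p M : ℕ} {x : ℤ} {S : Type*} [Group S] (h : Cand p x M S)

include h

theorem p_le : (p : ℤ) ≤ |x| := by
  have h5 := h.h5
  rcases h.p_cases with h1 | h1 <;> omega

theorem abs_facts : 5 ≤ |x| ∧ |x| * |x| = x ^ 2 := by
  refine ⟨?_, by rw [← sq, sq_abs]⟩
  rw [le_abs]
  rcases h.x_bd with h1 | h1 | h1 <;> omega

theorem exists_E : ∃ E : ℕ, 0 < E ∧ E ^ 2 < 800 * M ^ 5 ∧
    ∀ N, (∃ g : S, orderOf g = N) → Nat.Coprime N M → N ∣ E := by
  have hp0 : (0 : ℤ) < p := by exact_mod_cast h.hp.pos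
  have hpx := h.p_le
  obtain ⟨hx5, hxx⟩ := h.abs_facts
  have hx25 : 25 ≤ x ^ 2 := by rw [← hxx]; nlinarith
  rcases h.typ with hty | ⟨δ, hty⟩
  · obtain ⟨h1, h2, h3⟩ := hty
    have hax : |x| = x := abs_of_nonneg (by omega)
    rw [hax] at hpx
    obtain ⟨E, hE⟩ : ∃ E : ℕ, (E : ℤ) = p * (x ^ 2 - 1) * (x ^ 2 + x + 1) := by
      refine ⟨(p * (x ^ 2 - 1) * (x ^ 2 + x + 1)).toNat, Int.toNat_of_nonneg ?_⟩
      have : 0 < x ^ 2 - 1 := by linarith
      have : 0 < x ^ 2 + x + 1 := by linarith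
      positivity
    refine ⟨E, ?_, ?_, ?_⟩
    · have : (0 : ℤ) < E := by
        rw [hE]
        have : 0 < x ^ 2 - 1 := by linarith
        have : 0 < x ^ 2 + x + 1 := by linarith
        positivity
      exact_mod_cast this
    · have hb : 4 * (E : ℤ) ≤ 5 * x ^ 5 := by
        rw [hE]
        have a1 : p * (x ^ 2 - 1) ≤ x ^ 3 := by
          calc p * (x ^ 2 - 1) ≤ x * (x ^ 2 - 1) := mul_le_mul_of_nonneg_right hpx (by linarith)
            _ ≤ x ^ 3 := by nlinarith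
        have a2 : 4 * (x ^ 2 + x + 1) ≤ 5 * x ^ 2 := by nlinarith
        have a3 : 0 ≤ p * (x ^ 2 - 1) := mul_nonneg hp0.le (by linarith)
        calc 4 * (p * (x ^ 2 - 1) * (x ^ 2 + x + 1)) = (p * (x ^ 2 - 1)) * (4 * (x ^ 2 + x + 1)) := by ring
          _ ≤ x ^ 3 * (5 * x ^ 2) := mul_le_mul a1 a2 (by linarith) (by positivity)
          _ = 5 * x ^ 5 := by ring
      have hb2 : 16 * (E : ℤ) ^ 2 ≤ 25 * x ^ 10 := by
        have := pow_le_pow_left₀ (by positivity) hb 2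
        nlinarith
      have hb3 : (x ^ 2) ^ 5 < (2 * (M : ℤ)) ^ 5 := by
        rw [h3]
        exact pow_lt_pow_left₀ (by linarith) (by positivity) (by norm_num)
      have : ((E ^ 2 : ℕ) : ℤ) < ((800 * M ^ 5 : ℕ) : ℤ) := by
        push_cast
        nlinarith [show (x ^ 2) ^ 5 = x ^ 10 by ring, show (2 * (M : ℤ)) ^ 5 = 32 * (M : ℤ) ^ 5 by ring,
          show (0 : ℤ) ≤ x ^ 10 by positivity]
      exact_mod_cast this
    · intro N hN hc
      have key : (N : ℤ) ∣ E := by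
        rw [hE]
        rcases h.freeI hN hc h1 with k | k | k | k
        · refine ((dvd_mul_left _ _).trans k).trans ⟨p * (x + 1), by ring⟩
        · exact k.trans ⟨p * (x ^ 2 + x + 1), by ring⟩
        · exact ((dvd_mul_left _ _).trans k).trans ⟨x ^ 2 + x + 1, by ring⟩
        · exact k.trans ⟨(x + 1) * (x ^ 2 + x + 1), by ring⟩
      exact_mod_cast key
  · have hty' := hty
    obtain ⟨h1, h2, h3, h4⟩ := hty
    have hδ : 0 < δ := by rcases h3 with ⟨rfl, -⟩ | ⟨rfl, -⟩ <;> norm_num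
    have h2d : (2 : ℤ) ∣ x ^ 2 - 1 := by
      obtain ⟨t, rfl⟩ : ∃ t, x = 4 * t + 3 := ⟨x / 4, by omega⟩
      exact ⟨8 * t ^ 2 + 12 * t + 4, by ring⟩
    obtain ⟨y, hy⟩ := h2d
    have hy0 : 0 < y := by omega
    obtain ⟨E, hE⟩ : ∃ E : ℕ, (E : ℤ) = δ * p * y * (x ^ 2 + 1) :=
      ⟨(δ * p * y * (x ^ 2 + 1)).toNat, Int.toNat_of_nonneg (by positivity)⟩
    have hE2 : 2 * (E : ℤ) = δ * p * (x ^ 2 - 1) * (x ^ 2 + 1) := by rw [hE, hy]; ring
    refine ⟨E, ?_, ?_, ?_⟩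
    · have : (0 : ℤ) < E := by rw [hE]; positivity
      exact_mod_cast this
    · have hb : 2 * (E : ℤ) ≤ δ * |x| ^ 5 := by
        rw [hE2]
        have a1 : p * ((x ^ 2 - 1) * (x ^ 2 + 1)) ≤ |x| * (x ^ 2 * x ^ 2) := by
          refine mul_le_mul hpx ?_ ?_ (abs_nonneg x)
          · nlinarith
          · have : 0 ≤ x ^ 2 - 1 := by linarith
            positivity
        calc δ * p * (x ^ 2 - 1) * (x ^ 2 + 1) = δ * (p * ((x ^ 2 - 1) * (x ^ 2 + 1))) := by ring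
          _ ≤ δ * (|x| * (x ^ 2 * x ^ 2)) := mul_le_mul_of_nonneg_left a1 hδ.le
          _ = δ * |x| ^ 5 := by rw [← hxx]; ring
      have hb2 : 4 * (E : ℤ) ^ 2 ≤ δ ^ 2 * x ^ 10 := by
        have := pow_le_pow_left₀ (by positivity) hb 2
        have e : (δ * |x| ^ 5) ^ 2 = δ ^ 2 * x ^ 10 := by
          rw [mul_pow, ← pow_mul]
          have : |x| ^ (5 * 2) = x ^ 10 := by
            rw [show 5 * 2 = 2 * 5 by norm_num, pow_mul, sq_abs, ← pow_mul]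
          rw [this]
        rw [e] at this
        nlinarith
      have : ((E ^ 2 : ℕ) : ℤ) < ((800 * M ^ 5 : ℕ) : ℤ) := by
        push_cast
        have hx10 : (0 : ℤ) < (x ^ 2) ^ 5 := by positivity
        have e10 : x ^ 10 = (x ^ 2) ^ 5 := by ring
        rw [e10] at hb2
        rcases h3 with ⟨rfl, -⟩ | ⟨rfl, h5⟩
        · have a1 : x ^ 2 ≤ 2 * M := by
            rcases h2 with h2 | h2 <;> nlinarith
          have a2 : (x ^ 2) ^ 5 ≤ (2 * (M : ℤ)) ^ 5 := pow_le_pow_left₀ (by positivity) a1 5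
          have a3 : (2 * (M : ℤ)) ^ 5 = 32 * (M : ℤ) ^ 5 := by ring
          rw [a3] at a2
          have a4 : (0 : ℤ) < (M : ℤ) ^ 5 := by
            have := h.M_pos
            positivity
          linarith
        · have h17 : x ≤ -17 ∨ 7 ≤ x := by
            rcases h2 with h2 | h2
            · exact Or.inr h2
            · left; omega
          have a1 : 16 * x ^ 2 ≤ 51 * M := by
            rcases h17 with h2 | h2 <;> nlinarith
          have a2 : (16 * x ^ 2) ^ 5 ≤ (51 * (M : ℤ)) ^ 5 := pow_le_pow_left₀ (by positivity) a1 5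
          have a3 : (16 * x ^ 2) ^ 5 = 1048576 * (x ^ 2) ^ 5 := by ring
          have a5 : (51 * (M : ℤ)) ^ 5 = 345025251 * (M : ℤ) ^ 5 := by ring
          rw [a3, a5] at a2
          have a4 : (0 : ℤ) < (M : ℤ) ^ 5 := by
            have := h.M_pos
            positivity
          linarith
      exact_mod_cast this
    · intro N hN hc
      have key : 2 * (N : ℤ) ∣ 2 * E := by
        rw [hE2]
        rcases h.freeII hN hc hty' with k | k | k | k | k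
        · exact k.trans ⟨δ * p * (x - 1), by ring⟩
        · obtain ⟨c, hc⟩ := k
          obtain ⟨t, ht⟩ : ∃ t, x ^ 2 + 1 = 2 * t := ⟨y + 1, by linarith⟩
          rw [ht, hc]
          exact ⟨δ * p * c * t, by ring⟩
        · exact k.trans ⟨δ * (x ^ 2 + 1), by ring⟩
        · obtain ⟨c, hc⟩ := k
          obtain ⟨t, ht⟩ : ∃ t, x ^ 2 + 1 = 2 * t := ⟨y + 1, by linarith⟩
          have e : δ * p * (x ^ 2 - 1) * (x ^ 2 + 1) = δ * (p * (x - 1)) * (x + 1) * (x ^ 2 + 1) := by ring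
          rw [e, ht, hc]
          exact ⟨δ * c * (x + 1) * t, by ring⟩
        · exact k.trans ⟨p * (x + 1) * (x ^ 2 + 1), by ring⟩
      have key2 : (N : ℤ) ∣ E := (mul_dvd_mul_iff_left (by norm_num : (2 : ℤ) ≠ 0)).1 key
      exact_mod_cast key2

theorem sq_lt_of_dvd {E P : ℕ} (hE0 : 0 < E) (hE : E ^ 2 < 800 * M ^ 5) (hP : P ∣ E) : P ^ 2 < 800 * M ^ 5 :=
  (Nat.pow_le_pow_left (Nat.le_of_dvd hE0 hP) 2).trans_lt hE

theorem prod2 {N₁ N₂ : ℕ} (h1 : ∃ g : S, orderOf g = N₁) (h2 : ∃ g : S, orderOf g = N₂)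
    (c1 : Nat.Coprime N₁ M) (c2 : Nat.Coprime N₂ M) (c12 : Nat.Coprime N₁ N₂) : (N₁ * N₂) ^ 2 < 800 * M ^ 5 := by
  obtain ⟨E, hE0, hE, hd⟩ := h.exists_E
  exact h.sq_lt_of_dvd hE0 hE (c12.mul_dvd_of_dvd_of_dvd (hd _ h1 c1) (hd _ h2 c2))

/-- **three coprime element orders prime to `M`** -/
theorem prod3 {N₁ N₂ N₃ : ℕ} (h1 : ∃ g : S, orderOf g = N₁) (h2 : ∃ g : S, orderOf g = N₂)
    (h3 : ∃ g : S, orderOf g = N₃) (c1 : Nat.Coprime N₁ M) (c2 : Nat.Coprime N₂ M)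
    (c3 : Nat.Coprime N₃ M) (c12 : Nat.Coprime N₁ N₂) (c13 : Nat.Coprime N₁ N₃) (c23 : Nat.Coprime N₂ N₃) :
    (N₁ * N₂ * N₃) ^ 2 < 800 * M ^ 5 := by
  obtain ⟨E, hE0, hE, hd⟩ := h.exists_E
  exact h.sq_lt_of_dvd hE0 hE (Nat.Coprime.mul_dvd_of_dvd_of_dvd (Nat.Coprime.mul_left c13 c23)
      (c12.mul_dvd_of_dvd_of_dvd (hd _ h1 c1) (hd _ h2 c2)) (hd _ h3 c3))

/-- **four coprime element orders prime to `M`** -/
theorem prod4 {N₁ N₂ N₃ N₄ : ℕ} (h1 : ∃ g : S, orderOf g = N₁) (h2 : ∃ g : S, orderOf g = N₂)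
    (h3 : ∃ g : S, orderOf g = N₃) (h4 : ∃ g : S, orderOf g = N₄) (c1 : Nat.Coprime N₁ M) (c2 : Nat.Coprime N₂ M)
    (c3 : Nat.Coprime N₃ M) (c4 : Nat.Coprime N₄ M)
    (c12 : Nat.Coprime N₁ N₂) (c13 : Nat.Coprime N₁ N₃) (c14 : Nat.Coprime N₁ N₄) (c23 : Nat.Coprime N₂ N₃)
    (c24 : Nat.Coprime N₂ N₄) (c34 : Nat.Coprime N₃ N₄) :
    (N₁ * N₂ * N₃ * N₄) ^ 2 < 800 * M ^ 5 := by
  obtain ⟨E, hE0, hE, hd⟩ := h.exists_E
  exact h.sq_lt_of_dvd hE0 hE (Nat.Coprime.mul_dvd_of_dvd_of_dvd (Nat.Coprime.mul_left (Nat.Coprime.mul_left c14 c24) c34)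
      (Nat.Coprime.mul_dvd_of_dvd_of_dvd (Nat.Coprime.mul_left c13 c23)
      (c12.mul_dvd_of_dvd_of_dvd (hd _ h1 c1) (hd _ h2 c2)) (hd _ h3 c3)) (hd _ h4 c4))

/-- one element order prime to `M` -/
theorem le_free {N : ℕ} (he : ∃ g : S, orderOf g = N) (hN : Nat.Coprime N M) : N ^ 2 ≤ 9 * M ^ 3 := by
  have hp0 : (0 : ℤ) < p := by exact_mod_cast h.hp.pos
  have hpx := h.p_le
  obtain ⟨hx5, hxx⟩ := h.abs_facts
  have hx25 : 25 ≤ x ^ 2 := by rw [← hxx]; nlinarith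
  have hN0 : (0 : ℤ) ≤ N := Int.natCast_nonneg _
  suffices hs : ((N ^ 2 : ℕ) : ℤ) ≤ ((9 * M ^ 3 : ℕ) : ℤ) by exact_mod_cast hs
  push_cast
  have hM0 : (0 : ℤ) < M := by exact_mod_cast h.M_pos
  -- the bounds
  have b3 : ∀ n : ℤ, 0 ≤ n → n ∣ x ^ 2 - 1 → n ≤ x ^ 2 := fun n _ hd => by
    have := Int.le_of_dvd (by linarith) hd
    linarith
  have b4 : ∀ n : ℤ, n ∣ p * (x ^ 2 - 1) → n ≤ |x| * x ^ 2 := fun n hd => by
    have h1 := Int.le_of_dvd (mul_pos hp0 (by linarith)) hd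
    have h2 : p * (x ^ 2 - 1) ≤ |x| * (x ^ 2 - 1) := mul_le_mul_of_nonneg_right hpx (by linarith)
    nlinarith
  have b5 : ∀ n : ℤ, n ∣ p * (x - 1) → n ≤ |x| * |x - 1| := fun n hd => by
    have hne : (p : ℤ) * (x - 1) ≠ 0 := mul_ne_zero hp0.ne' (by rcases h.x_bd with k | k | k <;> omega)
    have h1 := Int.le_of_dvd (abs_pos.2 hne) ((dvd_abs _ _).2 hd)
    rw [abs_mul, abs_of_pos hp0] at h1
    exact h1.trans (mul_le_mul_of_nonneg_right hpx (abs_nonneg _))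
  have hx2 : (|x| * x ^ 2) ^ 2 = x ^ 6 := by
    rw [mul_pow, sq_abs]; ring
  rcases h.typ with hty | ⟨δ, hty⟩
  · obtain ⟨h1, h2, h3⟩ := hty
    have hax : |x| = x := abs_of_nonneg (by omega)
    have hax1 : |x - 1| = x - 1 := abs_of_nonneg (by omega)
    have hM3 : 8 * (M : ℤ) ^ 3 = (x ^ 2 + 1) ^ 3 := by rw [← h3]; ring
    have hM6 : x ^ 6 ≤ 8 * (M : ℤ) ^ 3 := by
      rw [hM3]
      have : (x ^ 2) ^ 3 ≤ (x ^ 2 + 1) ^ 3 := pow_le_pow_left₀ (by positivity) (by linarith) 3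
      calc x ^ 6 = (x ^ 2) ^ 3 := by ring
        _ ≤ _ := this
    have e4 : 25 * (x ^ 2) ^ 2 ≤ x ^ 6 := by
      have : x ^ 6 = x ^ 2 * (x ^ 2) ^ 2 := by ring
      rw [this]; exact mul_le_mul_of_nonneg_right hx25 (by positivity)
    have q1 : ∀ n : ℤ, 0 ≤ n → n ≤ x ^ 2 → n ^ 2 ≤ 9 * (M : ℤ) ^ 3 := fun n hn hle => by
      have := pow_le_pow_left₀ hn hle 2
      nlinarith [show (0:ℤ) ≤ (M : ℤ) ^ 3 by positivity]
    have q2 : ∀ n : ℤ, 0 ≤ n → n ≤ x ^ 3 → n ^ 2 ≤ 9 * (M : ℤ) ^ 3 := fun n hn hle => by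
      have h5 := pow_le_pow_left₀ hn hle 2
      have h6 : (x ^ 3) ^ 2 = x ^ 6 := by ring
      rw [h6] at h5
      nlinarith [show (0:ℤ) ≤ (M : ℤ) ^ 3 by positivity]
    rcases h.freeI he hN h1 with k | k | k | k
    · refine q2 _ hN0 ?_
      have := Int.le_of_dvd (by nlinarith) k
      linarith
    · exact q1 _ hN0 (b3 _ hN0 k)
    · refine q2 _ hN0 ?_
      have := b4 _ ((dvd_mul_left _ _).trans k)
      rw [hax] at this
      nlinarith
    · refine q1 _ hN0 ?_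
      have := b5 _ k
      rw [hax, hax1] at this
      nlinarith
  · have hty' := hty
    obtain ⟨h1, h2, h3, h4⟩ := hty
    -- `27 (9 M³) ≥ 9 (x² + x + 1)³`
    have hδ : 0 < δ := by rcases h3 with ⟨rfl, -⟩ | ⟨rfl, -⟩ <;> norm_num
    have hM3 : (x ^ 2 + x + 1) ^ 3 ≤ 27 * (M : ℤ) ^ 3 := by
      rw [← h4]
      have : (0 : ℤ) < (M : ℤ) ^ 3 := by positivity
      rcases h3 with ⟨rfl, -⟩ | ⟨rfl, -⟩ <;> nlinarith
    have q2 : ∀ n : ℤ, 0 ≤ n → 3 * n ^ 2 ≤ (x ^ 2 + x + 1) ^ 3 → n ^ 2 ≤ 9 * (M : ℤ) ^ 3 := fun n hn hle => by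
      linarith
    have hP : 12 * x ^ 2 ≤ 13 * (x ^ 2 + x + 1) := by
      rcases h2 with h2 | h2 <;> nlinarith
    have hP3 : 1728 * x ^ 6 ≤ 2197 * (x ^ 2 + x + 1) ^ 3 := by
      have := pow_le_pow_left₀ (by positivity) hP 3
      calc 1728 * x ^ 6 = (12 * x ^ 2) ^ 3 := by ring
        _ ≤ _ := this
        _ = _ := by ring
    have hx6 : 0 < x ^ 6 := by
      have : x ^ 6 = (x ^ 2) ^ 3 := by ring
      rw [this]; positivity
    have e4 : 25 * (x ^ 2) ^ 2 ≤ x ^ 6 := by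
      have : x ^ 6 = x ^ 2 * (x ^ 2) ^ 2 := by ring
      rw [this]; exact mul_le_mul_of_nonneg_right hx25 (by positivity)
    -- `2 n ≤ |x|³`
    have q3 : ∀ n : ℤ, 0 ≤ n → (2 * n) ^ 2 ≤ x ^ 6 → n ^ 2 ≤ 9 * (M : ℤ) ^ 3 := fun n hn hle => by
      refine q2 n hn ?_
      nlinarith
    have q1 : ∀ n : ℤ, 0 ≤ n → n ≤ 2 * x ^ 2 → n ^ 2 ≤ 9 * (M : ℤ) ^ 3 := fun n hn hle => by
      refine q3 n hn ?_
      have h5 := pow_le_pow_left₀ (by omega) (mul_le_mul_of_nonneg_left hle (by norm_num : (0 : ℤ) ≤ 2)) 2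
      refine h5.trans ?_
      nlinarith
    rcases h.freeII he hN hty' with k | k | k | k | k
    · -- `(x² + 1)(x + 1)`
      have hne : (x ^ 2 + 1) * (x + 1) ≠ 0 := mul_ne_zero (by positivity) (by omega)
      have h5 := Int.le_of_dvd (abs_pos.2 hne) ((dvd_abs _ _).2 k)
      have h6 : (2 * (N : ℤ)) ^ 2 ≤ ((x ^ 2 + 1) * (x + 1)) ^ 2 := by
        rw [← sq_abs ((x ^ 2 + 1) * (x + 1))]
        exact pow_le_pow_left₀ (by omega) h5 2
      refine q2 _ hN0 ?_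
      have h7 : 3 * ((x ^ 2 + 1) * (x + 1)) ^ 2 ≤ 4 * (x ^ 2 + x + 1) ^ 3 := by
        rcases h2 with h2 | h2
        · obtain ⟨t, ht⟩ : ∃ t, t = x - 7 := ⟨_, rfl⟩
          have hx' : x = t + 7 := by omega
          have ht0 : 0 ≤ t := by omega
          rw [hx']
          have e : 4 * ((t + 7) ^ 2 + (t + 7) + 1) ^ 3 - 3 * (((t + 7) ^ 2 + 1) * (t + 7 + 1)) ^ 2 =
            t ^ 6 + 48 * t ^ 5 + 960 * t ^ 4 + 10236 * t ^ 3 + 61356 * t ^ 2 + 196020 * t + 260772 := by ring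
          have : 0 ≤ t ^ 6 + 48 * t ^ 5 + 960 * t ^ 4 + 10236 * t ^ 3 + 61356 * t ^ 2 + 196020 * t + 260772 := by
            positivity
          linarith
        · obtain ⟨t, ht⟩ : ∃ t, t = -13 - x := ⟨_, rfl⟩
          have hx' : x = -13 - t := by omega
          have ht0 : 0 ≤ t := by omega
          rw [hx']
          have e : 4 * ((-13 - t) ^ 2 + (-13 - t) + 1) ^ 3 - 3 * (((-13 - t) ^ 2 + 1) * (-13 - t + 1)) ^ 2 =
            t ^ 6 + 72 * t ^ 5 + 2160 * t ^ 4 + 34564 * t ^ 3 + 311196 * t ^ 2 + 1495020 * t + 2994772 := by ring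
          have : 0 ≤ t ^ 6 + 72 * t ^ 5 + 2160 * t ^ 4 + 34564 * t ^ 3 + 311196 * t ^ 2 + 1495020 * t + 2994772 := by
            positivity
          linarith
      linarith
    · exact q1 _ hN0 (by have := b3 _ hN0 k; linarith [sq_nonneg x])
    · have h5 := b4 _ k
      refine q3 _ hN0 ?_
      have := pow_le_pow_left₀ (by omega) h5 2
      rwa [hx2] at this
    · refine q1 _ hN0 ?_
      have h5 := b5 _ k
      have h6 : |x - 1| ≤ |x| + 1 := by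
        have := abs_sub x 1
        simpa using this
      nlinarith [abs_nonneg x]
    · refine q1 _ hN0 ?_
      have hne : δ * (x - 1) ≠ 0 := mul_ne_zero hδ.ne' (by omega)
      have h5 := Int.le_of_dvd (abs_pos.2 hne) ((dvd_abs _ _).2 k)
      rw [abs_mul, abs_of_pos hδ] at h5
      have h6 : |x - 1| ≤ |x| + 1 := by
        have := abs_sub x 1
        simpa using this
      have h7 : δ ≤ 3 := by rcases h3 with ⟨rfl, -⟩ | ⟨rfl, -⟩ <;> norm_num
      have h8 : δ * |x - 1| ≤ 3 * (|x| + 1) := mul_le_mul h7 h6 (abs_nonneg _) (by norm_num)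
      nlinarith [abs_nonneg x]

end Cand

end Cfsg.Agent.R2.Spec.X3
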