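import Mathlib
import Cfsg.Agent.H94.PrimeGraph

/-!
# Cross characteristic sections of groups isospectral to `L₄(x)`, `x = ± q`: the interface (helper16, S3435, box X3)

`x` is an integer, `|x| = p ^ k` with `5 ≤ p`; `L₄(x) = PSL₄(q)` for `x = q`, `PSU₄(q)` for `x = -q`.
* type I  : `x % 4 = 1`, `5 ≤ x`, `2 M = x² + 1`;
* type II : `x % 4 = 3`, `7 ≤ x` or `x ≤ -13`, `δ M = x² + x + 1`, `δ = (3, x - 1)`.

`Cand p x M S`: all element orders of `S` are element orders of `L₄(x)`, and `M` is an element order of `S`.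
-/

set_option autoImplicit false

namespace Cfsg.Agent.R2.Spec.X3

/-- type I -/
def TI (x : ℤ) (M : ℕ) : Prop := x % 4 = 1 ∧ 5 ≤ x ∧ 2 * (M : ℤ) = x ^ 2 + 1

/-- type II -/
def TII (x : ℤ) (M : ℕ) (δ : ℤ) : Prop :=
  x % 4 = 3 ∧ (7 ≤ x ∨ x ≤ -13) ∧ ((δ = 1 ∧ x % 3 ≠ 1) ∨ (δ = 3 ∧ x % 3 = 1)) ∧ δ * M = x ^ 2 + x + 1

/-- the order of the centre of the simply connected group -/
def cc (x : ℤ) : ℤ := if x % 4 = 1 then 4 else 2

/-- the element orders of `L₄(x)` -/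
def Sp (p : ℕ) (x n : ℤ) : Prop :=
  cc x * n ∣ x ^ 3 - 1 ∨ cc x * n ∣ (x ^ 2 + 1) * (x + 1) ∨ n ∣ x ^ 2 - 1 ∨ cc x * n ∣ p * (x ^ 2 - 1) ∨ n ∣ p * (x - 1)

/-- the section -/
structure Cand (p : ℕ) (x : ℤ) (M : ℕ) (S : Type*) [Group S] : Prop where
  hp : p.Prime
  h5 : 5 ≤ p
  ex : ∃ k : ℕ, 1 ≤ k ∧ x.natAbs = p ^ k
  typ : TI x M ∨ ∃ δ, TII x M δ
  spec : ∀ g : S, Sp p x (orderOf g : ℕ)
  elt : ∃ g : S, orderOf g = M

theorem cc_one {x : ℤ} (h : x % 4 = 1) : cc x = 4 := by rw [cc, if_pos h]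
theorem cc_three {x : ℤ} (h : x % 4 = 3) : cc x = 2 := by rw [cc, if_neg (by omega)]

/-- the largest cofactor of `M` -/
def HX (x : ℤ) (δ : ℤ) (h : ℕ) : Prop :=
  (x % 4 = 1 ∧ 2 * (h : ℤ) = x + 1) ∨ (x % 4 = 3 ∧ 2 * (h : ℤ) = δ * |x - 1|)

namespace Cand

variable {p M : ℕ} {x : ℤ} {S : Type*} [Group S]

theorem congr {S' : Type*} [Group S'] (h : Cand p x M S) (e : S ≃* S') : Cand p x M S' := by
  have key : ∀ g : S', orderOf (e.symm g) = orderOf g := fun g =>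
    orderOf_injective e.symm.toMonoidHom e.symm.injective g
  obtain ⟨g, hg⟩ := h.elt
  refine ⟨h.hp, h.h5, h.ex, h.typ, fun y => ?_, ⟨e g, ?_⟩⟩
  · rw [← key]; exact h.spec _
  · rw [← key, MulEquiv.symm_apply_apply, hg]

variable (h : Cand p x M S)

include h

theorem p_dvd : (p : ℤ) ∣ x := by
  obtain ⟨k, hk, hx⟩ := h.ex
  rw [← Int.dvd_natAbs, hx]
  push_cast
  exact dvd_pow_self _ (by omega)

theorem odd : x % 2 = 1 := by
  rcases h.typ with ⟨h1, -⟩ | ⟨δ, h1, -⟩ <;> omega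

/-- either `p = |x|` or `5 p ≤ |x|` -/
theorem p_cases : (p : ℤ) = |x| ∨ 5 * (p : ℤ) ≤ |x| := by
  obtain ⟨k, h1, h2⟩ := h.ex
  have h5 := h.h5
  rw [Int.abs_eq_natAbs, h2]
  rcases Nat.lt_or_ge k 2 with hk | hk
  · have : k = 1 := by omega
    left; rw [this, pow_one]
  · right
    obtain ⟨m, rfl⟩ : ∃ m, k = 2 + m := ⟨k - 2, by omega⟩
    rw [pow_add]
    have h3 : 1 ≤ p ^ m := Nat.one_le_pow _ _ (by omega)
    have : 5 * p ≤ p ^ 2 * p ^ m := by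
      calc 5 * p ≤ p * p := Nat.mul_le_mul_right _ h5
        _ = p ^ 2 * 1 := by ring
        _ ≤ p ^ 2 * p ^ m := Nat.mul_le_mul_left _ h3
    exact_mod_cast this

theorem x_bd : (5 ≤ x ∧ x % 4 = 1) ∨ (7 ≤ x ∧ x % 4 = 3) ∨ (x ≤ -13 ∧ x % 4 = 3) := by
  rcases h.typ with ⟨h1, h2, -⟩ | ⟨δ, h1, h2, -⟩
  · exact Or.inl ⟨h2, h1⟩
  · rcases h2 with h2 | h2
    · exact Or.inr (Or.inl ⟨h2, h1⟩)
    · exact Or.inr (Or.inr ⟨h2, h1⟩)

theorem M_ge : 13 ≤ M := by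
  rcases h.typ with ⟨h1, h2, h3⟩ | ⟨δ, h1, h2, h3, h4⟩
  · have : (26 : ℤ) ≤ 2 * M := by rw [h3]; nlinarith
    omega
  · rcases h2 with h2 | h2
    · rcases (by omega : x = 7 ∨ 8 ≤ x) with rfl | h5
      · rcases h3 with ⟨h3, h6⟩ | ⟨h3, h6⟩
        · norm_num at h6
        · subst h3; norm_num at h4; omega
      · rcases h3 with ⟨rfl, -⟩ | ⟨rfl, -⟩
        · have : (57 : ℤ) ≤ 1 * M := by rw [h4]; nlinarith
          omega
        · have : (57 : ℤ) ≤ 3 * M := by rw [h4]; nlinarith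
          omega
    · rcases h3 with ⟨rfl, -⟩ | ⟨rfl, -⟩
      · have : (57 : ℤ) ≤ 1 * M := by rw [h4]; nlinarith
        omega
      · have : (57 : ℤ) ≤ 3 * M := by rw [h4]; nlinarith
        omega

theorem M_pos : 0 < M := by have := h.M_ge; omega

theorem M_odd : M % 2 = 1 := by
  rcases h.typ with ⟨h1, h2, h3⟩ | ⟨δ, h1, h2, h3, h4⟩
  · obtain ⟨t, rfl⟩ : ∃ t, x = 4 * t + 1 := ⟨x / 4, by omega⟩
    have : (M : ℤ) = 2 * (4 * t ^ 2 + 2 * t) + 1 := by linarith [h3, show (4 * t + 1) ^ 2 + 1 = 2 * (2 * (4 * t ^ 2 + 2 * t) + 1) by ring]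
    omega
  · obtain ⟨t, rfl⟩ : ∃ t, x = 4 * t + 3 := ⟨x / 4, by omega⟩
    have e : (4 * t + 3) ^ 2 + (4 * t + 3) + 1 = 2 * (8 * t ^ 2 + 14 * t + 6) + 1 := by ring
    rw [e] at h4
    rcases h3 with ⟨rfl, -⟩ | ⟨rfl, -⟩ <;> omega

theorem not_three : ¬ 3 ∣ M := by
  rintro ⟨m, rfl⟩
  rcases h.typ with ⟨h1, h2, h3⟩ | ⟨δ, h1, h2, h3, h4⟩
  · push_cast at h3
    have h5 : (x ^ 2 + 1) % 3 = 0 := by rw [← h3]; omega
    have h6 : x % 3 = 0 ∨ x % 3 = 1 ∨ x % 3 = 2 := by omega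
    rcases h6 with h6 | h6 | h6 <;> rw [Int.add_emod, pow_two, Int.mul_emod, h6] at h5 <;> norm_num at h5
  · push_cast at h4
    have h6 : x % 9 = 0 ∨ x % 9 = 1 ∨ x % 9 = 2 ∨ x % 9 = 3 ∨ x % 9 = 4 ∨ x % 9 = 5 ∨ x % 9 = 6 ∨ x % 9 = 7 ∨ x % 9 = 8 := by
      omega
    obtain ⟨t, r, rfl, hr⟩ : ∃ t r, x = 9 * t + r ∧ (r = 0 ∨ r = 1 ∨ r = 2 ∨ r = 3 ∨ r = 4 ∨ r = 5 ∨ r = 6 ∨ r = 7 ∨ r = 8) :=
      ⟨x / 9, x % 9, by omega, h6⟩
    have e : (9 * t + r) ^ 2 + (9 * t + r) + 1 = 9 * (9 * t ^ 2 + 2 * t * r + t) + (r ^ 2 + r + 1) := by ring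
    rw [e] at h4
    generalize 9 * t ^ 2 + 2 * t * r + t = w at h4
    rcases h3 with ⟨rfl, h3⟩ | ⟨rfl, h3⟩ <;> rcases hr with rfl | rfl | rfl | rfl | rfl | rfl | rfl | rfl | rfl <;>
      norm_num at h4 <;> omega

/-- the prime divisors of `M` -/
theorem prime_facts {r : ℕ} (hr : r.Prime) (hrM : r ∣ M) : r ≠ 2 ∧ r ≠ 3 ∧ r ≠ p ∧ ¬ (r : ℤ) ∣ x ∧ ¬ (r : ℤ) ∣ x ^ 2 - 1 ∧
    (x % 4 = 1 → ¬ (r : ℤ) ∣ x ^ 3 - 1) ∧ (x % 4 = 3 → ¬ (r : ℤ) ∣ (x ^ 2 + 1) * (x + 1)) := by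
  have hr2 : r ≠ 2 := by
    rintro rfl
    have := h.M_odd
    omega
  have hr3 : r ≠ 3 := by
    rintro rfl
    exact h.not_three hrM
  have hrZ : (r : ℤ) ∣ M := by exact_mod_cast hrM
  have hri : Prime (r : ℤ) := Nat.prime_iff_prime_int.1 hr
  have n2 : ¬ (r : ℤ) ∣ 2 := fun h1 => hr2 ((Nat.prime_dvd_prime_iff_eq hr Nat.prime_two).1 (by exact_mod_cast h1))
  have n3 : ¬ (r : ℤ) ∣ 3 := fun h1 => hr3 ((Nat.prime_dvd_prime_iff_eq hr Nat.prime_three).1 (by exact_mod_cast h1))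
  have n1 : ¬ (r : ℤ) ∣ 1 := fun h1 => hri.not_unit (isUnit_of_dvd_one h1)
  have main : ¬ (r : ℤ) ∣ x ∧ ¬ (r : ℤ) ∣ x ^ 2 - 1 ∧ (x % 4 = 1 → ¬ (r : ℤ) ∣ x ^ 3 - 1) ∧
      (x % 4 = 3 → ¬ (r : ℤ) ∣ (x ^ 2 + 1) * (x + 1)) := by
    rcases h.typ with ⟨h1, h2, h3⟩ | ⟨δ, h1, h2, h3, h4⟩
    · have hd : (r : ℤ) ∣ x ^ 2 + 1 := by rw [← h3]; exact hrZ.mul_left 2
      have g1 : ¬ (r : ℤ) ∣ x := fun h5 => n1 (by
        have := dvd_sub hd (Dvd.dvd.mul_right h5 x)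
        rwa [show x ^ 2 + 1 - x * x = 1 by ring] at this)
      have g2 : ¬ (r : ℤ) ∣ x ^ 2 - 1 := fun h5 => n2 (by
        have := dvd_sub hd h5
        rwa [show x ^ 2 + 1 - (x ^ 2 - 1) = 2 by ring] at this)
      refine ⟨g1, g2, fun _ h5 => g2 ?_, fun h5 => by omega⟩
      have h6 := dvd_sub (Dvd.dvd.mul_left hd x) h5
      rw [show x * (x ^ 2 + 1) - (x ^ 3 - 1) = x + 1 by ring] at h6
      have := Dvd.dvd.mul_right h6 (x - 1)
      rwa [show (x + 1) * (x - 1) = x ^ 2 - 1 by ring] at this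
    · have hd : (r : ℤ) ∣ x ^ 2 + x + 1 := by rw [← h4]; exact hrZ.mul_left δ
      have g1 : ¬ (r : ℤ) ∣ x := fun h5 => n1 (by
        have := dvd_sub hd (Dvd.dvd.mul_right h5 (x + 1))
        rwa [show x ^ 2 + x + 1 - x * (x + 1) = 1 by ring] at this)
      have g2 : ¬ (r : ℤ) ∣ x ^ 2 - 1 := fun h5 => by
        have h6 := dvd_sub hd h5
        rw [show x ^ 2 + x + 1 - (x ^ 2 - 1) = x + 2 by ring] at h6
        have h7 := dvd_sub (Dvd.dvd.mul_right h6 (x - 2)) h5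
        rw [show (x + 2) * (x - 2) - (x ^ 2 - 1) = -3 by ring] at h7
        exact n3 ((dvd_neg).1 h7)
      have g3 : ¬ (r : ℤ) ∣ x + 1 := fun h5 => g2 (by
        have := Dvd.dvd.mul_right h5 (x - 1)
        rwa [show (x + 1) * (x - 1) = x ^ 2 - 1 by ring] at this)
      have g4 : ¬ (r : ℤ) ∣ x ^ 2 + 1 := fun h5 => g1 (by
        have := dvd_sub hd h5
        rwa [show x ^ 2 + x + 1 - (x ^ 2 + 1) = x by ring] at this)
      refine ⟨g1, g2, fun h5 => by omega, fun _ h5 => ?_⟩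
      rcases hri.dvd_or_dvd h5 with h6 | h6
      · exact g4 h6
      · exact g3 h6
  refine ⟨hr2, hr3, ?_, main⟩
  rintro rfl
  exact main.1 h.p_dvd

/-- **An element order not prime to `M`.** -/
theorem abs {r : ℕ} (hr : r.Prime) (hrM : r ∣ M) {g : S} (hg : r ∣ orderOf g) :
    (x % 4 = 1 → 2 * (orderOf g : ℤ) ∣ M * (x + 1)) ∧
    (∀ δ, TII x M δ → 2 * (orderOf g : ℤ) ∣ M * (δ * (x - 1))) := by
  obtain ⟨h2, h3, hrp, h0, h1, hI, hII⟩ := h.prime_facts hr hrM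
  have hgZ : (r : ℤ) ∣ (orderOf g : ℕ) := by exact_mod_cast hg
  have hri : Prime (r : ℤ) := Nat.prime_iff_prime_int.1 hr
  have np : ¬ (r : ℤ) ∣ p := fun h5 => hrp ((Nat.prime_dvd_prime_iff_eq hr h.hp).1 (by exact_mod_cast h5))
  have nm : ¬ (r : ℤ) ∣ x - 1 := fun h5 => h1 (by
    have := Dvd.dvd.mul_right h5 (x + 1)
    rwa [show (x - 1) * (x + 1) = x ^ 2 - 1 by ring] at this)
  have k3 : ¬ ((orderOf g : ℕ) : ℤ) ∣ x ^ 2 - 1 := fun hs => h1 (hgZ.trans hs)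
  have k4 : ¬ cc x * ((orderOf g : ℕ) : ℤ) ∣ p * (x ^ 2 - 1) := fun hs => by
    rcases hri.dvd_or_dvd ((hgZ.trans (dvd_mul_left _ _)).trans hs) with h5 | h5
    · exact np h5
    · exact h1 h5
  have k5 : ¬ ((orderOf g : ℕ) : ℤ) ∣ p * (x - 1) := fun hs => by
    rcases hri.dvd_or_dvd (hgZ.trans hs) with h5 | h5
    · exact np h5
    · exact nm h5
  constructor
  · intro hx
    have hty : TI x M := by
      rcases h.typ with h4 | ⟨δ, h4, -⟩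
      · exact h4
      · omega
    rcases h.spec g with hs | hs | hs | hs | hs
    · exact absurd (hgZ.trans ((dvd_mul_left _ _).trans hs)) (hI hx)
    · rw [cc_one hx, ← hty.2.2] at hs
      obtain ⟨c, hc⟩ := hs
      exact ⟨c, by linarith⟩
    · exact absurd hs k3
    · exact absurd hs k4
    · exact absurd hs k5
  · intro δ hty
    rcases h.spec g with hs | hs | hs | hs | hs
    · rw [cc_three hty.1] at hs
      have e : x ^ 3 - 1 = M * (δ * (x - 1)) := by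
        have := hty.2.2.2
        linear_combination (1 - x) * this
      rwa [e] at hs
    · exact absurd (hgZ.trans ((dvd_mul_left _ _).trans hs)) (hII hty.1)
    · exact absurd hs k3
    · exact absurd hs k4
    · exact absurd hs k5

/-- primes dividing `M` are not joined to 2 -/
theorem not_two_dvd {r : ℕ} (hr : r.Prime) (hrM : r ∣ M) {g : S} (hg : r ∣ orderOf g) : ¬ 2 ∣ orderOf g := by
  intro h2
  obtain ⟨hI, hII⟩ := h.abs hr hrM hg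
  have h2Z : (2 : ℤ) ∣ (orderOf g : ℕ) := by exact_mod_cast h2
  have hMo := h.M_odd
  obtain ⟨m, hm⟩ : ∃ m : ℤ, (M : ℤ) = 2 * m + 1 := ⟨M / 2, by omega⟩
  obtain ⟨n, hn⟩ := h2Z
  rcases h.typ with hty | ⟨δ, hty⟩
  · obtain ⟨c, hc⟩ := hI hty.1
    obtain ⟨t, ht⟩ : ∃ t, x = 4 * t + 1 := ⟨x / 4, by have := hty.1; omega⟩
    rw [hm, hn, ht] at hc
    have e : 2 * (2 * (2 * m * t + m + t - n * c) + 1) = 0 := by linear_combination hc
    omega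
  · obtain ⟨c, hc⟩ := hII δ hty
    obtain ⟨t, ht⟩ : ∃ t, x = 4 * t + 3 := ⟨x / 4, by have := hty.1; omega⟩
    rcases hty.2.2.1 with ⟨rfl, -⟩ | ⟨rfl, -⟩
    · rw [hm, hn, ht] at hc
      have e : 2 * (2 * (2 * m * t + m + t - n * c) + 1) = 0 := by linear_combination hc
      omega
    · rw [hm, hn, ht] at hc
      have e : 2 * (2 * (3 * (2 * m * t + m + t) - n * c + 1) + 1) = 0 := by linear_combination hc
      omega

theorem not_adj [Finite S] {r : ℕ} (hr : r.Prime) (hrM : r ∣ M) : ¬ H94.PG.Adj S r 2 := by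
  rintro ⟨-, -, hne, a, b, ha, hb, hc⟩
  have ho : orderOf (a * b) = r * 2 := by
    rw [hc.orderOf_mul_eq_mul_orderOf_of_coprime (by rw [ha, hb]; exact (Nat.coprime_primes hr Nat.prime_two).2 hne),
      ha, hb]
  exact h.not_two_dvd hr hrM (g := a * b) (by rw [ho]; exact dvd_mul_right _ _) (by rw [ho]; exact dvd_mul_left _ _)

theorem dvd_card [Finite S] {r : ℕ} (hrM : r ∣ M) : r ∣ Nat.card S := by
  obtain ⟨g, hg⟩ := h.elt
  exact (hg ▸ hrM).trans (orderOf_dvd_natCard g)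

theorem exists_prime : ∃ r : ℕ, r.Prime ∧ r ∣ M :=
  Nat.exists_prime_and_dvd (by have := h.M_ge; omega)

/-- an element order divisible by a prime divisor of `M` -/
theorem absN {N r : ℕ} (he : ∃ g : S, orderOf g = N) (hr : r.Prime) (hrM : r ∣ M) (hrN : r ∣ N) :
    (x % 4 = 1 → 2 * (N : ℤ) ∣ M * (x + 1)) ∧ (∀ δ, TII x M δ → 2 * (N : ℤ) ∣ M * (δ * (x - 1))) := by
  obtain ⟨g, rfl⟩ := he
  exact h.abs hr hrM hrN

/-- orders divisible by a prime divisor of `M` are odd -/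
theorem odd_of_dvd {T r : ℕ} (hT : ∃ g : S, orderOf g = T) (hr : r.Prime) (hrM : r ∣ M) (hrT : r ∣ T) : T % 2 = 1 := by
  obtain ⟨g, rfl⟩ := hT
  have h1 := h.not_two_dvd hr hrM hrT
  omega

theorem odd_of_M {T : ℕ} (hT : ∃ g : S, orderOf g = T) (hMT : M ∣ T) : T % 2 = 1 := by
  obtain ⟨r, hr, hrM⟩ := h.exists_prime
  exact h.odd_of_dvd hT hr hrM (hrM.trans hMT)

/-- an element order divisible by `M` -/
theorem tor {T : ℕ} (he : ∃ g : S, orderOf g = T) (hT : M ∣ T) : ∃ a : ℕ, T = a * M ∧ a % 2 = 1 ∧ 1 ≤ a ∧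
    (x % 4 = 1 → 2 * (a : ℤ) ∣ x + 1) ∧ (∀ δ, TII x M δ → 2 * (a : ℤ) ∣ δ * (x - 1)) := by
  obtain ⟨r, hr, hrM⟩ := h.exists_prime
  obtain ⟨hI, hII⟩ := h.absN he hr hrM (hrM.trans hT)
  have ho := h.odd_of_M he hT
  obtain ⟨a, rfl⟩ := hT
  have hM0 : (M : ℤ) ≠ 0 := by have := h.M_pos; omega
  have ha : a % 2 = 1 := by
    rcases Nat.mod_two_eq_zero_or_one a with h4 | h4
    · rw [Nat.mul_mod, h4] at ho; simp at ho
    · exact h4
  refine ⟨a, mul_comm _ _, ha, by omega, fun hx => ?_, fun δ hδ => ?_⟩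
  · obtain ⟨c, hc⟩ := hI hx
    refine ⟨c, mul_left_cancel₀ hM0 ?_⟩
    rw [hc]; push_cast; ring
  · obtain ⟨c, hc⟩ := hII δ hδ
    refine ⟨c, mul_left_cancel₀ hM0 ?_⟩
    rw [hc]; push_cast; ring

/-- `|x|` in terms of `M` -/
theorem x_sq_le : 3 * x ^ 2 ≤ 10 * M ∨ ((x ≤ -17 ∨ 7 ≤ x) ∧ 3 * (M : ℤ) = x ^ 2 + x + 1) := by
  rcases h.typ with ⟨h1, h2, h3⟩ | ⟨δ, h1, h2, h3, h4⟩
  · left; nlinarith
  · rcases h3 with ⟨rfl, h5⟩ | ⟨rfl, h5⟩
    · left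
      rcases h2 with h2 | h2 <;> nlinarith
    · right
      refine ⟨?_, h4⟩
      rcases h2 with h2 | h2
      · exact Or.inr h2
      · left; omega

/-- **The cofactor.** `T = H R` an element order, `M ∣ H`; then `R² ≤ 9 M ≤ 9 H`. -/
theorem rest {T H R : ℕ} (hT : ∃ g : S, orderOf g = T) (hTR : T = H * R) (hM : M ∣ H) (hH : H ≠ 0) :
    R ^ 2 ≤ 9 * M ∧ M ≤ H ∧ (x % 4 = 1 → 2 * (R : ℤ) ∣ x + 1) ∧ (∀ δ, TII x M δ → 2 * (R : ℤ) ∣ δ * (x - 1)) := by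
  obtain ⟨b, rfl⟩ := hM
  obtain ⟨a, ha, -, -, hI, hII⟩ := h.tor hT (by rw [hTR, mul_assoc]; exact dvd_mul_right _ _)
  have hM0 := h.M_pos
  have hab : a = b * R := by
    have : M * a = M * (b * R) := by rw [mul_comm M a, ← ha, hTR]; ring
    exact Nat.eq_of_mul_eq_mul_left hM0 this
  have hb : 1 ≤ b := by
    rcases Nat.eq_zero_or_pos b with rfl | hb
    · simp at hH
    · exact hb
  have kI : x % 4 = 1 → 2 * (R : ℤ) ∣ x + 1 := fun hx => by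
    refine dvd_trans ?_ (hI hx)
    rw [hab]; push_cast
    exact ⟨b, by ring⟩
  have kII : ∀ δ, TII x M δ → 2 * (R : ℤ) ∣ δ * (x - 1) := fun δ hδ => by
    refine dvd_trans ?_ (hII δ hδ)
    rw [hab]; push_cast
    exact ⟨b, by ring⟩
  refine ⟨?_, Nat.le_mul_of_pos_right _ hb, kI, kII⟩
  have hR0 : (0 : ℤ) ≤ R := Int.natCast_nonneg _
  rcases h.typ with hty | ⟨δ, hty⟩
  · obtain ⟨h1, h2, h3⟩ := hty
    have h4 := Int.le_of_dvd (by omega) (kI h1)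
    have h5 : (2 * (R : ℤ)) ^ 2 ≤ (x + 1) ^ 2 := pow_le_pow_left₀ (by omega) h4 2
    have : ((R ^ 2 : ℕ) : ℤ) ≤ ((9 * M : ℕ) : ℤ) := by push_cast; nlinarith
    exact_mod_cast this
  · have hk := kII δ hty
    obtain ⟨h1, h2, h3, h4⟩ := hty
    have hne : δ * (x - 1) ≠ 0 := by
      rcases h3 with ⟨rfl, -⟩ | ⟨rfl, -⟩ <;> omega
    have h5 : (2 * (R : ℤ)) ^ 2 ≤ (δ * (x - 1)) ^ 2 := by
      have := Int.le_of_dvd (abs_pos.2 hne) ((dvd_abs _ _).2 hk)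
      rw [← sq_abs (δ * (x - 1))]
      exact pow_le_pow_left₀ (by omega) this 2
    have : ((R ^ 2 : ℕ) : ℤ) ≤ ((9 * M : ℕ) : ℤ) := by
      push_cast
      rcases h3 with ⟨rfl, -⟩ | ⟨rfl, h6⟩
      · rcases h2 with h2 | h2 <;> nlinarith
      · rcases h2 with h2 | h2
        · nlinarith
        · nlinarith
    exact_mod_cast this

/-- **An element order prime to `M`**, type I -/
theorem freeI {N : ℕ} (he : ∃ g : S, orderOf g = N) (hN : Nat.Coprime N M) (hx : x % 4 = 1) :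
    4 * (N : ℤ) ∣ x ^ 3 - 1 ∨ (N : ℤ) ∣ x ^ 2 - 1 ∨ 4 * (N : ℤ) ∣ p * (x ^ 2 - 1) ∨ (N : ℤ) ∣ p * (x - 1) := by
  obtain ⟨g, rfl⟩ := he
  have hty : TI x M := by
    rcases h.typ with h4 | ⟨δ, h4, -⟩
    · exact h4
    · omega
  have hc := cc_one hx
  rcases h.spec g with hs | hs | hs | hs | hs
  · rw [hc] at hs; exact Or.inl hs
  · right; left
    rw [hc, ← hty.2.2] at hs
    have h1 : 2 * ((orderOf g : ℕ) : ℤ) ∣ M * (x + 1) := by
      obtain ⟨c, hc⟩ := hs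
      exact ⟨c, by linarith⟩
    have h2 : ((orderOf g : ℕ) : ℤ) ∣ M * (x + 1) := (dvd_mul_left _ _).trans h1
    have h3 : IsCoprime ((orderOf g : ℕ) : ℤ) (M : ℤ) := Nat.isCoprime_iff_coprime.2 hN
    have h4 := h3.dvd_of_dvd_mul_left h2
    have := Dvd.dvd.mul_right h4 (x - 1)
    rwa [show (x + 1) * (x - 1) = x ^ 2 - 1 by ring] at this
  · exact Or.inr (Or.inl hs)
  · rw [hc] at hs; exact Or.inr (Or.inr (Or.inl hs))
  · exact Or.inr (Or.inr (Or.inr hs))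

/-- **An element order prime to `M`**, type II -/
theorem freeII {N : ℕ} (he : ∃ g : S, orderOf g = N) (hN : Nat.Coprime N M) {δ : ℤ} (hty : TII x M δ) :
    2 * (N : ℤ) ∣ (x ^ 2 + 1) * (x + 1) ∨ (N : ℤ) ∣ x ^ 2 - 1 ∨ 2 * (N : ℤ) ∣ p * (x ^ 2 - 1) ∨ (N : ℤ) ∣ p * (x - 1) ∨
      2 * (N : ℤ) ∣ δ * (x - 1) := by
  obtain ⟨g, rfl⟩ := he
  have hc := cc_three hty.1
  rcases h.spec g with hs | hs | hs | hs | hs
  · right; right; right; right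
    rw [hc] at hs
    have e : x ^ 3 - 1 = M * (δ * (x - 1)) := by
      have := hty.2.2.2
      linear_combination (1 - x) * this
    rw [e] at hs
    have h3 : IsCoprime (2 * ((orderOf g : ℕ) : ℤ)) (M : ℤ) := by
      have h4 : Nat.Coprime (2 * orderOf g) M :=
        Nat.Coprime.mul_left (Nat.coprime_two_left.2 (Nat.odd_iff.2 h.M_odd)) hN
      have := Nat.isCoprime_iff_coprime.2 h4
      push_cast at this
      exact this
    exact h3.dvd_of_dvd_mul_left hs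
  · rw [hc] at hs; exact Or.inl hs
  · exact Or.inr (Or.inl hs)
  · rw [hc] at hs; exact Or.inr (Or.inr (Or.inl hs))
  · exact Or.inr (Or.inr (Or.inr (Or.inl hs)))

omit [Group S] h in
/-- prime to `M` -/
theorem cop_of {N : ℕ} (hN : ∀ r : ℕ, r.Prime → r ∣ M → ¬ r ∣ N) : Nat.Coprime N M := by
  rw [Nat.coprime_comm]
  exact Nat.coprime_of_dvd fun r hr h1 h2 => hN r hr h1 h2

/-- there is an element of order `r` with `M` dividing the order of its centralizer -/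
theorem exists_cent [Finite S] {r : ℕ} (hrM : r ∣ M) :
    ∃ g : S, orderOf g = r ∧ M ∣ Nat.card ↥(Subgroup.centralizer {g}) := by
  obtain ⟨g, hg⟩ := h.elt
  obtain ⟨k, hk⟩ := hrM
  have hM := h.M_pos
  have hk0 : k ≠ 0 := by
    rintro rfl
    omega
  refine ⟨g ^ k, ?_, ?_⟩
  · rw [orderOf_pow_of_dvd hk0 (by rw [hg, hk]; exact dvd_mul_left _ _), hg, hk,
      Nat.mul_div_cancel _ (Nat.pos_of_ne_zero hk0)]
  · have h3 : g ∈ Subgroup.centralizer {g ^ k} := by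
      rw [Subgroup.mem_centralizer_singleton_iff]
      exact (Commute.self_pow g k).eq
    have h4 : orderOf (⟨g, h3⟩ : ↥(Subgroup.centralizer {g ^ k})) ∣ Nat.card ↥(Subgroup.centralizer {g ^ k}) :=
      orderOf_dvd_natCard _
    rwa [Subgroup.orderOf_mk, hg] at h4

theorem dvd_of_cent [Finite S] {r N : ℕ} (hrM : r ∣ M)
    (hc : ∀ g : S, orderOf g = r → Nat.card ↥(Subgroup.centralizer {g}) ∣ N) : M ∣ N := by
  obtain ⟨g, hg, h1⟩ := h.exists_cent hrM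
  exact h1.trans (hc g hg)

end Cand

end Cfsg.Agent.R2.Spec.X3
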