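import Cfsg.Agent.R2.Spec.X3.Pair

/-!
# Box X3 of S3435: tools for the exceptional rows (helper16)

* `Cand.pair_odd`, `Cand.pair_even` : the pair lemma, by the parity of `N`;
* `Cand.odd_T`.
-/

set_option autoImplicit false

namespace Cfsg.Agent.R2.Spec.X3

/-- the exceptional triples with `N` odd -/
def excOdd : List (ℤ × ℤ × ℤ) := [(5, 13, 5), (5, 39, 31), (13, 595, 549), (25, 313, 279), (7, 19, 21), (7, 19, 25),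
  (-89, 2611, 2563), (343, 39331, 38915)]

/-- the exceptional triples with `N` even, type I -/
def excE1 : List (ℤ × ℤ × ℤ) := [(5, 13, 6), (5, 13, 8), (5, 13, 20), (17, 1305, 1228)]

/-- the exceptional triples with `N` even, type II -/
def excE2 : List (ℤ × ℤ × ℤ) := [(7, 19, 10), (7, 19, 12), (7, 19, 20), (7, 19, 24),
  (7, 19, 28), (7, 171, 200), (-17, 91, 72), (-17, 91, 80), (31, 331, 296), (-41, 547, 580), (307, 31519, 31900)]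

theorem excI_odd {x T N : ℤ} (hN : N % 2 = 1) (h : (x, T, N) ∈ excI) : (x, T, N) ∈ excOdd := by
  simp only [excI, List.mem_cons, Prod.mk.injEq, List.not_mem_nil, or_false] at h
  rcases h with ⟨rfl, rfl, rfl⟩ | ⟨rfl, rfl, rfl⟩ | ⟨rfl, rfl, rfl⟩ | ⟨rfl, rfl, rfl⟩ | ⟨rfl, rfl, rfl⟩ | ⟨rfl, rfl, rfl⟩ |
    ⟨rfl, rfl, rfl⟩ | ⟨rfl, rfl, rfl⟩ <;> first | (simp [excOdd]; done) | (exfalso; revert hN; norm_num; done)

theorem excI_even {x T N : ℤ} (hN : N % 2 = 0) (h : (x, T, N) ∈ excI) : (x, T, N) ∈ excE1 := by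
  simp only [excI, List.mem_cons, Prod.mk.injEq, List.not_mem_nil, or_false] at h
  rcases h with ⟨rfl, rfl, rfl⟩ | ⟨rfl, rfl, rfl⟩ | ⟨rfl, rfl, rfl⟩ | ⟨rfl, rfl, rfl⟩ | ⟨rfl, rfl, rfl⟩ | ⟨rfl, rfl, rfl⟩ |
    ⟨rfl, rfl, rfl⟩ | ⟨rfl, rfl, rfl⟩ <;> first | (simp [excE1]; done) | (exfalso; revert hN; norm_num; done)

theorem excII_odd {x T N : ℤ} (hN : N % 2 = 1) (h : (x, T, N) ∈ excII) : (x, T, N) ∈ excOdd := by
  simp only [excII, List.mem_cons, Prod.mk.injEq, List.not_mem_nil, or_false] at h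
  rcases h with ⟨rfl, rfl, rfl⟩ | ⟨rfl, rfl, rfl⟩ | ⟨rfl, rfl, rfl⟩ | ⟨rfl, rfl, rfl⟩ | ⟨rfl, rfl, rfl⟩ | ⟨rfl, rfl, rfl⟩ |
    ⟨rfl, rfl, rfl⟩ | ⟨rfl, rfl, rfl⟩ | ⟨rfl, rfl, rfl⟩ | ⟨rfl, rfl, rfl⟩ | ⟨rfl, rfl, rfl⟩ | ⟨rfl, rfl, rfl⟩ |
    ⟨rfl, rfl, rfl⟩ | ⟨rfl, rfl, rfl⟩ | ⟨rfl, rfl, rfl⟩ <;> first | (simp [excOdd]; done) | (exfalso; revert hN; norm_num; done)

theorem excII_even {x T N : ℤ} (hN : N % 2 = 0) (h : (x, T, N) ∈ excII) : (x, T, N) ∈ excE2 := by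
  simp only [excII, List.mem_cons, Prod.mk.injEq, List.not_mem_nil, or_false] at h
  rcases h with ⟨rfl, rfl, rfl⟩ | ⟨rfl, rfl, rfl⟩ | ⟨rfl, rfl, rfl⟩ | ⟨rfl, rfl, rfl⟩ | ⟨rfl, rfl, rfl⟩ | ⟨rfl, rfl, rfl⟩ |
    ⟨rfl, rfl, rfl⟩ | ⟨rfl, rfl, rfl⟩ | ⟨rfl, rfl, rfl⟩ | ⟨rfl, rfl, rfl⟩ | ⟨rfl, rfl, rfl⟩ | ⟨rfl, rfl, rfl⟩ |
    ⟨rfl, rfl, rfl⟩ | ⟨rfl, rfl, rfl⟩ | ⟨rfl, rfl, rfl⟩ <;> first | (simp [excE2]; done) | (exfalso; revert hN; norm_num; done)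

theorem out_odd {p : ℕ} {x T N : ℤ} (hN : N % 2 = 1) (h : PairOut p x T N) :
    ((p : ℤ) = x ∧ x % 4 = 1 ∧ 5 ≤ x ∧ 2 * T = x ^ 2 + 1 ∧ 2 * N = x ^ 2 + x) ∨ (x, T, N) ∈ excOdd := by
  rcases h with ⟨hx4, hx5, h⟩ | ⟨hx4, hx5, h⟩
  · obtain ⟨t, rfl⟩ : ∃ t, x = 4 * t + 1 := ⟨x / 4, by omega⟩
    rcases h with ⟨h1, h2⟩ | ⟨h0, h1, h2⟩ | ⟨h0, a, ha, hao, h1, h2⟩ | hexc
    · exfalso
      have e : (4 * t + 1) ^ 2 - 1 = 2 * (2 * (4 * t ^ 2 + 2 * t)) := by ring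
      rw [e] at h2
      clear * - h2 hN
      omega
    · exact Or.inl ⟨h0, hx4, hx5, h1, h2⟩
    · exfalso
      have e : a * ((4 * t + 1) ^ 2 - (4 * t + 1)) = 2 * (2 * (a * (4 * t ^ 2 + t))) := by ring
      rw [e] at h2
      clear * - h2 hN
      omega
    · exact Or.inr (excI_odd hN hexc)
  · obtain ⟨t, rfl⟩ : ∃ t, x = 4 * t + 3 := ⟨x / 4, by omega⟩
    rcases h with ⟨δ, hδ, h⟩ | ⟨h1, h2⟩ | hexc
    · exfalso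
      have key : ∃ w, δ * N = 2 * w := by
        rcases h with ⟨h1, h2⟩ | ⟨h0, h1, h2⟩ | ⟨h0, a, ha, hao, h1, h2⟩
        · exact ⟨8 * t ^ 2 + 12 * t + 4, by rw [h2]; ring⟩
        · exact ⟨8 * t ^ 2 + 10 * t + 3, by rw [h2]; ring⟩
        · exact ⟨a * (8 * t ^ 2 + 14 * t + 6), by rw [h2]; ring⟩
      obtain ⟨w, hw⟩ := key
      clear * - hδ hw hN
      rcases hδ with rfl | rfl <;> omega
    · exfalso
      have e : (4 * t + 3) ^ 2 + 1 = 2 * (8 * t ^ 2 + 12 * t + 5) := by ring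
      rw [e] at h2
      clear * - h2 hN
      omega
    · exact Or.inr (excII_odd hN hexc)

theorem out_even {p : ℕ} {x T N : ℤ} (hN : N % 2 = 0) (h : PairOut p x T N) :
    (x % 4 = 1 ∧ 5 ≤ x ∧ ((2 * T = x ^ 2 + 1 ∧ 2 * N = x ^ 2 - 1) ∨
      ((p : ℤ) = x ∧ ∃ a : ℤ, 1 ≤ a ∧ a % 2 = 1 ∧ 2 * T = a * (x ^ 2 + 1) ∧ 2 * N = a * (x ^ 2 - x)) ∨
      (x, T, N) ∈ excE1)) ∨
    (x % 4 = 3 ∧ (7 ≤ x ∨ x ≤ -13) ∧ ((∃ δ : ℤ, (δ = 1 ∨ δ = 3) ∧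
      ((N % 8 = 0 ∧ δ * T = x ^ 2 + x + 1 ∧ δ * N = x ^ 2 - 1) ∨
       (N % 4 = 2 ∧ (p : ℤ) = |x| ∧ δ * T = x ^ 2 + x + 1 ∧ δ * N = x ^ 2 - x) ∨
       (N % 4 = 0 ∧ (p : ℤ) = |x| ∧
        ∃ a : ℤ, 1 ≤ a ∧ a % 2 = 1 ∧ δ * T = a * (x ^ 2 + x + 1) ∧ δ * N = a * (x ^ 2 + x)))) ∨
      (N % 8 = 2 ∧ T = x ^ 2 + x + 1 ∧ N = x ^ 2 + 1) ∨
      (x, T, N) ∈ excE2)) := by
  rcases h with ⟨hx4, hx5, h⟩ | ⟨hx4, hx5, h⟩
  · refine Or.inl ⟨hx4, hx5, ?_⟩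
    obtain ⟨t, rfl⟩ : ∃ t, x = 4 * t + 1 := ⟨x / 4, by omega⟩
    rcases h with ⟨h1, h2⟩ | ⟨h0, h1, h2⟩ | h | hexc
    · exact Or.inl ⟨h1, h2⟩
    · exfalso
      have e : (4 * t + 1) ^ 2 + (4 * t + 1) = 2 * (2 * (4 * t ^ 2 + 3 * t) + 1) := by ring
      rw [e] at h2
      clear * - h2 hN
      omega
    · exact Or.inr (Or.inl h)
    · exact Or.inr (Or.inr (excI_even hN hexc))
  · refine Or.inr ⟨hx4, hx5, ?_⟩
    obtain ⟨t, rfl⟩ : ∃ t, x = 4 * t + 3 := ⟨x / 4, by omega⟩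
    rcases h with ⟨δ, hδ, h⟩ | ⟨h1, h2⟩ | hexc
    · left
      refine ⟨δ, hδ, ?_⟩
      rcases h with ⟨h1, h2⟩ | ⟨h0, h1, h2⟩ | ⟨h0, a, ha, hao, h1, h2⟩
      · left
        refine ⟨?_, h1, h2⟩
        obtain ⟨w, hw⟩ : ∃ w, 2 * t ^ 2 + 3 * t + 1 = w := ⟨_, rfl⟩
        have e : (4 * t + 3) ^ 2 - 1 = 8 * w := by rw [← hw]; ring
        rw [e] at h2
        clear * - h2 hδ
        rcases hδ with rfl | rfl <;> omega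
      · right; left
        refine ⟨?_, h0, h1, h2⟩
        obtain ⟨w, hw⟩ : ∃ w, 4 * t ^ 2 + 5 * t + 1 = w := ⟨_, rfl⟩
        have e : (4 * t + 3) ^ 2 - (4 * t + 3) = 4 * w + 2 := by rw [← hw]; ring
        rw [e] at h2
        clear * - h2 hδ
        rcases hδ with rfl | rfl <;> omega
      · right; right
        refine ⟨?_, h0, a, ha, hao, h1, h2⟩
        obtain ⟨w, hw⟩ : ∃ w, a * (4 * t ^ 2 + 7 * t + 3) = w := ⟨_, rfl⟩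
        have e : a * ((4 * t + 3) ^ 2 + (4 * t + 3)) = 4 * w := by rw [← hw]; ring
        rw [e] at h2
        clear * - h2 hδ
        rcases hδ with rfl | rfl <;> omega
    · right; left
      refine ⟨?_, h1, h2⟩
      obtain ⟨w, hw⟩ : ∃ w, 2 * t ^ 2 + 3 * t + 1 = w := ⟨_, rfl⟩
      have e : (4 * t + 3) ^ 2 + 1 = 8 * w + 2 := by rw [← hw]; ring
      rw [e] at h2
      clear * - h2
      omega
    · exact Or.inr (Or.inr (excII_even hN hexc))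

namespace Cand

variable {p M : ℕ} {x : ℤ} {S : Type*} [Group S] (h : Cand p x M S)

include h

/-- the pair lemma, `N` odd -/
theorem pair_odd {T N : ℕ} (hT : ∃ g : S, orderOf g = T) (hMT : M ∣ T) (hN : ∃ g : S, orderOf g = N)
    (hodd : N % 2 = 1) (hNM : Nat.Coprime N M) (hK : ((T : ℤ) - N) ^ 2 ≤ 5 * T) :
    ((p : ℤ) = x ∧ x % 4 = 1 ∧ 5 ≤ x ∧ 2 * (T : ℤ) = x ^ 2 + 1 ∧ 2 * (N : ℤ) = x ^ 2 + x) ∨
      (x, (T : ℤ), (N : ℤ)) ∈ excOdd :=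
  out_odd (by omega) (h.pair hT hMT hN (by omega) hNM hK)

/-- primes dividing the characteristic -/
theorem not_pow {v m z : ℕ} (hv : v.Prime) (hvp : v ≠ p) (hz : z = v ^ m) : ¬ (p : ℤ) ∣ z := by
  intro h1
  have h2 : p ∣ z := by exact_mod_cast h1
  rw [hz] at h2
  exact hvp ((Nat.prime_dvd_prime_iff_eq h.hp hv).1 (h.hp.dvd_of_dvd_pow h2)).symm

/-- `gcd (T, N) ∣ 3` by a Bezout identity -/
theorem coprime_of_bezout {T N : ℕ} (hT : M ∣ T) (a b : ℤ)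
    (hab : a * T + b * N = 3 ∨ a * T + b * N = 1) : Nat.Coprime N M := by
  refine Nat.coprime_of_dvd fun k hk h1 h2 => ?_
  have h3 : (k : ℤ) ∣ a * T + b * N :=
    dvd_add ((Int.natCast_dvd_natCast.2 (h2.trans hT)).mul_left _) ((Int.natCast_dvd_natCast.2 h1).mul_left _)
  rcases hab with hab | hab
  · rw [hab] at h3
    have h4 : k ∣ 3 := by exact_mod_cast h3
    have h5 := (Nat.prime_dvd_prime_iff_eq hk Nat.prime_three).1 h4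
    exact h.not_three (h5 ▸ h2)
  · rw [hab] at h3
    have h4 : k ∣ 1 := by exact_mod_cast h3
    exact hk.one_lt.ne' (Nat.dvd_one.1 h4)

end Cand

end Cfsg.Agent.R2.Spec.X3
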