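import Cfsg.Agent.R2.Spec.X3.ExcA
import Cfsg.Agent.H437.Iso.Untw

/-!
# Box X3 of S3435: the row `G₂(u)` (helper16)
-/

set_option autoImplicit false
set_option linter.unusedVariables false

namespace Cfsg.Agent.R2.Spec.X3

open Cfsg Cfsg.Lie Cfsg.Agent.H437.Iso
open Cfsg.Agent.H378.AdjTab Cfsg.Agent.H378.CycTab Cfsg.Agent.H378.ExcAdj Cfsg.Agent.H378.ExcNear
open Cfsg.Agent.Nodes.RGDChev Cfsg.Agent.BpExc.FamInst Cfsg.Agent.BpExc.RowsUntw Cfsg.Agent.BpExc.FamExt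

theorem g2_exc {T N : ℤ} {x w : ℤ} (hw : 3 ≤ w ∨ w ≤ -3) (hT : T = w ^ 2 + w + 1) (hN : N = w ^ 2 - 1)
    (h : (x, T, N) ∈ excOdd ∨ (x, T, N) ∈ excE1 ∨ (x, T, N) ∈ excE2) :
    (w = 3 ∧ x = 5) ∨ (w = 9 ∧ x = -17) := by
  have hd : w = T - N - 2 := by rw [hT, hN]; ring
  rw [hd] at hT
  simp only [excOdd, excE1, excE2, List.mem_cons, Prod.mk.injEq, List.not_mem_nil, or_false] at h
  rcases h with (h | h | h | h | h | h | h | h) | (h | h | h | h) | (h | h | h | h | h | h | h | h | h | h | h) <;>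
    obtain ⟨h1, h2, h3⟩ := h <;> rw [h2, h3] at hT hd <;> first | (norm_num at hT; done) | (clear hT; omega)

theorem g2_I3 {x w a : ℤ} (hw : 3 ≤ w ∨ w ≤ -3) (hx : 5 ≤ x) (ha : 1 ≤ a) (hao : a % 2 = 1)
    (h1 : 2 * (w ^ 2 + w + 1) = a * (x ^ 2 + 1)) (h2 : 2 * (w ^ 2 - 1) = a * (x ^ 2 - x)) : False := by
  have h3 : a * (x + 1) = 2 * w + 4 := by linarith
  have h4 : 6 * a ≤ 2 * w + 4 := by
    have : a * 6 ≤ a * (x + 1) := mul_le_mul_of_nonneg_left (by linarith) (by linarith)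
    linarith
  have hw3 : 3 ≤ w := by omega
  have h5 : a * x = 2 * w + 4 - a := by linarith
  have h6 : a * (2 * (w ^ 2 + w + 1)) = (2 * w + 4 - a) ^ 2 + a ^ 2 := by
    rw [h1]
    have e : a * (a * (x ^ 2 + 1)) = (a * x) ^ 2 + a ^ 2 := by ring
    rw [e, h5]
  rcases (by omega : a = 1 ∨ a = 3 ∨ 5 ≤ a) with rfl | rfl | ha5
  · nlinarith
  · have h7 : (w - 1) * (w + 2) = 0 := by linarith
    rcases mul_eq_zero.1 h7 with h8 | h8 <;> omega
  · have h7 : a * (2 * (w ^ 2 + w + 1)) ≥ 5 * (2 * (w ^ 2 + w + 1)) :=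
      mul_le_mul_of_nonneg_right ha5 (by nlinarith)
    have h8 : (2 * w + 4 - a) ^ 2 ≤ (2 * w) ^ 2 := by
      apply pow_le_pow_left₀ <;> linarith
    have h9 : a ^ 2 ≤ w ^ 2 := by
      apply pow_le_pow_left₀ <;> linarith
    nlinarith

theorem g2_num {p : ℕ} {x w : ℤ} (hw : 3 ≤ w ∨ w ≤ -3) (hpw : ¬ (p : ℤ) ∣ w) (hpx : (p : ℤ) ∣ x)
    (h : PairOut p x (w ^ 2 + w + 1) (w ^ 2 - 1)) : (w = -4 ∧ x = 5) ∨ (w = 3 ∧ x = 5) ∨ (w = 9 ∧ x = -17) := by
  rcases Int.emod_two_eq_zero_or_one w with hw2 | hw2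
  · have hN : (w ^ 2 - 1) % 2 = 1 := by
      obtain ⟨t, rfl⟩ : ∃ t, w = 2 * t := ⟨w / 2, by omega⟩
      have e : (2 * t) ^ 2 - 1 = 2 * (2 * t ^ 2) - 1 := by ring
      rw [e]
      generalize 2 * t ^ 2 = s
      omega
    rcases out_odd hN h with ⟨-, -, h5, h1, h2⟩ | h
    · have h3 : x = -2 * w - 3 := by linarith
      rw [h3] at h2
      have h4 : (w + 1) * (w + 4) = 0 := by linarith
      rcases mul_eq_zero.1 h4 with h6 | h6
      · omega
      · left
        omega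
    · exact Or.inr (g2_exc hw rfl rfl (Or.inl h))
  · obtain ⟨s, hs⟩ : ∃ s, w ^ 2 - 1 = 8 * s := by
      obtain ⟨t, rfl⟩ : ∃ t, w = 2 * t + 1 := ⟨w / 2, by omega⟩
      obtain ⟨y, hy⟩ := Int.even_mul_succ_self t
      exact ⟨y, by linear_combination 4 * hy⟩
    have hN8 : (w ^ 2 - 1) % 8 = 0 := by rw [hs]; omega
    rcases out_even (by omega) h with ⟨hx4, hx5, h⟩ | ⟨hx4, hx5, h⟩
    · rcases h with ⟨h1, h2⟩ | ⟨h0, a, ha, hao, h1, h2⟩ | h
      · have h3 : w = -1 := by linarith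
        omega
      · exact (g2_I3 hw hx5 ha hao h1 h2).elim
      · exact Or.inr (g2_exc hw rfl rfl (Or.inr (Or.inl h)))
    · rcases h with ⟨δ, hδ, h⟩ | ⟨h0, -, -⟩ | h
      · rcases h with ⟨-, h1, h2⟩ | ⟨h0, -, -⟩ | ⟨-, -, a, ha, hao, h1, h2⟩
        · exfalso
          rcases hδ with rfl | rfl
          · have h3 : w = x := by linarith
            rw [h3] at hpw
            exact hpw hpx
          · have h3 : x = 3 * w + 4 := by linarith
            rw [h3] at h2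
            have h4 : (w + 1) * (w + 3) = 0 := by linarith
            rcases mul_eq_zero.1 h4 with h6 | h6
            · omega
            · omega
        · omega
        · exfalso
          have h3 : a = δ * (w + 2) := by linarith
          have hδ0 : δ ≠ 0 := by rcases hδ with rfl | rfl <;> norm_num
          rw [h3, mul_assoc] at h2
          have h4 := mul_left_cancel₀ hδ0 h2
          have h5 : w + 2 ∣ 3 := ⟨x ^ 2 + x - (w - 2), by linarith⟩
          have h6 : 0 < w + 2 := by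
            by_contra hcon
            push Not at hcon
            have : δ * (w + 2) ≤ 0 := by rcases hδ with rfl | rfl <;> linarith
            linarith
          have h7 := Int.le_of_dvd (by norm_num) h5
          omega
      · omega
      · exact Or.inr (g2_exc hw rfl rfl (Or.inr (Or.inr h)))

/-- the three exceptions -/
theorem g2_end {p M : ℕ} {x w : ℤ} {S : Type*} [Group S] (h : Cand p x M S)
    (hw : (w = -4 ∧ x = 5) ∨ (w = 3 ∧ x = 5) ∨ (w = 9 ∧ x = -17)) {N : ℕ} (hN : (N : ℤ) = w ^ 2 - w + 1)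
    (he : ∃ g : S, orderOf g = N) : False := by
  obtain ⟨g, hg⟩ := he
  have hs := h.spec g
  rw [hg, hN] at hs
  obtain ⟨k, hk, hx⟩ := h.ex
  have hp : ∀ {n : ℕ}, n.Prime → x.natAbs = n → p = n := by
    intro n hn hxn
    rw [hxn] at hx
    have h1 : p ∣ n := by rw [hx]; exact dvd_pow_self _ (by omega)
    exact (Nat.prime_dvd_prime_iff_eq h.hp hn).1 h1
  unfold Sp cc at hs
  rcases hw with ⟨rfl, rfl⟩ | ⟨rfl, rfl⟩ | ⟨rfl, rfl⟩
  · rw [hp (n := 5) (by norm_num) rfl] at hs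
    revert hs
    decide
  · rw [hp (n := 5) (by norm_num) rfl] at hs
    revert hs
    decide
  · rw [hp (n := 17) (by norm_num) rfl] at hs
    revert hs
    decide

/-- **`G₂(u)`** -/
theorem row_g2 {F : Type*} [Field F] [Fintype F] (h3 : 3 ≤ Fintype.card F) {p M : ℕ} {x : ℤ} (hpF : (p : F) ≠ 0)
    (h : Cand p x M ↥(Lie.chevG2.group F)) : False := by
  obtain ⟨r, hr, hrM⟩ := h.exists_prime
  have hu : 3 ≤ Nat.card F := by rw [Nat.card_eq_fintype_card]; exact h3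
  have huZ : (3 : ℤ) ≤ Nat.card F := by exact_mod_cast hu
  have hpu : ¬ (p : ℤ) ∣ (Nat.card F : ℤ) := by
    intro h1
    have h2 : p ∣ Nat.card F := by exact_mod_cast h1
    obtain ⟨v, hv⟩ := CharP.exists F
    have hvp : v.Prime := (CharP.char_is_prime_or_zero F v).resolve_right (CharP.char_ne_zero_of_finite F v)
    obtain ⟨n, -, hn⟩ := FiniteField.card F v
    rw [Nat.card_eq_fintype_card, hn] at h2
    have h3 := (Nat.prime_dvd_prime_iff_eq h.hp hvp).1 (h.hp.dvd_of_dvd_pow h2)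
    rw [h3] at hpF
    exact hpF (CharP.cast_eq_zero F v)
  have h0 : 3 * Nat.card F ≤ Nat.card F ^ 2 := by rw [pow_two]; exact Nat.mul_le_mul_right _ hu
  have hz' : ((Nat.card F ^ 2 - 1 : ℕ) : ℤ) = (Nat.card F : ℤ) ^ 2 - 1 := by
    push_cast [show 1 ≤ Nat.card F ^ 2 by omega]
    rfl
  have hz3 : ((Nat.card F ^ 2 + Nat.card F + 1 : ℕ) : ℤ) = (Nat.card F : ℤ) ^ 2 + Nat.card F + 1 := by push_cast; rfl
  rcases adj_G2 F hr (h.dvd_card hrM) with h1 | h1 | h1 | h1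
  · exact (h.prime_facts hr hrM).1 h1
  · exact h.not_adj hr hrM h1
  · have hT : M ∣ Nat.card F ^ 2 + Nat.card F + 1 := by
      refine h.dvd_of_cent hrM fun x hx => ?_
      have h2 := (H378.RegFin.cent_od g2T inv_G2 one_ne_zero hr hx h1 (by decide) (by norm_num)).2
      rw [eval_cyc3, show ((Nat.card F : ℕ) : ℤ) ^ 2 + ((Nat.card F : ℕ) : ℤ) + 1 = ((Nat.card F ^ 2 + Nat.card F + 1 : ℕ) : ℤ) by
        push_cast; rfl, Int.natAbs_natCast] at h2
      exact h2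
    have h4 := h.pair g2_order3 hT g2_order1 (by omega) (h.coprime_of_bezout hT (-((Nat.card F : ℤ) - 2))
      ((Nat.card F : ℤ) - 1) (Or.inl (by rw [hz3, hz']; ring))) (by rw [hz3, hz']; nlinarith)
    rw [hz3, hz'] at h4
    refine g2_end h (g2_num (Or.inl huZ) hpu h.p_dvd h4) ?_ g2_order6
    rw [g2_cast6]
  · have hT : M ∣ Nat.card F ^ 2 - Nat.card F + 1 := by
      refine h.dvd_of_cent hrM fun x hx => ?_
      have h2 := (H378.RegFin.cent_od g2T inv_G2 one_ne_zero hr hx h1 (by decide) (by norm_num)).2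
      rw [eval_cyc6, ← g2_cast6, Int.natAbs_natCast] at h2
      exact h2
    have h4 := h.pair g2_order6 hT g2_order1 (by omega) (h.coprime_of_bezout hT ((Nat.card F : ℤ) + 2)
      (-((Nat.card F : ℤ) + 1)) (Or.inl (by rw [g2_cast6, hz']; ring))) (by rw [g2_cast6, hz']; nlinarith)
    rw [g2_cast6, hz'] at h4
    refine g2_end (w := -(Nat.card F : ℤ)) h (g2_num (Or.inr (by linarith)) (fun h5 => hpu ((dvd_neg).1 h5)) h.p_dvd ?_) ?_ g2_order3
    · have e1 : (-(Nat.card F : ℤ)) ^ 2 + -(Nat.card F : ℤ) + 1 = (Nat.card F : ℤ) ^ 2 - Nat.card F + 1 := by ring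
      have e2 : (-(Nat.card F : ℤ)) ^ 2 - 1 = (Nat.card F : ℤ) ^ 2 - 1 := by ring
      rw [e1, e2]
      exact h4
    · rw [hz3]; ring

end Cfsg.Agent.R2.Spec.X3
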