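import Cfsg.Agent.R2.Spec.X3.ExcA
import Cfsg.Agent.S1159
import Cfsg.Agent.H372.SzSpec
import Cfsg.Agent.OddCyclic.ClaimC.SzIso

/-!
# Box X3 of S3435: the Suzuki groups and the Ree groups `²G₂` (helper16)

* `row_sz`, `row_ree`.
-/

set_option autoImplicit false
set_option linter.unusedTactic false

namespace Cfsg.Agent.R2.Spec.X3

open Cfsg

/-- the case `T > N` or `T < N`, all odd: Suzuki -/
theorem sz_A {p : ℕ} {x w : ℤ} (hw : 2 ≤ w)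
    (h : ((p : ℤ) = x ∧ x % 4 = 1 ∧ 5 ≤ x ∧ 2 * (2 * w ^ 2 - 1) = x ^ 2 + 1 ∧ 2 * (2 * w ^ 2 - 2 * w + 1) = x ^ 2 + x) ∨
      (x, 2 * w ^ 2 - 1, 2 * w ^ 2 - 2 * w + 1) ∈ excOdd) : False := by
  rcases h with ⟨-, -, h5, h1, h2⟩ | h
  · have : x = 5 - 4 * w := by linarith
    omega
  · simp only [excOdd, List.mem_cons, Prod.mk.injEq, List.not_mem_nil, or_false] at h
    rcases h with ⟨-, h1, h2⟩ | ⟨-, h1, h2⟩ | ⟨-, h1, h2⟩ | ⟨-, h1, h2⟩ | ⟨-, h1, h2⟩ | ⟨-, h1, h2⟩ | ⟨-, h1, h2⟩ | ⟨-, h1, h2⟩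
    · have h3 : w = 5 := by linarith
      subst h3; norm_num at h1
    · have h3 : w = 5 := by linarith
      subst h3; norm_num at h1
    · have h3 : w = 24 := by linarith
      subst h3; norm_num at h1
    · have h3 : w = 18 := by linarith
      subst h3; norm_num at h1
    · have h3 : w = 0 := by linarith
      omega
    · have h3 : w = -2 := by linarith
      omega
    · have h3 : w = 25 := by linarith
      subst h3; norm_num at h1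
    · have h3 : w = 209 := by linarith
      subst h3; norm_num at h1

theorem sz_B {p : ℕ} {x w : ℤ} (hw : 2 ≤ w)
    (h : ((p : ℤ) = x ∧ x % 4 = 1 ∧ 5 ≤ x ∧ 2 * (2 * w ^ 2 + 2 * w + 1) = x ^ 2 + 1 ∧ 2 * (2 * w ^ 2 - 1) = x ^ 2 + x) ∨
      (x, 2 * w ^ 2 + 2 * w + 1, 2 * w ^ 2 - 1) ∈ excOdd) : False := by
  rcases h with ⟨-, -, h5, h1, h2⟩ | h
  · have : x = -4 * w - 3 := by linarith
    omega
  · simp only [excOdd, List.mem_cons, Prod.mk.injEq, List.not_mem_nil, or_false] at h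
    rcases h with ⟨-, h1, h2⟩ | ⟨-, h1, h2⟩ | ⟨-, h1, h2⟩ | ⟨-, h1, h2⟩ | ⟨-, h1, h2⟩ | ⟨-, h1, h2⟩ | ⟨-, h1, h2⟩ | ⟨-, h1, h2⟩
    · have h3 : w = 3 := by linarith
      subst h3; norm_num at h1
    · have h3 : w = 3 := by linarith
      subst h3; norm_num at h1
    · have h3 : w = 22 := by linarith
      subst h3; norm_num at h1
    · have h3 : w = 16 := by linarith
      subst h3; norm_num at h1
    · omega
    · omega
    · have h3 : w = 23 := by linarith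
      subst h3; norm_num at h1
    · have h3 : w = 207 := by linarith
      subst h3; norm_num at h1

theorem sz_C {p : ℕ} {x w : ℤ} (hw : 2 ≤ w)
    (h : ((p : ℤ) = x ∧ x % 4 = 1 ∧ 5 ≤ x ∧ 2 * (2 * w ^ 2 - 2 * w + 1) = x ^ 2 + 1 ∧ 2 * (2 * w ^ 2 - 1) = x ^ 2 + x) ∨
      (x, 2 * w ^ 2 - 2 * w + 1, 2 * w ^ 2 - 1) ∈ excOdd) : False := by
  rcases h with ⟨-, -, h5, h1, h2⟩ | h
  · have h3 : x = 4 * w - 3 := by linarith
    subst h3
    have h4 : (3 * w - 2) * (w - 1) = 0 := by linarith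
    rcases mul_eq_zero.1 h4 with h5 | h5 <;> omega
  · simp only [excOdd, List.mem_cons, Prod.mk.injEq, List.not_mem_nil, or_false] at h
    rcases h with ⟨-, h1, h2⟩ | ⟨-, h1, h2⟩ | ⟨-, h1, h2⟩ | ⟨-, h1, h2⟩ | ⟨-, h1, h2⟩ | ⟨-, h1, h2⟩ | ⟨-, h1, h2⟩ | ⟨-, h1, h2⟩
    · omega
    · omega
    · omega
    · omega
    · have h3 : w = 2 := by linarith
      subst h3; norm_num at h1
    · have h3 : w = 4 := by linarith
      subst h3; norm_num at h1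
    · omega
    · omega

theorem bez {T N : ℕ} (a b : ℤ) (h : a * T + b * N = 1) : Nat.Coprime T N := by
  rw [← Nat.isCoprime_iff_coprime]
  exact ⟨a, b, h⟩

/-- **Suzuki groups** -/
theorem row_sz {F : Type*} [Field F] [Fintype F] {m p M : ℕ} {x : ℤ} (hm : 1 ≤ m) (hF : Fintype.card F = 2 ^ (2 * m + 1))
    (h : Cand p x M ↥(Lie.Sz F (2 ^ (m + 1)))) : False := by
  obtain ⟨i⟩ := Cfsg.Agent.OddCyclic.ClaimC.SzIso.iso hm hF
  have h' : Cand p x M (Cfsg.Sz F m) := h.congr i.symm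
  obtain ⟨hs, hA, hB, hC⟩ := Cfsg.Agent.H372.SzSpec.spec (F := F) hm hF
  obtain ⟨w, hw, hw2⟩ : ∃ w, 2 ^ m = w ∧ 2 ≤ w := ⟨2 ^ m, rfl, by
    calc 2 = 2 ^ 1 := by norm_num
      _ ≤ 2 ^ m := Nat.pow_le_pow_right (by norm_num) hm⟩
  have e1 : 2 ^ (2 * m + 1) = 2 * w ^ 2 := by
    rw [← hw, ← pow_mul, pow_succ]
    ring
  have e2 : 2 ^ (m + 1) = 2 * w := by
    rw [← hw]
    ring
  rw [e1, e2] at hs hB hC
  rw [e1] at hA
  have hww : 2 * w ≤ w ^ 2 := by nlinarith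
  obtain ⟨g, hg⟩ := h'.elt
  have hso := hs g (by rw [hg, Nat.odd_iff]; exact h'.M_odd)
  rw [hg] at hso
  have cA : ((2 * w ^ 2 - 1 : ℕ) : ℤ) = 2 * (w : ℤ) ^ 2 - 1 := by
    rw [Nat.cast_sub (by omega)]; push_cast; ring
  have cB : ((2 * w ^ 2 + 2 * w + 1 : ℕ) : ℤ) = 2 * (w : ℤ) ^ 2 + 2 * w + 1 := by push_cast; ring
  have cC : ((2 * w ^ 2 - 2 * w + 1 : ℕ) : ℤ) = 2 * (w : ℤ) ^ 2 - 2 * w + 1 := by
    rw [Nat.cast_add, Nat.cast_sub (by omega)]; push_cast; ring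
  have hwZ : (2 : ℤ) ≤ w := by exact_mod_cast hw2
  rcases hso with h1 | h1 | h1
  · -- `T = u - 1`, `N = u - ρ + 1`
    have hcop : Nat.Coprime (2 * w ^ 2 - 2 * w + 1) (2 * w ^ 2 - 1) := by
      refine bez ((w : ℤ) + 1) (-(w : ℤ)) ?_
      rw [cA, cC]; ring
    have h2 := h'.pair_odd hA h1 hC (by omega) (hcop.coprime_dvd_right h1) (by rw [cA, cC]; nlinarith)
    rw [cA, cC] at h2
    exact sz_A hwZ h2
  · -- `T = u + ρ + 1`, `N = u - 1`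
    have hcop : Nat.Coprime (2 * w ^ 2 - 1) (2 * w ^ 2 + 2 * w + 1) := by
      refine bez (w : ℤ) (-((w : ℤ) - 1)) ?_
      rw [cA, cB]; ring
    have h2 := h'.pair_odd hB h1 hA (by omega) (hcop.coprime_dvd_right h1) (by rw [cA, cB]; nlinarith)
    rw [cA, cB] at h2
    exact sz_B hwZ h2
  · -- `T = u - ρ + 1`, `N = u - 1`
    have hcop : Nat.Coprime (2 * w ^ 2 - 1) (2 * w ^ 2 - 2 * w + 1) := by
      refine bez (-(w : ℤ)) ((w : ℤ) + 1) ?_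
      rw [cA, cC]; ring
    have h2 := h'.pair_odd hC h1 hA (by omega) (hcop.coprime_dvd_right h1) (by rw [cA, cC]; nlinarith)
    rw [cA, cC] at h2
    exact sz_C hwZ h2

/-- `T = 3 t² + 3 ε t + 1`, `N = 3 t² - 1` -/
theorem ree_num {p : ℕ} {x t ε : ℤ} (ht : 3 ≤ t) (hε : ε = 1 ∨ ε = -1) (hN8 : (3 * t ^ 2 - 1) % 8 = 2)
    (h : PairOut p x (3 * t ^ 2 + 3 * (ε * t) + 1) (3 * t ^ 2 - 1)) : False := by
  have hN3 : (3 * t ^ 2 - 1) % 3 = 2 := by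
    generalize t ^ 2 = s
    omega
  have hε2 : ε ^ 2 = 1 := by rcases hε with rfl | rfl <;> norm_num
  have hεt : ε * t = t ∨ ε * t = -t := by rcases hε with rfl | rfl <;> simp
  have hs2 : (ε * t) ^ 2 = t ^ 2 := by rw [mul_pow, hε2, one_mul]
  rcases out_even (by omega) h with ⟨hx4, hx5, h⟩ | ⟨hx4, hx5, h⟩
  · rcases h with ⟨h1, h2⟩ | ⟨h0, a, ha, hao, h1, h2⟩ | h
    · have h3 : 3 * (ε * t) = -1 := by linarith
      omega
    · -- `a x = 6 s + 4 - a`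
      have h9 : a * x = a * 0 + (6 * (ε * t) + 4 - a) := by linarith
      have h10 : a * (2 * (3 * t ^ 2 + 3 * (ε * t) + 1)) = (6 * (ε * t) + 4 - a) ^ 2 + a ^ 2 := by
        rw [h1]
        have e : a * (a * (x ^ 2 + 1)) = (a * x) ^ 2 + a ^ 2 := by ring
        rw [e, h9]; ring
      have h13 : ∀ z : ℤ, (2 * z ^ 2 - z + 1) % 3 ≠ 0 := by
        intro z
        obtain ⟨y, r, rfl, hr⟩ : ∃ y r, z = 3 * y + r ∧ (r = 0 ∨ r = 1 ∨ r = 2) := ⟨z / 3, z % 3, by omega, by omega⟩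
        have e : 2 * (3 * y + r) ^ 2 - (3 * y + r) + 1 = 3 * (6 * y ^ 2 + 4 * y * r - y) + (2 * r ^ 2 - r + 1) := by ring
        rw [e]
        generalize 6 * y ^ 2 + 4 * y * r - y = w
        rcases hr with rfl | rfl | rfl <;> norm_num <;> omega
      apply h13 a
      have e : 2 * a ^ 2 - a + 1 = 3 * (2 * a * t ^ 2 + 6 * a * (ε * t) + 3 * a - 12 * (ε * t) ^ 2 - 16 * (ε * t) - 5) := by
        linear_combination -h10
      rw [e]
      exact Int.mul_emod_right 3 _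
    · simp only [excE1, List.mem_cons, Prod.mk.injEq, List.not_mem_nil, or_false] at h
      have h2 : (3 * t ^ 2 - 1 = 6 ∨ 3 * t ^ 2 - 1 = 8 ∨ 3 * t ^ 2 - 1 = 20 ∨ 3 * t ^ 2 - 1 = 1228) := by tauto
      clear * - h2 hN3 hN8
      omega
  · rcases h with ⟨δ, hδ, h⟩ | ⟨-, h1, h2⟩ | h
    · rcases h with ⟨h0, -, -⟩ | ⟨-, h0, h1, h2⟩ | ⟨h0, -, -⟩
      · omega
      · have h3 : 2 * x = δ * (3 * (ε * t) + 2) - 1 := by linarith
        have h4 : 4 * (δ * (3 * t ^ 2 - 1)) = (2 * x) * (2 * x - 2) := by rw [h2]; ring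
        rw [h3, ← hs2] at h4
        generalize ε * t = s at h4 hεt
        rcases hδ with rfl | rfl
        · have h5 : (s - 1) * (s + 1) = 0 := by linarith
          rcases mul_eq_zero.1 h5 with h6 | h6 <;> omega
        · have h5 : (5 * s + 3) * (s + 1) = 0 := by linarith
          rcases mul_eq_zero.1 h5 with h6 | h6 <;> omega
      · omega
    · have h3 : x = 3 * (ε * t) + 2 := by linarith
      rw [h3, ← hs2] at h2
      generalize ε * t = s at h2 hεt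
      have h5 : (s + 1) * (s + 1) = 0 := by linarith
      rcases mul_eq_zero.1 h5 with h6 | h6 <;> omega
    · simp only [excE2, List.mem_cons, Prod.mk.injEq, List.not_mem_nil, or_false] at h
      have h2 : (3 * t ^ 2 - 1 = 10 ∨ 3 * t ^ 2 - 1 = 12 ∨ 3 * t ^ 2 - 1 = 20 ∨ 3 * t ^ 2 - 1 = 24 ∨
        3 * t ^ 2 - 1 = 28 ∨ 3 * t ^ 2 - 1 = 200 ∨ 3 * t ^ 2 - 1 = 72 ∨ 3 * t ^ 2 - 1 = 80 ∨ 3 * t ^ 2 - 1 = 296 ∨
        3 * t ^ 2 - 1 = 580 ∨ 3 * t ^ 2 - 1 = 31900) := by tauto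
      clear * - h2 hN3 hN8
      omega

/-- **Ree groups `²G₂`** -/
theorem row_ree {K : Type*} [Field K] [Fintype K] {m p M : ℕ} {x : ℤ} (hm : 1 ≤ m) (hK : Fintype.card K = 3 ^ (2 * m + 1))
    (h : Cand p x M ↥(Lie.twistedG2 K (3 ^ m))) : False := by
  have hsp := S1159.result (K := K) hm hK
  obtain ⟨t, ht, ht3⟩ : ∃ t, 3 ^ m = t ∧ 3 ≤ t := ⟨3 ^ m, rfl, by
    calc 3 = 3 ^ 1 := by norm_num
      _ ≤ 3 ^ m := Nat.pow_le_pow_right (by norm_num) hm⟩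
  have e1 : 3 ^ (2 * m + 1) = 3 * t ^ 2 := by
    rw [← ht, ← pow_mul, pow_succ]
    ring
  have e2 : 3 ^ (m + 1) = 3 * t := by
    rw [← ht]
    ring
  have hto : Odd t := by
    rw [← ht]
    exact (by decide : Odd 3).pow
  rw [e1, e2] at hsp
  have hexi : ∀ d, (d ∣ 6 ∨ d ∣ 9 ∨ d ∣ 3 * t ^ 2 - 1 ∨ d ∣ (3 * t ^ 2 + 1) / 2 ∨ d ∣ 3 * t ^ 2 - 3 * t + 1 ∨
      d ∣ 3 * t ^ 2 + 3 * t + 1) → ∃ g : ↥(Cfsg.Lie.twistedG2 K (3 ^ m)), orderOf g = d := fun d hd => (hsp d).2 hd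
  obtain ⟨a, ha⟩ := hto
  have ht2 : t ^ 2 = 4 * a ^ 2 + 4 * a + 1 := by rw [ha]; ring
  have hC := hexi _ (Or.inr (Or.inr (Or.inr (Or.inr (Or.inl dvd_rfl)))))
  have hB := hexi _ (Or.inr (Or.inr (Or.inr (Or.inr (Or.inr dvd_rfl)))))
  have hA := hexi _ (Or.inr (Or.inr (Or.inl dvd_rfl)))
  have hD := hexi _ (Or.inr (Or.inr (Or.inr (Or.inl dvd_rfl))))
  have htt : 3 * t ≤ t ^ 2 := by nlinarith
  obtain ⟨r, hr, hrn⟩ := h.exists_prime
  have hmm := h.M_ge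
  have cA : ((3 * t ^ 2 - 1 : ℕ) : ℤ) = 3 * (t : ℤ) ^ 2 - 1 := by
    rw [Nat.cast_sub (by omega)]; push_cast; ring
  have cB : ((3 * t ^ 2 + 3 * t + 1 : ℕ) : ℤ) = 3 * (t : ℤ) ^ 2 + 3 * t + 1 := by push_cast; ring
  have cC : ((3 * t ^ 2 - 3 * t + 1 : ℕ) : ℤ) = 3 * (t : ℤ) ^ 2 - 3 * t + 1 := by
    rw [Nat.cast_add, Nat.cast_sub (by omega)]; push_cast; ring
  have htZ : (3 : ℤ) ≤ t := by exact_mod_cast ht3
  have hmod : 3 * t ^ 2 % 8 = 3 := by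
    have h5 : t % 8 = 1 ∨ t % 8 = 3 ∨ t % 8 = 5 ∨ t % 8 = 7 := by omega
    have h6 : t ^ 2 % 8 = 1 := by
      rcases h5 with h5 | h5 | h5 | h5 <;> rw [Nat.pow_mod, h5]
    omega
  have hmodZ : (3 * (t : ℤ) ^ 2 - 1) % 8 = 2 := by rw [← cA]; omega
  rcases (hsp M).1 h.elt with h1 | h1 | h1 | h1 | h1 | h1
  · have := Nat.le_of_dvd (by norm_num) h1
    omega
  · have := Nat.le_of_dvd (by norm_num) h1
    omega
  · have h2 := h.odd_of_M hA h1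
    omega
  · have h2 := h.odd_of_M hD h1
    omega
  · -- `T = u - s + 1`, `N = u - 1`
    have hcop : Nat.Coprime (3 * t ^ 2 - 1) (3 * t ^ 2 - 3 * t + 1) := by
      refine bez (-(3 * (t : ℤ) ^ 2)) (3 * (t : ℤ) ^ 2 + 3 * t + 1) ?_
      rw [cA, cC]; ring
    have h2 := h.pair hC h1 hA (by omega) (hcop.coprime_dvd_right h1) (by rw [cA, cC]; nlinarith)
    rw [cA, cC] at h2
    refine ree_num (p := p) (x := x) (ε := -1) htZ (Or.inr rfl) hmodZ ?_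
    rw [show 3 * (t : ℤ) ^ 2 + 3 * (-1 * t) + 1 = 3 * (t : ℤ) ^ 2 - 3 * t + 1 by ring]
    exact h2
  · -- `T = u + s + 1`, `N = u - 1`
    have hcop : Nat.Coprime (3 * t ^ 2 - 1) (3 * t ^ 2 + 3 * t + 1) := by
      refine bez (-(3 * (t : ℤ) ^ 2)) (3 * (t : ℤ) ^ 2 - 3 * t + 1) ?_
      rw [cA, cB]; ring
    have h2 := h.pair hB h1 hA (by omega) (hcop.coprime_dvd_right h1) (by rw [cA, cB]; nlinarith)
    rw [cA, cB] at h2
    refine ree_num (p := p) (x := x) (ε := 1) htZ (Or.inl rfl) hmodZ ?_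
    rw [one_mul]
    exact h2

end Cfsg.Agent.R2.Spec.X3
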