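import Cfsg.Agent.R2.Spec.X3.Setting
import Cfsg.Agent.H425.KStep
import Cfsg.Agent.S0243
import Cfsg.Agent.S0280
import Cfsg.Agent.S2603
import Cfsg.Agent.H934.OutB

/-!
# Box X3 of S3435: the five exotic candidates (helper16)

`L₂(19)`, `U₃(8)` (`x = 7`), `L₃(3)`, `U₃(4)` (`x = 5`), `L₃(9)` (`x = -17`) satisfy `Cand`, but are not sections of a
group with the element orders of `L₄(x)`.
-/

set_option autoImplicit false

namespace Cfsg.Agent.R2.Spec.X3

open Cfsg.Agent.H420.QR (Red IsCoq card_eq_mul)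

universe u

/-- noncyclic Sylow subgroups -/
theorem exists_noncyclic {S : Type*} [Group S] [Finite S] {t k : ℕ} (ht : t.Prime) (hk : t ^ k ∣ Nat.card S)
    (h : ¬ ∃ g : S, orderOf g = t ^ k) : ∃ P : Subgroup S, IsPGroup t P ∧ ¬ IsCyclic P := by
  have := Fact.mk ht
  obtain ⟨P⟩ : Nonempty (Sylow t S) := inferInstance
  refine ⟨P, P.isPGroup', fun hc => h ?_⟩
  obtain ⟨g, hg⟩ := hc.exists_generator
  have h1 : orderOf g = Nat.card P := orderOf_eq_card_of_forall_mem_zpowers hg
  have h2 : t ^ k ∣ orderOf g := by rw [h1]; exact P.pow_dvd_card_of_pow_dvd_card hk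
  obtain ⟨b, hb⟩ := h2
  have hb0 : b ≠ 0 := by
    rintro rfl
    rw [mul_zero] at hb
    exact (orderOf_pos g).ne' hb
  refine ⟨((g ^ b : P) : S), ?_⟩
  rw [Subgroup.orderOf_coe, orderOf_pow_of_dvd hb0 (by rw [hb]; exact dvd_mul_left _ _), hb,
    Nat.mul_div_cancel _ (Nat.pos_of_ne_zero hb0)]

/-- orders -/
theorem card_l2_19 {F : Type*} [Field F] [Fintype F] (hF : Fintype.card F = 19) :
    Nat.card (Matrix.ProjectiveSpecialLinearGroup (Fin 2) F) = 3420 := by
  have h1 := Cfsg.Agent.S0243.result hF 2 le_rfl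
  rw [Fin.prod_univ_two] at h1
  norm_num at h1
  omega

theorem card_l3_3 {F : Type*} [Field F] [Fintype F] (hF : Fintype.card F = 3) :
    Nat.card (Matrix.ProjectiveSpecialLinearGroup (Fin 3) F) = 5616 := by
  have h1 := Cfsg.Agent.S0243.result hF 3 (by norm_num)
  rw [Fin.prod_univ_three] at h1
  norm_num at h1
  omega

theorem card_l3_9 {F : Type*} [Field F] [Fintype F] (hF : Fintype.card F = 9) :
    Nat.card (Matrix.ProjectiveSpecialLinearGroup (Fin 3) F) = 42456960 := by
  have h1 := Cfsg.Agent.S0243.result hF 3 (by norm_num)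
  rw [Fin.prod_univ_three] at h1
  norm_num at h1
  omega

theorem card_u3_4 {F : Type*} [Field F] [Fintype F] (hF : Fintype.card F = 4 ^ 2) :
    Nat.card (Cfsg.PSU 3 F 4) = 62400 := by
  have h1 := Cfsg.Agent.S0280.result hF 3 (by norm_num)
  simp only [Finset.prod_range_succ, Finset.prod_range_zero] at h1
  norm_num [Nat.even_iff] at h1
  omega

theorem card_u3_8 {F : Type*} [Field F] [Fintype F] (hF : Fintype.card F = 8 ^ 2) :
    Nat.card (Cfsg.PSU 3 F 8) = 5515776 := by
  have h1 := Cfsg.Agent.S0280.result hF 3 (by norm_num)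
  simp only [Finset.prod_range_succ, Finset.prod_range_zero] at h1
  norm_num [Nat.even_iff] at h1
  omega

/-- `|Out|` -/
theorem out_u3 {K : Type*} [Field K] [Fintype K] {f q : ℕ} (hf : 1 ≤ f) (hq : q = 2 ^ f) (hK : Fintype.card K = q ^ 2)
    (h2 : q ≠ 2) : Nat.card (Cfsg.Out (Cfsg.PSU 3 K q)) = 2 * f * Nat.gcd 3 (q + 1) := by
  have : Fact (Nat.Prime 2) := ⟨Nat.prime_two⟩
  obtain ⟨φ, h3, -, h4⟩ := Cfsg.Agent.S2603.result hf hq hK le_rfl (by omega)
  have h5 := Subgroup.card_mul_index φ.ker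
  rw [Subgroup.index_ker, MonoidHom.range_eq_top.2 h3, Subgroup.card_top, h4] at h5
  rw [← h5]
  have h6 : Nat.card (Multiplicative (ZMod (2 * f))) = 2 * f := by
    have : NeZero (2 * f) := ⟨by omega⟩
    rw [Nat.card_congr Multiplicative.toAdd, Nat.card_eq_fintype_card, ZMod.card]
  rw [h6]
  ring

namespace Fct

variable {p M : ℕ} {x : ℤ} {G : Type u} [Group G] [Finite G] {K : Subgroup G} [K.Normal] {S : Subgroup (G ⧸ K)}
  [S.Normal] (h : Fct p x M G) (R : Red G K S)

include h R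

omit h R in
theorem bad_of_not_dvd {r : ℕ} (hr : r.Prime) (hG : r ∣ Nat.card G) (hS : ¬ r ∣ Nat.card S) :
    r ∣ Nat.card K * S.index := by
  rw [card_eq_mul (K := K) (S := S)] at hG
  exact (hr.dvd_mul.1 hG).resolve_left hS

/-- a bad prime and a noncyclic subgroup -/
theorem false_of_noncyclic {r t k : ℕ} (hr : r.Prime) (hG : r ∣ Nat.card G) (hS : ¬ r ∣ Nat.card S)
    (hO : ¬ r ∣ Nat.card (Cfsg.Out S)) (ht : t.Prime) (ht2 : t ≠ 2) (htr : t ≠ r) (hk : t ^ k ∣ Nat.card S)
    (h1 : ¬ Sp p x (t ^ k : ℕ)) (h2 : ¬ Sp p x (t * r : ℕ)) : False := by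
  have hK : r ∣ Nat.card K := by
    rcases hr.dvd_mul.1 (bad_of_not_dvd hr hG hS) with h3 | h3
    · exact h3
    · exact absurd (h3.trans (H376.Six.index_dvd_out S R.cent)) hO
  obtain ⟨P, hP, hc⟩ := exists_noncyclic ht hk (fun ⟨g, hg⟩ => by
    obtain ⟨y, hy⟩ := exists_of_S g
    exact h.na h1 ⟨y, by rw [hy, hg]⟩)
  obtain ⟨g, hg⟩ := H425.KStep.exists_adj K ht hr htr ht2 hK (P.map S.subtype) (hP.map _) (fun hc' => hc
    (isCyclic_of_injective (P.equivMapOfInjective S.subtype S.subtype_injective).toMonoidHom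
      (P.equivMapOfInjective S.subtype S.subtype_injective).injective))
  exact h.na h2 ⟨g, hg⟩

theorem p_eq {q : ℕ} (hq : q.Prime) (hx : x.natAbs = q) : p = q := by
  obtain ⟨k, hk, hk'⟩ := h.cand.ex
  rw [hx] at hk'
  exact (Nat.prime_dvd_prime_iff_eq h.cand.hp hq).1 (hk' ▸ dvd_pow_self p (by omega))

/-- `L₂(19)`, `x = 7` -/
theorem no_l2_19 (hx : x = 7) {F : Type*} [Field F] [Fintype F] (hF : Fintype.card F = 19)
    (e : S ≃* Matrix.ProjectiveSpecialLinearGroup (Fin 2) F) : False := by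
  have hp := h.p_eq R (q := 7) (by norm_num) (by rw [hx]; rfl)
  subst hx
  subst hp
  have hc : Nat.card S = 3420 := by rw [Nat.card_congr e.toEquiv, card_l2_19 hF]
  have h5 : (5 : ℕ).Prime := by norm_num
  refine h.false_of_bad R (r := 5) (s := 19) (a := 7) (b := 5) h5 (by norm_num) (by norm_num) (by norm_num)
    (by norm_num) (by norm_num) (by simp) (by simp) (by norm_num) ?_ ?_
  · exact bad_of_not_dvd (by norm_num) (dvd_card_of h.exp) (by rw [hc]; norm_num)
  · have h1 : 25 ∣ Nat.card G := dvd_card_of (h.exA 25 (by norm_num) (by norm_num))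
    rw [card_eq_mul (K := K) (S := S), hc] at h1
    have h2 : 5 * 5 ∣ 5 * (684 * (Nat.card K * S.index)) := by
      rw [show 5 * (684 * (Nat.card K * S.index)) = 3420 * (Nat.card K * S.index) by ring]
      exact h1
    have h3 := Nat.dvd_of_mul_dvd_mul_left (by norm_num) h2
    exact (h5.dvd_mul.1 h3).resolve_left (by norm_num)

/-- `L₃(3)`, `x = 5` -/
theorem no_l3_3 (hx : x = 5) {F : Type*} [Field F] [Fintype F] (hF : Fintype.card F = 3)
    (e : S ≃* Matrix.ProjectiveSpecialLinearGroup (Fin 3) F) : False := by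
  have hp := h.p_eq R (q := 5) (by norm_num) (by rw [hx]; rfl)
  subst hx
  subst hp
  have hc : Nat.card S = 5616 := by rw [Nat.card_congr e.toEquiv, card_l3_3 hF]
  refine h.false_of_bad R (r := 13) (s := 31) (a := 5) (b := 31) (by norm_num) (by norm_num) (by norm_num) (by norm_num)
    (by norm_num) (by norm_num) (by simp) (by simp) (by norm_num) ?_ ?_
  · exact bad_of_not_dvd (by norm_num) (dvd_card_of h.exp) (by rw [hc]; norm_num)
  · exact bad_of_not_dvd (by norm_num) (dvd_card_of (h.exB 31 (by norm_num) (by norm_num) (by norm_num)))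
      (by rw [hc]; norm_num)

/-- `L₃(9)`, `x = -17` -/
theorem no_l3_9 (hx : x = -17) {F : Type*} [Field F] [Fintype F] (hF : Fintype.card F = 9)
    (e : S ≃* Matrix.ProjectiveSpecialLinearGroup (Fin 3) F) : False := by
  have hp := h.p_eq R (q := 17) (by norm_num) (by rw [hx]; rfl)
  subst hx
  subst hp
  have hc : Nat.card S = 42456960 := by rw [Nat.card_congr e.toEquiv, card_l3_9 hF]
  refine h.false_of_bad R (r := 29) (s := 7) (a := 17) (b := 29) (by norm_num) (by norm_num) (by norm_num) (by norm_num)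
    (by norm_num) (by norm_num) (by simp) (by simp) (by norm_num) ?_ ?_
  · exact bad_of_not_dvd (by norm_num) (dvd_card_of h.exp) (by rw [hc]; norm_num)
  · exact bad_of_not_dvd (by norm_num) (dvd_card_of (h.exA 29 (by norm_num) (by norm_num)))
      (by rw [hc]; norm_num)

/-- `U₃(4)`, `x = 5` -/
theorem no_u3_4 (hx : x = 5) {F : Type*} [Field F] [Fintype F] (hF : Fintype.card F = 4 ^ 2)
    (e : S ≃* Cfsg.PSU 3 F 4) : False := by
  have hp := h.p_eq R (q := 5) (by norm_num) (by rw [hx]; rfl)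
  subst hx
  subst hp
  have hc : Nat.card S = 62400 := by rw [Nat.card_congr e.toEquiv, card_u3_4 hF]
  have hO : Nat.card (Cfsg.Out S) = 4 := by
    rw [H934.OutB.card_out_congr e, out_u3 (f := 2) (by norm_num) (by norm_num) hF (by norm_num)]
    norm_num
  refine h.false_of_noncyclic R (r := 31) (t := 5) (k := 2) (by norm_num)
    (dvd_card_of (h.exB 31 (by norm_num) (by norm_num) (by norm_num))) (by rw [hc]; norm_num) (by rw [hO]; norm_num)
    (by norm_num) (by norm_num) (by norm_num) (by rw [hc]; norm_num) ?_ ?_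
  · unfold Sp
    rw [cc_one (by norm_num)]
    norm_num
  · unfold Sp
    rw [cc_one (by norm_num)]
    norm_num

/-- `U₃(8)`, `x = 7` -/
theorem no_u3_8 (hx : x = 7) {F : Type*} [Field F] [Fintype F] (hF : Fintype.card F = 8 ^ 2)
    (e : S ≃* Cfsg.PSU 3 F 8) : False := by
  have hp := h.p_eq R (q := 7) (by norm_num) (by rw [hx]; rfl)
  subst hx
  subst hp
  have hc : Nat.card S = 5515776 := by rw [Nat.card_congr e.toEquiv, card_u3_8 hF]
  have hO : Nat.card (Cfsg.Out S) = 18 := by
    rw [H934.OutB.card_out_congr e, out_u3 (f := 3) (by norm_num) (by norm_num) hF (by norm_num)]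
    norm_num
  refine h.false_of_noncyclic R (r := 5) (t := 3) (k := 4) (by norm_num)
    (dvd_card_of (h.exA 5 (by norm_num) (by norm_num))) (by rw [hc]; norm_num) (by rw [hO]; norm_num)
    (by norm_num) (by norm_num) (by norm_num) (by rw [hc]; norm_num) ?_ ?_
  · unfold Sp
    rw [cc_three (by norm_num)]
    norm_num
  · unfold Sp
    rw [cc_three (by norm_num)]
    norm_num

end Fct

end Cfsg.Agent.R2.Spec.X3
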