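import Cfsg.Agent.R2.Spec.X3.Base
import Cfsg.Agent.H402.Rec.SpecP
import Cfsg.Agent.H402.UniElt

/-!
# Box X3 of S3435: the element orders of `PSL_4(q)`, `PSU_4(q)`, `p ≥ 5` (helper16)

`Fct p x M G` : `G` has the element orders of `L₄(x)`: `Cand p x M G`, elements of order `p`, of the odd orders
dividing `x² + 1` and of the orders dividing `x² + x + 1` (prime to 3).
-/

set_option autoImplicit false
set_option linter.unusedSectionVars false

namespace Cfsg.Agent.R2.Spec.X3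

open Cfsg.Agent.H403 Cfsg.Agent.H403.NumTop Cfsg.Agent.H402.Uni
open Cfsg.Agent.H402.Rec (M1 M3 M4 spec_p)

/-- the element orders of `L₄(x)` -/
structure Fct (p : ℕ) (x : ℤ) (M : ℕ) (G : Type*) [Group G] : Prop where
  cand : Cand p x M G
  exp : ∃ g : G, orderOf g = p
  exA : ∀ N : ℕ, N % 2 = 1 → (N : ℤ) ∣ x ^ 2 + 1 → ∃ g : G, orderOf g = N
  exB : ∀ N : ℕ, 0 < N → ¬ 3 ∣ N → (N : ℤ) ∣ x ^ 2 + x + 1 → ∃ g : G, orderOf g = N

theorem Fct.of_range {p M : ℕ} {x : ℤ} {G L : Type*} [Group G] [Group L] (h : Fct p x M L)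
    (hr : Set.range (orderOf : G → ℕ) = Set.range (orderOf : L → ℕ)) : Fct p x M G := by
  have h1 : ∀ n : ℕ, (∃ x : L, orderOf x = n) → ∃ x : G, orderOf x = n := by
    intro n hn
    have : n ∈ Set.range (orderOf : L → ℕ) := hn
    rw [← hr] at this
    exact this
  refine ⟨⟨h.cand.hp, h.cand.h5, h.cand.ex, h.cand.typ, fun x => ?_, h1 _ h.cand.elt⟩, h1 _ h.exp,
    fun r h2 h3 => h1 _ (h.exA r h2 h3), fun r h2 h3 h4 => h1 _ (h.exB r h2 h3 h4)⟩
  have h2 : orderOf x ∈ Set.range (orderOf : L → ℕ) := by rw [← hr]; exact ⟨x, rfl⟩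
  obtain ⟨y, hy⟩ := h2
  rw [← hy]
  exact h.cand.spec y

/-- a cyclic torus -/
theorem exists_tor {F : Type*} [Field F] [Fintype F] {e : Bool} {q : ℕ} {L : Type*} [Group L]
    (hL : IsL L e 4 q F) (hF : Fintype.card F = q ^ (cond e 0 1 + 1)) (hq : 2 ≤ q) {N i : ℕ} (hN : 0 < N) (hi : i = 3 ∨ i = 4)
    (hc : IsCoprime (N : ℤ) (xv e q - 1)) (hd : (N : ℤ) ∣ xv e q ^ i - 1) : ∃ g : L, orderOf g = N := by
  have hcast : ∀ j : ℕ, ((q ^ j - 1 : ℕ) : ℤ) = (q : ℤ) ^ j - 1 := fun j => by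
    rw [Nat.cast_sub (Nat.one_le_pow _ _ (by omega)), Nat.cast_pow, Nat.cast_one]
  have hA : ∀ j : ℕ, (j = 1 ∨ j = 3 ∨ j = 4) → ((AA e j q : ℕ) : ℤ) = xv e q ^ j - 1 ∨ ((AA e j q : ℕ) : ℤ) = -(xv e q ^ j - 1) := by
    intro j hj
    cases e with
    | true =>
      left
      unfold AA xv
      simp only [Bool.true_or, if_true]
      exact hcast j
    | false =>
      rcases hj with rfl | rfl | rfl
      · right
        unfold AA xv
        norm_num
        ring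
      · right
        unfold AA xv
        norm_num
        ring
      · left
        unfold AA xv
        norm_num
        have := hcast 4
        push_cast at this
        exact this
  refine hL.exists_tor_le hF (by norm_num) (i := i) (by omega) (by omega) hN ?_ ?_
  · have h1 : IsCoprime (N : ℤ) ((AA e 1 q : ℕ) : ℤ) := by
      rcases hA 1 (Or.inl rfl) with h | h
      · rw [h, pow_one]; exact hc
      · rw [h, pow_one]; exact hc.neg_right
    exact Nat.isCoprime_iff_coprime.1 h1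
  · have h1 : (N : ℤ) ∣ ((AA e i q : ℕ) : ℤ) := by
      rcases hA i (Or.inr hi) with h | h
      · rw [h]; exact hd
      · rw [h]; exact (dvd_neg).2 hd
    exact_mod_cast h1

/-- **The element orders of `PSL_4(q)`, `PSU_4(q)`, `p ≥ 5`** -/
theorem fct {F : Type*} [Field F] [Fintype F] {e : Bool} {p k q M : ℕ} {L : Type*} [Group L]
    (hL : IsL L e 4 q F) (hF : Fintype.card F = q ^ (cond e 0 1 + 1)) (hp : p.Prime) (h5 : 5 ≤ p) (hq : q = p ^ k)
    (hk : 1 ≤ k) (htyp : TI (xv e q) M ∨ ∃ δ, TII (xv e q) M δ) : Fct p (xv e q) M L := by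
  have hch : CharP F p := charP_of hF hp hq hk
  have hLin := hL.lin (E := AlgebraicClosure F) hF (by norm_num)
  have hpq : p ∣ q := by rw [hq]; exact dvd_pow_self p (by omega)
  have hq0 : 0 < q := by rw [hq]; exact Nat.pow_pos hp.pos
  have hq5 : 5 ≤ q := h5.trans (Nat.le_of_dvd hq0 hpq)
  obtain ⟨x, hx⟩ : ∃ x, x = xv e q := ⟨_, rfl⟩
  rw [← hx] at htyp ⊢
  have hpx : (p : ℤ) ∣ x := by
    have h1 : (p : ℤ) ∣ q := by exact_mod_cast hpq
    rw [hx]
    unfold xv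
    cases e
    · exact (dvd_neg).2 h1
    · exact h1
  have hxq : x ^ 2 = (q : ℤ) ^ 2 := by
    rw [hx]; unfold xv; cases e <;> simp
  have hx4 : x % 4 = 1 ∨ x % 4 = 3 := by
    rcases htyp with h | ⟨δ, h⟩
    · exact Or.inl h.1
    · exact Or.inr h.1
  -- the numbers
  have hg : ((Nat.gcd 4 (M1 e q) : ℕ) : ℤ) = cc x := by
    cases e with
    | true =>
      have hxx : x = q := hx
      show ((Nat.gcd 4 (q - 1) : ℕ) : ℤ) = cc x
      rcases hx4 with h | h
      · rw [cc_one h, Nat.gcd_eq_left (by omega)]; rfl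
      · rw [cc_three h]
        have h1 : q % 4 = 3 := by omega
        have h2 : Nat.gcd 4 (q - 1) = 2 := by
          have h3 : (q - 1) % 4 = 2 := by omega
          rw [Nat.gcd_rec, h3]
          norm_num
        rw [h2]; rfl
    | false =>
      have hxx : x = -(q : ℤ) := hx
      show ((Nat.gcd 4 (q + 1) : ℕ) : ℤ) = cc x
      rcases hx4 with h | h
      · rw [cc_one h, Nat.gcd_eq_left (by omega)]; rfl
      · rw [cc_three h]
        have h2 : Nat.gcd 4 (q + 1) = 2 := by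
          have h3 : (q + 1) % 4 = 2 := by omega
          rw [Nat.gcd_rec, h3]
          norm_num
        rw [h2]; rfl
  have hc3 : ((M3 e q : ℕ) : ℤ) = x ^ 3 - 1 ∨ ((M3 e q : ℕ) : ℤ) = -(x ^ 3 - 1) := by
    cases e with
    | true =>
      left
      have hxx : x = q := hx
      show ((q ^ 3 - 1 : ℕ) : ℤ) = _
      rw [Nat.cast_sub (Nat.one_le_pow _ _ (by omega)), Nat.cast_pow, Nat.cast_one, hxx]
    | false =>
      right
      have hxx : x = -(q : ℤ) := hx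
      show ((q ^ 3 + 1 : ℕ) : ℤ) = _
      rw [hxx]; push_cast; ring
  have hc4 : ((M4 e q : ℕ) : ℤ) = (x ^ 2 + 1) * (x + 1) ∨ ((M4 e q : ℕ) : ℤ) = -((x ^ 2 + 1) * (x + 1)) := by
    cases e with
    | true =>
      left
      have hxx : x = q := hx
      show (((q ^ 2 + 1) * (q + 1) : ℕ) : ℤ) = _
      rw [hxx]; push_cast; ring
    | false =>
      right
      have hxx : x = -(q : ℤ) := hx
      show (((q ^ 2 + 1) * (q - 1) : ℕ) : ℤ) = _
      rw [hxx, Nat.cast_mul, Nat.cast_sub (by omega)]; push_cast; ring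
  have hc1 : ((M1 e q : ℕ) : ℤ) = x - 1 ∨ ((M1 e q : ℕ) : ℤ) = -(x - 1) := by
    cases e with
    | true =>
      left
      have hxx : x = q := hx
      show ((q - 1 : ℕ) : ℤ) = _
      rw [hxx, Nat.cast_sub (by omega), Nat.cast_one]
    | false =>
      right
      have hxx : x = -(q : ℤ) := hx
      show ((q + 1 : ℕ) : ℤ) = _
      rw [hxx]; push_cast; ring
  have hc2 : ((q ^ 2 - 1 : ℕ) : ℤ) = x ^ 2 - 1 := by
    rw [Nat.cast_sub (Nat.one_le_pow _ _ (by omega)), hxq]; push_cast; ring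
  have cst : ∀ {a b : ℕ} {c : ℤ}, a ∣ b → ((b : ℤ) = c ∨ (b : ℤ) = -c) → (a : ℤ) ∣ c := by
    intro a b c h1 h2
    have h3 : (a : ℤ) ∣ b := by exact_mod_cast h1
    rcases h2 with h2 | h2
    · rwa [h2] at h3
    · rw [h2] at h3; exact (dvd_neg).1 h3
  -- coprimality
  have hod : x % 2 = 1 := by omega
  have copA : ∀ N : ℕ, N % 2 = 1 → (N : ℤ) ∣ x ^ 2 + 1 → IsCoprime (N : ℤ) (x - 1) := by
    intro N hN h1
    have h2 : IsCoprime (N : ℤ) 2 := by
      have : Nat.Coprime N 2 := (Nat.coprime_two_right).2 (Nat.odd_iff.2 hN)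
      exact_mod_cast Nat.isCoprime_iff_coprime.2 this
    obtain ⟨c, hc⟩ := h1
    obtain ⟨a, b, hab⟩ := h2
    refine ⟨a + b * c, -(b * (x + 1)), ?_⟩
    linear_combination hab - b * hc
  have copB : ∀ N : ℕ, ¬ 3 ∣ N → (N : ℤ) ∣ x ^ 2 + x + 1 → IsCoprime (N : ℤ) (x - 1) := by
    intro N hN h1
    have h2 : IsCoprime (N : ℤ) 3 := by
      have : Nat.Coprime N 3 := ((Nat.Prime.coprime_iff_not_dvd Nat.prime_three).2 hN).symm
      exact_mod_cast Nat.isCoprime_iff_coprime.2 this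
    obtain ⟨c, hc⟩ := h1
    obtain ⟨a, b, hab⟩ := h2
    refine ⟨a + b * c, -(b * (x + 2)), ?_⟩
    linear_combination hab - b * hc
  have exA : ∀ N : ℕ, N % 2 = 1 → (N : ℤ) ∣ x ^ 2 + 1 → ∃ g : L, orderOf g = N := by
    intro N hN h1
    refine exists_tor hL hF (by omega) (by omega) (Or.inr rfl) (by rw [← hx]; exact copA N hN h1) ?_
    rw [← hx, show x ^ 4 - 1 = (x ^ 2 + 1) * (x ^ 2 - 1) by ring]
    exact h1.mul_right _
  have exB : ∀ N : ℕ, 0 < N → ¬ 3 ∣ N → (N : ℤ) ∣ x ^ 2 + x + 1 → ∃ g : L, orderOf g = N := by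
    intro N hN0 hN h1
    refine exists_tor hL hF (by omega) hN0 (Or.inl rfl) (by rw [← hx]; exact copB N hN h1) ?_
    rw [← hx, show x ^ 3 - 1 = (x ^ 2 + x + 1) * (x - 1) by ring]
    exact h1.mul_right _
  have hspec : ∀ g : L, Sp p x (orderOf g : ℕ) := by
    intro g
    unfold Sp
    rw [← hg]
    rcases spec_p hp h5 hLin hF g with h | h | h | h | h
    · left
      rw [mul_comm] at h
      have := cst h hc3
      push_cast at this
      exact this
    · right; left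
      rw [mul_comm] at h
      have := cst h hc4
      push_cast at this
      exact this
    · right; right; left
      exact cst h (Or.inl hc2)
    · right; right; right; left
      rw [mul_comm] at h
      have := cst h (c := p * (x ^ 2 - 1)) (Or.inl (by rw [Nat.cast_mul, hc2]))
      push_cast at this
      exact this
    · right; right; right; right
      refine cst h ?_
      rcases hc1 with h1 | h1
      · left; rw [Nat.cast_mul, h1]
      · right; rw [Nat.cast_mul, h1]; ring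
  have hMex : ∃ g : L, orderOf g = M := by
    rcases htyp with hty | ⟨δ, hty⟩
    · have hM2 : M % 2 = 1 := by
        obtain ⟨h1, h2, h3⟩ := hty
        obtain ⟨t, ht⟩ : ∃ t, x = 4 * t + 1 := ⟨x / 4, by omega⟩
        have e1 : x ^ 2 + 1 = 2 * (2 * (4 * t ^ 2 + 2 * t) + 1) := by rw [ht]; ring
        rw [e1] at h3
        omega
      exact exA M hM2 ⟨2, by rw [← hty.2.2]; ring⟩
    · have hxne : 0 < x ^ 2 + x + 1 := by nlinarith [sq_nonneg (2 * x + 1)]
      have hM0 : 0 < M := by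
        rcases Nat.eq_zero_or_pos M with h0 | h0
        · have := hty.2.2.2
          rw [h0, Nat.cast_zero, mul_zero] at this
          omega
        · exact h0
      have h3M : ¬ 3 ∣ M := by
        intro h3
        obtain ⟨h1, h2, h4, h5⟩ := hty
        obtain ⟨m, hm⟩ := h3
        rw [hm] at h5
        obtain ⟨t, r, hxr, hr⟩ : ∃ t r, x = 9 * t + r ∧ (r = 0 ∨ r = 1 ∨ r = 2 ∨ r = 3 ∨ r = 4 ∨ r = 5 ∨ r = 6 ∨ r = 7 ∨ r = 8) :=
          ⟨x / 9, x % 9, by omega, by omega⟩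
        have e1 : x ^ 2 + x + 1 = 9 * (9 * t ^ 2 + 2 * t * r + t) + (r ^ 2 + r + 1) := by rw [hxr]; ring
        rw [e1] at h5
        push_cast at h5
        generalize 9 * t ^ 2 + 2 * t * r + t = w at h5
        clear e1 hxne hspec exA exB copA copB cst hc1 hc2 hc3 hc4
        rcases h4 with ⟨h6, h4⟩ | ⟨h6, h4⟩ <;> rw [h6] at h5 <;>
          rcases hr with rfl | rfl | rfl | rfl | rfl | rfl | rfl | rfl | rfl <;> omega
      exact exB M hM0 h3M ⟨δ, by rw [← hty.2.2.2]; ring⟩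
  refine ⟨⟨hp, h5, ⟨k, hk, ?_⟩, htyp, hspec, hMex⟩, ?_, exA, exB⟩
  · rw [hx, ← hq]
    unfold xv
    cases e <;> simp
  · obtain ⟨g, hg'⟩ := exists_pow hL hF (by norm_num) (a := 1) hp hq hk le_rfl (by norm_num)
    exact ⟨g, by rw [hg', pow_one]⟩

/-! ### nonadjacency -/

section arith

variable {p : ℕ} {x n : ℤ} (hp : p.Prime) (hpx : (p : ℤ) ∣ x)

include hp hpx

theorem p_not : ¬ (p : ℤ) ∣ x ^ 2 + 1 ∧ ¬ (p : ℤ) ∣ x ^ 2 + x + 1 ∧ ¬ (p : ℤ) ∣ x ^ 3 - 1 ∧
    ¬ (p : ℤ) ∣ (x ^ 2 + 1) * (x + 1) ∧ ¬ (p : ℤ) ∣ x ^ 2 - 1 ∧ ¬ (p : ℤ) ∣ x - 1 := by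
  have hun : ¬ (p : ℤ) ∣ 1 := fun h1 => (Nat.prime_iff_prime_int.1 hp).not_isUnit (isUnit_of_dvd_one h1)
  have key : ∀ c d : ℤ, c = x * d + 1 → ¬ (p : ℤ) ∣ c := fun c d hc h1 => by
    rw [hc] at h1
    exact hun ((dvd_add_right (hpx.mul_right d)).1 h1)
  have key' : ∀ c d : ℤ, c = x * d - 1 → ¬ (p : ℤ) ∣ c := fun c d hc h1 => by
    rw [hc] at h1
    exact hun ((dvd_sub_right (hpx.mul_right d)).1 h1)
  exact ⟨key _ x (by ring), key _ (x + 1) (by ring), key' _ (x ^ 2) (by ring), key _ (x ^ 2 + x + 1) (by ring),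
    key' _ x (by ring), key' _ 1 (by ring)⟩

/-- orders divisible by `r ∣ x² + 1` -/
theorem sp_A (h : Sp p x n) {r : ℕ} (hr : r.Prime) (hr2 : r ≠ 2) (hrx : (r : ℤ) ∣ x ^ 2 + 1) (hrn : (r : ℤ) ∣ n) :
    cc x * n ∣ (x ^ 2 + 1) * (x + 1) := by
  have hri := Nat.prime_iff_prime_int.1 hr
  have hrp : r ≠ p := by
    rintro rfl
    exact (p_not hp hpx).1 hrx
  have n1 : ¬ (r : ℤ) ∣ p := fun h1 => hrp ((Nat.prime_dvd_prime_iff_eq hr hp).1 (by exact_mod_cast h1))
  have n2 : ¬ (r : ℤ) ∣ x ^ 2 - 1 := fun h1 => by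
    have h2 := dvd_sub hrx h1
    rw [show x ^ 2 + 1 - (x ^ 2 - 1) = 2 by ring] at h2
    exact hr2 ((Nat.prime_dvd_prime_iff_eq hr Nat.prime_two).1 (by exact_mod_cast h2))
  have n3 : ¬ (r : ℤ) ∣ x - 1 := fun h1 => n2 (by
    have := h1.mul_right (x + 1)
    rwa [show (x - 1) * (x + 1) = x ^ 2 - 1 by ring] at this)
  have n4 : ¬ (r : ℤ) ∣ x ^ 3 - 1 := fun h1 => n2 (by
    have h2 := dvd_sub (hrx.mul_left x) h1
    rw [show x * (x ^ 2 + 1) - (x ^ 3 - 1) = x + 1 by ring] at h2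
    have := h2.mul_right (x - 1)
    rwa [show (x + 1) * (x - 1) = x ^ 2 - 1 by ring] at this)
  rcases h with h | h | h | h | h
  · exact absurd ((hrn.trans (dvd_mul_left _ _)).trans h) n4
  · exact h
  · exact absurd (hrn.trans h) n2
  · rcases hri.dvd_or_dvd ((hrn.trans (dvd_mul_left _ _)).trans h) with h1 | h1
    · exact absurd h1 n1
    · exact absurd h1 n2
  · rcases hri.dvd_or_dvd (hrn.trans h) with h1 | h1
    · exact absurd h1 n1
    · exact absurd h1 n3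

/-- orders divisible by `r ∣ x² + x + 1` -/
theorem sp_B (h : Sp p x n) {r : ℕ} (hr : r.Prime) (hr3 : r ≠ 3) (hrx : (r : ℤ) ∣ x ^ 2 + x + 1) (hrn : (r : ℤ) ∣ n) :
    cc x * n ∣ x ^ 3 - 1 := by
  have hri := Nat.prime_iff_prime_int.1 hr
  have hun : ¬ (r : ℤ) ∣ 1 := fun h1 => hri.not_isUnit (isUnit_of_dvd_one h1)
  have hrp : r ≠ p := by
    rintro rfl
    exact (p_not hp hpx).2.1 hrx
  have n1 : ¬ (r : ℤ) ∣ p := fun h1 => hrp ((Nat.prime_dvd_prime_iff_eq hr hp).1 (by exact_mod_cast h1))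
  have n3 : ¬ (r : ℤ) ∣ x - 1 := fun h1 => by
    have h2 := dvd_sub hrx (h1.mul_right (x + 2))
    rw [show x ^ 2 + x + 1 - (x - 1) * (x + 2) = 3 by ring] at h2
    exact hr3 ((Nat.prime_dvd_prime_iff_eq hr Nat.prime_three).1 (by exact_mod_cast h2))
  have n5 : ¬ (r : ℤ) ∣ x + 1 := fun h1 => hun (by
    have h2 := dvd_sub hrx (h1.mul_right x)
    rwa [show x ^ 2 + x + 1 - (x + 1) * x = 1 by ring] at h2)
  have n6 : ¬ (r : ℤ) ∣ x := fun h1 => hun (by
    have h2 := dvd_sub hrx (h1.mul_right (x + 1))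
    rwa [show x ^ 2 + x + 1 - x * (x + 1) = 1 by ring] at h2)
  have n2 : ¬ (r : ℤ) ∣ x ^ 2 - 1 := fun h1 => by
    rw [show x ^ 2 - 1 = (x - 1) * (x + 1) by ring] at h1
    rcases hri.dvd_or_dvd h1 with h2 | h2
    · exact n3 h2
    · exact n5 h2
  have n4 : ¬ (r : ℤ) ∣ (x ^ 2 + 1) * (x + 1) := fun h1 => by
    rcases hri.dvd_or_dvd h1 with h2 | h2
    · apply n6
      have := dvd_sub hrx h2
      rwa [show x ^ 2 + x + 1 - (x ^ 2 + 1) = x by ring] at this
    · exact n5 h2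
  rcases h with h | h | h | h | h
  · exact h
  · exact absurd ((hrn.trans (dvd_mul_left _ _)).trans h) n4
  · exact absurd (hrn.trans h) n2
  · rcases hri.dvd_or_dvd ((hrn.trans (dvd_mul_left _ _)).trans h) with h1 | h1
    · exact absurd h1 n1
    · exact absurd h1 n2
  · rcases hri.dvd_or_dvd (hrn.trans h) with h1 | h1
    · exact absurd h1 n1
    · exact absurd h1 n3

/-- `r ∣ x² + 1`, `s ∣ x² + x + 1`, `p` are pairwise nonadjacent -/
theorem sp_coq {r s : ℕ} (hr : r.Prime) (hr2 : r ≠ 2) (hrx : (r : ℤ) ∣ x ^ 2 + 1)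
    (hs : s.Prime) (hs3 : s ≠ 3) (hsx : (s : ℤ) ∣ x ^ 2 + x + 1) :
    r ≠ p ∧ s ≠ p ∧ r ≠ s ∧ ¬ Sp p x (p * r : ℕ) ∧ ¬ Sp p x (p * s : ℕ) ∧ ¬ Sp p x (r * s : ℕ) := by
  obtain ⟨q1, q2, q3, q4, -, -⟩ := p_not hp hpx
  have hsi := Nat.prime_iff_prime_int.1 hs
  have hun : ¬ (s : ℤ) ∣ 1 := fun h1 => hsi.not_isUnit (isUnit_of_dvd_one h1)
  have n6 : ¬ (s : ℤ) ∣ x := fun h1 => hun (by
    have h2 := dvd_sub hsx (h1.mul_right (x + 1))
    rwa [show x ^ 2 + x + 1 - x * (x + 1) = 1 by ring] at h2)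
  have n7 : ¬ (s : ℤ) ∣ x ^ 2 + 1 := fun h2 => n6 (by
    have := dvd_sub hsx h2
    rwa [show x ^ 2 + x + 1 - (x ^ 2 + 1) = x by ring] at this)
  have n5 : ¬ (s : ℤ) ∣ x + 1 := fun h1 => hun (by
    have h2 := dvd_sub hsx (h1.mul_right x)
    rwa [show x ^ 2 + x + 1 - (x + 1) * x = 1 by ring] at h2)
  have cm : ∀ a b : ℕ, ((a * b : ℕ) : ℤ) = a * b := fun a b => by push_cast; ring
  refine ⟨?_, ?_, ?_, fun h => ?_, fun h => ?_, fun h => ?_⟩
  · rintro rfl; exact q1 hrx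
  · rintro rfl; exact q2 hsx
  · rintro rfl; exact n7 hrx
  · have h1 := sp_A hp hpx h hr hr2 hrx (by rw [cm]; exact dvd_mul_left _ _)
    rw [cm] at h1
    exact q4 (((dvd_mul_right _ _).trans (dvd_mul_left _ _)).trans h1)
  · have h1 := sp_B hp hpx h hs hs3 hsx (by rw [cm]; exact dvd_mul_left _ _)
    rw [cm] at h1
    exact q3 (((dvd_mul_right _ _).trans (dvd_mul_left _ _)).trans h1)
  · have h1 := sp_A hp hpx h hr hr2 hrx (by rw [cm]; exact dvd_mul_right _ _)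
    rw [cm] at h1
    rcases hsi.dvd_or_dvd (((dvd_mul_left _ _).trans (dvd_mul_left _ _)).trans h1) with h2 | h2
    · exact n7 h2
    · exact n5 h2

end arith

end Cfsg.Agent.R2.Spec.X3
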