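import Cfsg.Agent.R2.Spec.X3.Exotic
import Cfsg.Agent.H200.STwo.Named
import Cfsg.Agent.H340.OddLie
import Cfsg.Agent.H426.LieFam
import Cfsg.Agent.S0249
import Cfsg.Agent.S0283
import Cfsg.Agent.S3440
import Cfsg.Agent.S3585
import Cfsg.Agent.S3586
import Cfsg.Agent.S3587

/-!
# Box X3 of S3435: the frame (helper16)

`exists_iso` : the simple section of a group with the element orders of `L = PSL_4(q)`, `PSU_4(q)` is `L`, given the
cross characteristic rows (`NoCross3`).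
-/

set_option autoImplicit false
set_option linter.unusedSectionVars false

namespace Cfsg.Agent.R2.Spec.X3

open Subgroup Cfsg
open Cfsg.Agent.H420.QR (Red IsCoq)
open Cfsg.Agent.H426.LieFam (Fam)
open Cfsg.Agent.H200.STwo (Named.exists_factor Named.named_cases)

universe u v w

/-- the exotic candidates -/
def Exo (x : ℤ) (S : Type u) [Group S] : Prop :=
  (x = 7 ∧ ∃ (F : Type) (_ : Field F) (_ : Fintype F), Fintype.card F = 19 ∧
    Nonempty (S ≃* Matrix.ProjectiveSpecialLinearGroup (Fin 2) F)) ∨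
  (x = 5 ∧ ∃ (F : Type) (_ : Field F) (_ : Fintype F), Fintype.card F = 3 ∧
    Nonempty (S ≃* Matrix.ProjectiveSpecialLinearGroup (Fin 3) F)) ∨
  (x = -17 ∧ ∃ (F : Type) (_ : Field F) (_ : Fintype F), Fintype.card F = 9 ∧
    Nonempty (S ≃* Matrix.ProjectiveSpecialLinearGroup (Fin 3) F)) ∨
  (x = 5 ∧ ∃ (F : Type) (_ : Field F) (_ : Fintype F), Fintype.card F = 4 ^ 2 ∧ Nonempty (S ≃* Cfsg.PSU 3 F 4)) ∨
  (x = 7 ∧ ∃ (F : Type) (_ : Field F) (_ : Fintype F), Fintype.card F = 8 ^ 2 ∧ Nonempty (S ≃* Cfsg.PSU 3 F 8))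

/-- the cross characteristic rows -/
def NoCross3 : Prop := ∀ (p M : ℕ) (x : ℤ) (S : Type u) [Group S] [Finite S], Cand p x M S →
  ∀ (f : Fam) (v e : ℕ), v.Prime → v ≠ p → Fam.Is v e S f → Exo x S

theorem Fct.no_exo {p M : ℕ} {x : ℤ} {G : Type u} [Group G] [Finite G] {K : Subgroup G} [K.Normal]
    {S : Subgroup (G ⧸ K)} [S.Normal] (h : Fct p x M G) (R : Red G K S) (hE : Exo x S) : False := by
  rcases hE with ⟨hx, F, i1, i2, hF, ⟨e⟩⟩ | ⟨hx, F, i1, i2, hF, ⟨e⟩⟩ | ⟨hx, F, i1, i2, hF, ⟨e⟩⟩ | ⟨hx, F, i1, i2, hF, ⟨e⟩⟩ |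
    ⟨hx, F, i1, i2, hF, ⟨e⟩⟩
  · exact h.no_l2_19 R hx hF e
  · exact h.no_l3_3 R hx hF e
  · exact h.no_l3_9 R hx hF e
  · exact h.no_u3_4 R hx hF e
  · exact h.no_u3_8 R hx hF e

/-- the group `L` -/
def IsFour (F : Type w) [Field F] [Fintype F] (L : Type v) [Group L] : Prop :=
  (Fintype.card F ≠ 2 ∧ Nonempty (L ≃* Matrix.ProjectiveSpecialLinearGroup (Fin 4) F)) ∨
    ∃ q : ℕ, q ≠ 2 ∧ Fintype.card F = q ^ 2 ∧ Nonempty (L ≃* Cfsg.PSU 4 F q)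

variable {F : Type w} [Field F] [Fintype F] {L : Type v} [Group L]

theorem IsFour.simple (h : IsFour F L) : IsSimpleGroup L := by
  rcases h with ⟨-, ⟨e⟩⟩ | ⟨q, -, hq, ⟨e⟩⟩
  · exact e.isSimpleGroup_congr.2 (Cfsg.Agent.S0249.result 4 (by norm_num))
  · exact e.isSimpleGroup_congr.2 (Cfsg.Agent.S0283.result hq 4 (by norm_num) (by norm_num))

theorem IsFour.alt (h : IsFour F L) : (¬ ((4 : ℕ) = 4 ∧ Fintype.card F = 2) ∧ Nonempty (L ≃* Matrix.ProjectiveSpecialLinearGroup (Fin 4) F)) ∨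
      (∃ q : ℕ, ¬ ((4 : ℕ) = 4 ∧ q = 2) ∧ Fintype.card F = q ^ 2 ∧ Nonempty (L ≃* Cfsg.PSU 4 F q)) := by
  rcases h with ⟨h1, h2⟩ | ⟨q, h1, h2, h3⟩
  · exact Or.inl ⟨fun h => h1 h.2, h2⟩
  · exact Or.inr ⟨q, fun h => h1 h.2, h2, h3⟩

theorem IsFour.spor (h : IsFour F L) : Nonempty (L ≃* Matrix.ProjectiveSpecialLinearGroup (Fin 4) F) ∨
      (∃ q : ℕ, ¬ ((4 : ℕ) = 5 ∧ q = 2) ∧ Fintype.card F = q ^ 2 ∧ Nonempty (L ≃* Cfsg.PSU 4 F q)) := by
  rcases h with ⟨-, h2⟩ | ⟨q, h1, h2, h3⟩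
  · exact Or.inl h2
  · exact Or.inr ⟨q, fun h => by omega, h2, h3⟩

theorem IsFour.own (h : IsFour F L) : Nonempty (L ≃* Matrix.ProjectiveSpecialLinearGroup (Fin 4) F) ∨
      (∃ q : ℕ, ¬ ((4 : ℕ) = 4 ∧ q = 2) ∧ Fintype.card F = q ^ 2 ∧ Nonempty (L ≃* Cfsg.PSU 4 F q)) := by
  rcases h with ⟨-, h2⟩ | ⟨q, h1, h2, h3⟩
  · exact Or.inl h2
  · exact Or.inr ⟨q, fun h => h1 h.2, h2, h3⟩

theorem IsFour.not_alt [Finite L] (h : IsFour F L) (hna : ¬ IsMulCommutative L) (m : ℕ) :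
    ¬ Nonempty (L ≃* alternatingGroup (Fin m)) := by
  have hs := h.simple
  let φ : (⊤ : Subgroup L) ⧸ (⊥ : Subgroup (⊤ : Subgroup L)) ≃* L := QuotientGroup.quotientBot.trans Subgroup.topEquiv
  have h1 : IsSimpleGroup ((⊤ : Subgroup L) ⧸ (⊥ : Subgroup (⊤ : Subgroup L))) := φ.isSimpleGroup_congr.2 hs
  have h2 : ¬ IsMulCommutative ((⊤ : Subgroup L) ⧸ (⊥ : Subgroup (⊤ : Subgroup L))) := by
    rintro ⟨⟨hc⟩⟩
    apply hna
    refine ⟨⟨fun a b => φ.symm.injective ?_⟩⟩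
    rw [map_mul, map_mul, hc]
  have h3 := Cfsg.Agent.S3585.result (n := 4) le_rfl h.alt (G := L) rfl ⊤ (Subgroup.Normal.isSubnormal inferInstance) ⊥ h1 h2 m
  rintro ⟨e⟩
  exact h3 ⟨φ.trans e⟩

/-- **The dispatcher.** -/
theorem exists_iso (hrow : NoCross3.{u}) [Finite L] {p M : ℕ} {x : ℤ} (H : IsFour F L) [CharP F p]
    (hL : Fct p x M L) {G : Type u} [Group G] [Finite G]
    (hω : Set.range (orderOf : G → ℕ) = Set.range (orderOf : L → ℕ)) :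
    ∃ (K : Subgroup G) (_ : K.Normal) (S : Subgroup (G ⧸ K)) (_ : S.Normal), Red G K S ∧ Nonempty (↥S ≃* L) := by
  have hLs := H.simple
  have hG := hL.of_range hω
  have hp := hG.cand.hp
  have hpf := Fact.mk hp
  have hLna : ¬ IsMulCommutative L := by
    rintro ⟨⟨hc⟩⟩
    exact hL.not_solvable (IsSimpleGroup.comm_iff_isSolvable.1 hc)
  obtain ⟨K, hK, S, hS, R⟩ := hG.exists_red
  have hnil : Group.IsNilpotent K := Cfsg.Agent.S3440.result hG.not_solvable hLna (H.not_alt hLna 10) hω K R.solv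
  have hC := hG.cand_of R hnil
  refine ⟨K, hK, S, hS, R, ?_⟩
  have hsimp := R.simple
  obtain ⟨X, hX', N, hN, ⟨φ⟩⟩ := Named.exists_factor R
  have hs : IsSimpleGroup (↥X ⧸ N) := MulEquiv.isSimpleGroup φ
  have hna : ¬ IsMulCommutative (↥X ⧸ N) := by
    rintro ⟨⟨hc⟩⟩
    apply R.nonab
    refine ⟨⟨fun a b => φ.symm.injective ?_⟩⟩
    rw [map_mul, map_mul, hc]
  obtain ⟨g, hg'⟩ := H436.name hna
  rcases Named.named_cases hs hg' with ⟨m, h⟩ | h | ⟨⟨e⟩⟩ | ⟨v, hv, hl'⟩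
  · exact absurd h (Cfsg.Agent.S3585.result (n := 4) le_rfl H.alt hω X (Subgroup.Normal.isSubnormal hX') N hs hna m)
  · exact absurd h (Cfsg.Agent.S3586.result (n := 4) le_rfl H.spor hω X (Subgroup.Normal.isSubnormal hX') N hs hna).1
  · exact absurd ⟨e⟩ (Cfsg.Agent.S3586.result (n := 4) le_rfl H.spor hω X (Subgroup.Normal.isSubnormal hX') N hs hna).2
  · by_cases hvp : v = p
    · subst hvp
      obtain ⟨ε⟩ := Cfsg.Agent.S3587.result v (n := 4) le_rfl H.own hω X (Subgroup.Normal.isSubnormal hX') N hs hna hl'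
      exact ⟨φ.symm.trans ε⟩
    · exfalso
      have hl : IsLieTypeChar v ↥S := H340.isLieTypeChar_congr φ.symm hl'
      obtain ⟨fam, f, d, M', hIs, hSh⟩ := H426.LieFam.exists_fam hv hl
      exact hG.no_exo R (hrow p M x ↥S hC fam v f hv hvp hIs)

end Cfsg.Agent.R2.Spec.X3
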