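import Cfsg.Agent.R2.Spec.X3.Three
import Cfsg.Agent.H528.UF.RowLinA

/-!
# Box X3 of S3435: the rows `PSL_3(u)` and `PSU_3(u)`, conclusion (helper16)
-/

set_option autoImplicit false

namespace Cfsg.Agent.R2.Spec.X3

open Cfsg

/-- **`PSL_3(u)`** -/
theorem row_psl3 {F : Type*} [Field F] [Fintype F] {p M : ℕ} {x : ℤ} (hpF : (p : F) ≠ 0)
    (h : Cand p x M (Matrix.ProjectiveSpecialLinearGroup (Fin 3) F)) :
    (Fintype.card F = 3 ∧ x = 5) ∨ (Fintype.card F = 9 ∧ x = -17) := by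
  obtain ⟨v, hv⟩ := CharP.exists F
  obtain ⟨n, hvp, hcard⟩ := FiniteField.card F v
  have := Fact.mk hvp
  have hspec := Cfsg.Agent.S2476.result (F := F) v
  obtain ⟨u, hu⟩ : ∃ u, Fintype.card F = u := ⟨_, rfl⟩
  rw [hu] at hspec hcard
  have hu2 : 2 ≤ u := by rw [← hu]; exact Fintype.one_lt_card
  have hv2 : v = 2 ∨ u % 2 = 1 := by
    rcases hvp.eq_two_or_odd with h1 | h1
    · exact Or.inl h1
    · right; rw [hcard, Nat.pow_mod, h1, Nat.one_pow, Nat.one_mod]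
  obtain ⟨t, rfl⟩ : ∃ t, u = t + 1 := ⟨u - 1, by omega⟩
  rw [Nat.add_sub_cancel] at hspec
  obtain ⟨d, hdd⟩ : ∃ d, d = Nat.gcd 3 t := ⟨_, rfl⟩
  rw [← hdd] at hspec
  have hd : d = 1 ∨ d = 3 := by
    rcases gcd_three t with h1 | h1
    · exact Or.inl (hdd.trans h1.1)
    · exact Or.inr (hdd.trans h1.1)
  have hdt : d ∣ t := by rw [hdd]; exact Nat.gcd_dvd_right _ _
  obtain ⟨R, hR⟩ := hdt
  have hd0 : 0 < d := by rcases hd with rfl | rfl <;> norm_num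
  have hex : ∀ m, (m ∣ ((t + 1) ^ 2 + (t + 1) + 1) / d ∨ m ∣ ((t + 1) ^ 2 - 1) / d ∨ m ∣ t ∨ m ∣ v * t / d ∨
      (v = 2 ∧ m ∣ 4)) ↔ ∃ x : Matrix.ProjectiveSpecialLinearGroup (Fin 3) F, orderOf x = m := by
    intro m
    constructor
    · intro h1
      have h2 : m ∈ Set.range (orderOf : Matrix.ProjectiveSpecialLinearGroup (Fin 3) F → ℕ) := by
        rw [hspec]; exact h1
      exact h2
    · intro h1
      have h2 : m ∈ Set.range (orderOf : Matrix.ProjectiveSpecialLinearGroup (Fin 3) F → ℕ) := h1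
      rw [hspec] at h2
      exact h2
  have e3 : v * t / d = v * R := by rw [hR, ← mul_assoc, mul_comm v d, mul_assoc, Nat.mul_div_cancel_left _ hd0]
  have e2 : d * (((t + 1) ^ 2 - 1) / d) = (t + 1) ^ 2 - 1 := by
    refine Nat.mul_div_cancel' ?_
    have : (t + 1) ^ 2 - 1 = t * (t + 2) := by
      have : (t + 1) ^ 2 = t * (t + 2) + 1 := by ring
      omega
    rw [this, hR]
    exact (dvd_mul_right _ _).mul_right _
  have e1 : d * (((t + 1) ^ 2 + (t + 1) + 1) / d) = (t + 1) ^ 2 + (t + 1) + 1 := by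
    refine Nat.mul_div_cancel' ?_
    have : (t + 1) ^ 2 + (t + 1) + 1 = t * (t + 3) + 3 := by ring
    rw [this, hR]
    refine dvd_add ((dvd_mul_right _ _).mul_right _) ?_
    rcases hd with rfl | rfl <;> norm_num
  rw [e3] at hex
  have key := core3 h (y := ((t + 1 : ℕ) : ℤ)) hu2 hv2 hd (T := ((t + 1) ^ 2 + (t + 1) + 1) / d)
    (N := ((t + 1) ^ 2 - 1) / d) (R := R)
    (Or.inl ⟨rfl, e1, by rw [← hR]⟩) (by
      rw [e2]
      have : 1 ≤ (t + 1) ^ 2 := Nat.one_le_pow _ _ (by omega)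
      omega) ((hex _).1 (Or.inl dvd_rfl)) ((hex _).1 (Or.inr (Or.inl dvd_rfl)))
    ((hex _).1 (Or.inr (Or.inr (Or.inr (Or.inl dvd_rfl))))) (by
      intro x
      rw [← hR]
      exact (hex (orderOf x)).2 ⟨x, rfl⟩)
  rcases key with k | ⟨k1, k2⟩ | ⟨k1, k2⟩ | ⟨k1, k2⟩ | ⟨k1, k2⟩
  · exfalso
    apply hpF
    apply H528.UF.natCast_eq_zero h.hp
    rw [hu]
    have h2 := h.p_dvd
    rw [← k] at h2
    exact_mod_cast h2
  · left; exact ⟨by omega, k2⟩
  · omega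
  · right; exact ⟨by omega, k2⟩
  · omega

/-- **`PSU_3(u)`** -/
theorem row_psu3 {F : Type*} [Field F] [Fintype F] {u : ℕ} (hF : Fintype.card F = u ^ 2)
    {p M : ℕ} {x : ℤ} (hpF : (p : F) ≠ 0) (h : Cand p x M (Cfsg.PSU 3 F u)) : (u = 4 ∧ x = 5) ∨ (u = 8 ∧ x = 7) := by
  obtain ⟨v, hv⟩ := CharP.exists F
  obtain ⟨n, hvp, hcard⟩ := FiniteField.card F v
  have := Fact.mk hvp
  have hu2 : 2 ≤ u := Cfsg.Agent.ClassicalGeometry.GUBasic.two_le hF
  have hv2 : v = 2 ∨ u % 2 = 1 := by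
    rcases hvp.eq_two_or_odd with h1 | h1
    · exact Or.inl h1
    · right
      have h2 : u ^ 2 % 2 = 1 := by rw [← hF, hcard, Nat.pow_mod, h1, Nat.one_pow, Nat.one_mod]
      rcases Nat.mod_two_eq_zero_or_one u with h3 | h3
      · rw [Nat.pow_mod, h3] at h2; norm_num at h2
      · exact h3
  have x2 := Cfsg.Agent.H127.PSUThreeEx.ex_two v hF
  have x3 := Cfsg.Agent.H127.PSUThreeEx.ex_three hF
  have x4 := Cfsg.Agent.H127.PSUThreeEx.ex_four v hF
  have hs := Cfsg.Agent.H124.SUThreeEig.orderOf_dvd hF v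
  obtain ⟨d, hdd⟩ : ∃ d, d = Nat.gcd 3 (u + 1) := ⟨_, rfl⟩
  rw [← hdd] at x2 x3 x4 hs
  have hd : d = 1 ∨ d = 3 := by
    rcases gcd_three (u + 1) with h1 | h1
    · exact Or.inl (hdd.trans h1.1)
    · exact Or.inr (hdd.trans h1.1)
  have hdt : d ∣ u + 1 := by rw [hdd]; exact Nat.gcd_dvd_right _ _
  obtain ⟨R, hR⟩ := hdt
  have hd0 : 0 < d := by rcases hd with rfl | rfl <;> norm_num
  have e3 : v * (u + 1) / d = v * R := by
    rw [hR, ← mul_assoc, mul_comm v d, mul_assoc, Nat.mul_div_cancel_left _ hd0]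
  have e4 : (u + 1) / d = R := by rw [hR, Nat.mul_div_cancel_left _ hd0]
  have e2 : d * ((u ^ 2 - 1) / d) = u ^ 2 - 1 := by
    refine Nat.mul_div_cancel' ?_
    have : u ^ 2 - 1 = (u + 1) * (u - 1) := by
      have := Nat.sq_sub_sq u 1
      rwa [one_pow] at this
    rw [this, hR]
    exact (dvd_mul_right _ _).mul_right _
  have hle : u ≤ u ^ 2 := Nat.le_self_pow two_ne_zero u
  have e1 : d * ((u ^ 2 - u + 1) / d) = u ^ 2 - u + 1 := by
    refine Nat.mul_div_cancel' ?_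
    obtain ⟨s, rfl⟩ : ∃ s, u = s + 2 := ⟨u - 2, by omega⟩
    have : (s + 2) ^ 2 - (s + 2) + 1 = (s + 2 + 1) * s + 3 := by
      have : (s + 2) ^ 2 = (s + 2 + 1) * s + 2 + (s + 2) := by ring
      omega
    rw [this, hR]
    refine dvd_add ((dvd_mul_right _ _).mul_right _) ?_
    rcases hd with rfl | rfl <;> norm_num
  rw [e3] at x2
  rw [e4] at hs
  have key := core3 h (y := -(u : ℤ)) hu2 hv2 hd (T := (u ^ 2 - u + 1) / d) (N := (u ^ 2 - 1) / d) (R := R)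
    (Or.inr ⟨rfl, by rw [e1]; omega, hR.symm⟩) (by
      rw [e2]
      have : 1 ≤ u ^ 2 := Nat.one_le_pow _ _ (by omega)
      omega) (x4 _ dvd_rfl) (x3 _ dvd_rfl) (x2 _ dvd_rfl) (by
      intro x
      rcases hs x with h1 | h1 | h1 | h1 | h1
      · rw [hR] at h1; exact Or.inr (Or.inr (Or.inl h1))
      · exact Or.inr (Or.inr (Or.inr (Or.inl h1)))
      · exact Or.inr (Or.inl h1)
      · exact Or.inl h1
      · exact Or.inr (Or.inr (Or.inr (Or.inr h1))))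
  rcases key with k | ⟨k1, k2⟩ | ⟨k1, k2⟩ | ⟨k1, k2⟩ | ⟨k1, k2⟩
  · exfalso
    apply hpF
    apply H528.UF.natCast_eq_zero h.hp
    rw [hF]
    refine Dvd.dvd.trans ?_ (dvd_pow_self u two_ne_zero)
    have h2 := h.p_dvd
    rw [← k, dvd_neg] at h2
    exact_mod_cast h2
  · omega
  · left; exact ⟨by omega, k2⟩
  · omega
  · right; exact ⟨by omega, k2⟩


end Cfsg.Agent.R2.Spec.X3
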