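import Cfsg.Agent.R2.Spec.X3.Pair
import Cfsg.Agent.S2475

/-!
# Box X3 of S3435: the row `PSL_2(u)` (helper16)
-/

set_option autoImplicit false

namespace Cfsg.Agent.R2.Spec.X3

open Cfsg

/-- `M = u`, type I -/
theorem two_I {p : ℕ} {x M N : ℤ} (hp : p.Prime) (h5 : 5 ≤ p) (hpx : (p : ℤ) ∣ x) (hx5 : 5 ≤ x)
    (hM : 2 * M = x ^ 2 + 1) (hN : 2 * N = M + 1)
    (h : 4 * N ∣ x ^ 3 - 1 ∨ N ∣ x ^ 2 - 1 ∨ 4 * N ∣ p * (x ^ 2 - 1) ∨ N ∣ p * (x - 1)) : False := by
  have h4N : 4 * N = x ^ 2 + 3 := by linarith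
  have hx2 : 5 * x ≤ x ^ 2 := by rw [sq]; exact mul_le_mul_of_nonneg_right hx5 (by omega)
  have hcp : IsCoprime (p : ℤ) (x ^ 2 + 3) := by
    rw [(Nat.prime_iff_prime_int.1 hp).coprime_iff_not_dvd]
    intro h1
    have h2 := dvd_sub h1 (hpx.mul_right x)
    rw [show x ^ 2 + 3 - x * x = 3 by ring] at h2
    have := Int.le_of_dvd (by norm_num) h2
    omega
  have k2 : ¬ (x ^ 2 + 3) ∣ 4 * (x ^ 2 - 1) := fun h1 => by
    have h2 := dvd_sub (Dvd.dvd.mul_left dvd_rfl 4) h1
    rw [show 4 * (x ^ 2 + 3) - 4 * (x ^ 2 - 1) = 16 by ring] at h2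
    have := Int.le_of_dvd (by norm_num) h2
    omega
  rcases h with h | h | h | h
  · rw [h4N] at h
    have h2 := dvd_sub (Dvd.dvd.mul_left dvd_rfl x) h
    rw [show x * (x ^ 2 + 3) - (x ^ 3 - 1) = 3 * x + 1 by ring] at h2
    have := Int.le_of_dvd (by omega) h2
    omega
  · apply k2
    rw [← h4N]
    exact mul_dvd_mul_left 4 h
  · rw [h4N] at h
    exact k2 ((hcp.symm.dvd_of_dvd_mul_left h).mul_left 4)
  · have h3 : x ^ 2 + 3 ∣ p * (4 * (x - 1)) := by
      rw [← h4N, show (p : ℤ) * (4 * (x - 1)) = 4 * (p * (x - 1)) by ring]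
      exact mul_dvd_mul_left 4 h
    have h6 := hcp.symm.dvd_of_dvd_mul_left h3
    have := Int.le_of_dvd (by omega) h6
    linarith

/-- `M = u`, type II -/
theorem two_II {p : ℕ} {x M N δ : ℤ} (hp : p.Prime) (h5 : 5 ≤ p) (hpx : (p : ℤ) ∣ x) (hx4 : x % 4 = 3)
    (hx7 : 7 ≤ x ∨ x ≤ -13) (hδ : (δ = 1 ∧ x % 3 ≠ 1) ∨ (δ = 3 ∧ x % 3 = 1))
    (hM : δ * M = x ^ 2 + x + 1) (hN : 2 * N = M + 1)
    (h : 2 * N ∣ (x ^ 2 + 1) * (x + 1) ∨ N ∣ x ^ 2 - 1 ∨ 2 * N ∣ p * (x ^ 2 - 1) ∨ N ∣ p * (x - 1) ∨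
      2 * N ∣ δ * (x - 1)) : x = 7 := by
  have hp1 := hp.one_lt
  rcases hδ with ⟨rfl, -⟩ | ⟨rfl, hx3⟩
  · exfalso
    have h2N : 2 * N = x ^ 2 + x + 2 := by linarith
    have hcp : IsCoprime (p : ℤ) (x ^ 2 + x + 2) := by
      rw [(Nat.prime_iff_prime_int.1 hp).coprime_iff_not_dvd]
      intro h1
      have h2 := dvd_sub h1 (hpx.mul_right (x + 1))
      rw [show x ^ 2 + x + 2 - x * (x + 1) = 2 by ring] at h2
      have := Int.le_of_dvd (by norm_num) h2
      omega
    have small : ∀ c : ℤ, c ≠ 0 → |c| ≤ 2 * |x| + 6 → ¬ (x ^ 2 + x + 2) ∣ c := fun c hc hc2 h1 => by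
      have h3 := Int.le_of_dvd (abs_pos.2 hc) ((dvd_abs _ _).2 h1)
      rcases hx7 with h7 | h7
      · rw [abs_of_pos (by omega : 0 < x)] at hc2
        nlinarith
      · rw [abs_of_neg (by omega : x < 0)] at hc2
        nlinarith
    have hax : 7 ≤ |x| := by rw [le_abs]; omega
    have k2 : ¬ (x ^ 2 + x + 2) ∣ 2 * (x ^ 2 - 1) := fun h1 => by
      have h2 := dvd_sub (Dvd.dvd.mul_left dvd_rfl 2) h1
      refine small _ ?_ ?_ h2
      · intro h0
        have : x = -3 := by linarith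
        omega
      · rw [show 2 * (x ^ 2 + x + 2) - 2 * (x ^ 2 - 1) = 2 * x + 6 by ring]
        have := abs_add_le (2 * x) 6
        rw [abs_mul] at this
        norm_num at this
        exact this
    have k3 : ¬ (x ^ 2 + x + 2) ∣ 2 * (x - 1) := fun h1 => by
      refine small _ (by omega) ?_ h1
      have := abs_sub (2 * x) 2
      rw [abs_mul] at this
      norm_num at this
      rw [show 2 * (x - 1) = 2 * x - 2 by ring]
      linarith
    rcases h with h | h | h | h | h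
    · rw [h2N] at h
      have h2 := dvd_sub (Dvd.dvd.mul_left dvd_rfl x) h
      rw [show x * (x ^ 2 + x + 2) - (x ^ 2 + 1) * (x + 1) = x - 1 by ring] at h2
      exact k3 (h2.mul_left 2)
    · exact k2 (by rw [← h2N]; exact mul_dvd_mul_left 2 h)
    · rw [h2N] at h
      exact k2 ((hcp.symm.dvd_of_dvd_mul_left h).mul_left 2)
    · have h3 : x ^ 2 + x + 2 ∣ p * (2 * (x - 1)) := by
        rw [← h2N, show (p : ℤ) * (2 * (x - 1)) = 2 * (p * (x - 1)) by ring]
        exact mul_dvd_mul_left 2 h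
      exact k3 (hcp.symm.dvd_of_dvd_mul_left h3)
    · rw [h2N, one_mul] at h
      exact k3 (h.mul_left 2)
  · have h6N : 6 * N = x ^ 2 + x + 4 := by linarith
    by_contra hne
    have hx' : 19 ≤ x ∨ x ≤ -17 := by omega
    have hcp : IsCoprime (p : ℤ) (x ^ 2 + x + 4) := by
      rw [(Nat.prime_iff_prime_int.1 hp).coprime_iff_not_dvd]
      intro h1
      have h2 := dvd_sub h1 (hpx.mul_right (x + 1))
      rw [show x ^ 2 + x + 4 - x * (x + 1) = 4 by ring] at h2
      have := Int.le_of_dvd (by norm_num) h2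
      omega
    have hax : 17 ≤ |x| := by rw [le_abs]; omega
    have small : ∀ c : ℤ, c ≠ 0 → |c| ≤ 9 * |x| + 30 → ¬ (x ^ 2 + x + 4) ∣ c := fun c hc hc2 h1 => by
      have h3 := Int.le_of_dvd (abs_pos.2 hc) ((dvd_abs _ _).2 h1)
      rcases hx' with h7 | h7
      · rw [abs_of_pos (by omega : 0 < x)] at hc2
        nlinarith
      · rw [abs_of_neg (by omega : x < 0)] at hc2
        nlinarith
    have k2 : ¬ (x ^ 2 + x + 4) ∣ 6 * (x ^ 2 - 1) := fun h1 => by
      have h2 := dvd_sub (Dvd.dvd.mul_left dvd_rfl 6) h1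
      refine small _ ?_ ?_ h2
      · intro h0
        have : x = -5 := by linarith
        omega
      · rw [show 6 * (x ^ 2 + x + 4) - 6 * (x ^ 2 - 1) = 6 * x + 30 by ring]
        have := abs_add_le (6 * x) 30
        rw [abs_mul] at this
        norm_num at this
        linarith
    have k3 : ¬ (x ^ 2 + x + 4) ∣ 6 * (x - 1) := fun h1 => by
      refine small _ (by omega) ?_ h1
      have := abs_sub (6 * x) 6
      rw [abs_mul] at this
      norm_num at this
      rw [show 6 * (x - 1) = 6 * x - 6 by ring]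
      linarith
    rcases h with h | h | h | h | h
    · have h1 : x ^ 2 + x + 4 ∣ 3 * ((x ^ 2 + 1) * (x + 1)) := by
        rw [← h6N, show 6 * N = 3 * (2 * N) by ring]
        exact mul_dvd_mul_left 3 h
      have h2 := dvd_sub (Dvd.dvd.mul_left dvd_rfl (3 * x)) h1
      refine small _ ?_ ?_ h2
      · intro h0
        have : 3 * (3 * x) = 3 := by linarith
        omega
      · rw [show 3 * x * (x ^ 2 + x + 4) - 3 * ((x ^ 2 + 1) * (x + 1)) = 9 * x - 3 by ring]
        have := abs_sub (9 * x) 3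
        rw [abs_mul] at this
        norm_num at this
        linarith
    · exact k2 (by rw [← h6N]; exact mul_dvd_mul_left 6 h)
    · have h1 : x ^ 2 + x + 4 ∣ p * (6 * (x ^ 2 - 1)) := by
        rw [← h6N, show (p : ℤ) * (6 * (x ^ 2 - 1)) = 6 * (p * (x ^ 2 - 1)) by ring]
        exact mul_dvd_mul_left 6 ((dvd_mul_left _ _).trans h)
      exact k2 (hcp.symm.dvd_of_dvd_mul_left h1)
    · have h3 : x ^ 2 + x + 4 ∣ p * (6 * (x - 1)) := by
        rw [← h6N, show (p : ℤ) * (6 * (x - 1)) = 6 * (p * (x - 1)) by ring]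
        exact mul_dvd_mul_left 6 h
      exact k3 (hcp.symm.dvd_of_dvd_mul_left h3)
    · have h3 : x ^ 2 + x + 4 ∣ 9 * (x - 1) := by
        rw [← h6N, show 9 * (x - 1) = 3 * (3 * (x - 1)) by ring, show 6 * N = 3 * (2 * N) by ring]
        exact mul_dvd_mul_left 3 h
      refine small _ (by omega) ?_ h3
      have := abs_sub (9 * x) 9
      rw [abs_mul] at this
      norm_num at this
      rw [show 9 * (x - 1) = 9 * x - 9 by ring]
      linarith

/-- `u = M ^ t`, `t ≥ 2` -/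
theorem two_big {p M N : ℕ} {x : ℤ} {S : Type*} [Group S] (h : Cand p x M S) {t : ℕ} (ht : 2 ≤ t)
    (hN : 2 * N = M ^ t + 1) (eN : ∃ g : S, orderOf g = N) (cN : Nat.Coprime N M) : False := by
  have hM13 := h.M_ge
  have hle := h.le_free eN cN
  have hMt : M ^ 2 ≤ M ^ t := Nat.pow_le_pow_right (by omega) ht
  have hM35 : M ≤ 35 := by
    by_contra hcon
    push Not at hcon
    have h1 : (M ^ 2) ^ 2 ≤ (2 * N) ^ 2 := Nat.pow_le_pow_left (by omega) 2
    have h2 : M ^ 3 * M ≤ M ^ 3 * 35 := by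
      have h3 : (2 * N) ^ 2 = 4 * N ^ 2 := by ring
      have h4 : (M ^ 2) ^ 2 = M ^ 3 * M := by ring
      have h5 : 0 < M ^ 3 := by positivity
      have h6 : (M ^ 2) ^ 2 + 1 ≤ (2 * N) ^ 2 := by
        have h7 : M ^ 2 < 2 * N := by omega
        have h8 : (M ^ 2) ^ 2 < (2 * N) ^ 2 := Nat.pow_lt_pow_left h7 two_ne_zero
        omega
      have h9 : M ^ 3 * M < M ^ 3 * 36 := by omega
      have h10 := Nat.lt_of_mul_lt_mul_left h9
      omega
    have := Nat.le_of_mul_le_mul_left h2 (by positivity)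
    omega
  have hcase : (x = 5 ∧ M = 13) ∨ (x = 7 ∧ M = 19 ∧ TII x M 3) := by
    rcases h.typ with ⟨g1, g2, g3⟩ | ⟨δ, hty⟩
    · left
      have h1 : x < 9 := by
        by_contra hcon
        push Not at hcon
        have : 9 * 9 ≤ x ^ 2 := by rw [sq]; exact mul_le_mul hcon hcon (by norm_num) (by omega)
        omega
      have h2 : x = 5 := by omega
      subst h2
      exact ⟨rfl, by omega⟩
    · right
      obtain ⟨g1, g2, g3, g4⟩ := hty
      have hδ3 : δ * M ≤ 105 := by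
        rcases g3 with ⟨rfl, -⟩ | ⟨rfl, -⟩ <;> omega
      have h1 : x = 7 := by
        rcases g2 with g2 | g2
        · by_contra hne
          have h3 : 11 ≤ x := by omega
          have : 11 * 11 ≤ x ^ 2 := by rw [sq]; exact mul_le_mul h3 h3 (by norm_num) (by omega)
          omega
        · exfalso
          have h3 : 13 ≤ -x := by omega
          have : 13 * (-x) ≤ x ^ 2 := by
            have := mul_le_mul_of_nonneg_right h3 (by omega : 0 ≤ -x)
            linarith [neg_mul_neg x x, sq x]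
          omega
      subst h1
      have hδ : δ = 3 := by
        rcases g3 with ⟨-, h⟩ | ⟨h, -⟩
        · norm_num at h
        · exact h
      subst hδ
      exact ⟨rfl, by omega, g1, g2, g3, g4⟩
  have ht2 : t = 2 := by
    by_contra hne
    have h3 : M ^ 3 ≤ M ^ t := Nat.pow_le_pow_right (by omega) (by omega)
    rcases hcase with ⟨-, rfl⟩ | ⟨-, rfl, -⟩
    · have : 13 ^ 3 < 2 * N := by omega
      have h4 : (13 ^ 3) ^ 2 < (2 * N) ^ 2 := Nat.pow_lt_pow_left this two_ne_zero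
      have h5 : (2 * N) ^ 2 = 4 * N ^ 2 := by ring
      norm_num at h4 hle
      omega
    · have : 19 ^ 3 < 2 * N := by omega
      have h4 : (19 ^ 3) ^ 2 < (2 * N) ^ 2 := Nat.pow_lt_pow_left this two_ne_zero
      have h5 : (2 * N) ^ 2 = 4 * N ^ 2 := by ring
      norm_num at h4 hle
      omega
  subst ht2
  have hpd := h.p_dvd
  rcases hcase with ⟨rfl, rfl⟩ | ⟨rfl, rfl, hty⟩
  · have hN85 : N = 85 := by norm_num at hN; omega
    subst hN85
    have hp5 : p = 5 := by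
      have : p ∣ 5 := by exact_mod_cast hpd
      exact (Nat.prime_dvd_prime_iff_eq h.hp (by norm_num)).1 this
    subst hp5
    have := h.freeI eN cN (by norm_num)
    norm_num at this
  · have hN181 : N = 181 := by norm_num at hN; omega
    subst hN181
    have hp7 : p = 7 := by
      have : p ∣ 7 := by exact_mod_cast hpd
      exact (Nat.prime_dvd_prime_iff_eq h.hp (by norm_num)).1 this
    subst hp7
    have := h.freeII eN cN hty
    norm_num at this

/-- **`PSL_2(u)`** -/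
theorem row_psl2 {F : Type*} [Field F] [Fintype F] (h4 : 4 ≤ Fintype.card F) {p M : ℕ} {x : ℤ} (hpF : (p : F) ≠ 0)
    (h : Cand p x M (Matrix.ProjectiveSpecialLinearGroup (Fin 2) F)) : Fintype.card F = 19 ∧ x = 7 := by
  obtain ⟨v, hv⟩ := CharP.exists F
  have hvf : Fact v.Prime := ⟨CharP.char_is_prime F v⟩
  have hs := S2475.result (F := F) v h4
  have hmem : ∀ m : ℕ, (∃ x : Matrix.ProjectiveSpecialLinearGroup (Fin 2) F, orderOf x = m) ↔
      (m ∣ v ∨ m ∣ (Fintype.card F - 1) / Nat.gcd 2 (Fintype.card F - 1) ∨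
        m ∣ (Fintype.card F + 1) / Nat.gcd 2 (Fintype.card F - 1)) := fun m => by
    have := Set.ext_iff.1 hs m
    exact this
  have hA := (hmem _).2 (Or.inr (Or.inl dvd_rfl))
  have hB := (hmem _).2 (Or.inr (Or.inr dvd_rfl))
  obtain ⟨t, hvp, ht⟩ := FiniteField.card F v
  have ht0 := t.pos
  have hvne : v ≠ p := by
    rintro rfl
    exact hpF (CharP.cast_eq_zero F v)
  have hmo := h.M_odd
  have hm13 := h.M_ge
  have hvS : v ∣ Nat.card (Matrix.ProjectiveSpecialLinearGroup (Fin 2) F) := by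
    obtain ⟨g, hg⟩ := (hmem v).2 (Or.inl dvd_rfl)
    rw [← hg]
    exact orderOf_dvd_natCard g
  set u := Fintype.card F with hu
  set g := Nat.gcd 2 (u - 1) with hg
  have hg12 : (g = 1 ∧ u % 2 = 0) ∨ (g = 2 ∧ u % 2 = 1) := by
    rcases Nat.mod_two_eq_zero_or_one u with h1 | h1
    · left
      refine ⟨?_, h1⟩
      have : Nat.Coprime 2 (u - 1) := Nat.coprime_two_left.2 (Nat.odd_iff.2 (by omega))
      exact this
    · right
      refine ⟨?_, h1⟩
      exact Nat.gcd_eq_left (by omega)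
  -- the two torus orders
  have hcop : ∀ a b : ℕ, M ∣ a → a ∣ u + 1 → b ∣ u - 1 → Nat.Coprime b M := by
    intro a b h1 h2 h3
    refine Nat.Coprime.symm (Nat.coprime_of_dvd fun r hr hra hrb => ?_)
    have h5 : r ∣ u + 1 := hra.trans (h1.trans h2)
    have h6 : r ∣ u - 1 := hrb.trans h3
    have h7 := Nat.dvd_sub h5 h6
    have h8 : u + 1 - (u - 1) = 2 := by omega
    rw [h8] at h7
    have h9 := (Nat.prime_dvd_prime_iff_eq hr Nat.prime_two).1 h7
    rw [h9] at hra
    omega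
  have hcop' : ∀ a b : ℕ, M ∣ a → a ∣ u - 1 → b ∣ u + 1 → Nat.Coprime b M := by
    intro a b h1 h2 h3
    refine Nat.Coprime.symm (Nat.coprime_of_dvd fun r hr hra hrb => ?_)
    have h5 : r ∣ u - 1 := hra.trans (h1.trans h2)
    have h6 : r ∣ u + 1 := hrb.trans h3
    have h7 := Nat.dvd_sub h6 h5
    have h8 : u + 1 - (u - 1) = 2 := by omega
    rw [h8] at h7
    have h9 := (Nat.prime_dvd_prime_iff_eq hr Nat.prime_two).1 h7
    rw [h9] at hra
    omega
  have hdm : (u - 1) / g ∣ u - 1 := Nat.div_dvd_of_dvd (Nat.gcd_dvd_right _ _)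
  have hdp' : g ∣ u + 1 := by
    rcases hg12 with ⟨h1, h2⟩ | ⟨h1, h2⟩ <;> rw [h1]
    · exact one_dvd _
    · omega
  have hdp : (u + 1) / g ∣ u + 1 := Nat.div_dvd_of_dvd hdp'
  have hcg : (g = 1 ∧ Even u) ∨ (g = 2 ∧ Odd u) := by
    rcases hg12 with ⟨h1, h2⟩ | ⟨h1, h2⟩
    · exact Or.inl ⟨h1, Nat.even_iff.2 h2⟩
    · exact Or.inr ⟨h1, Nat.odd_iff.2 h2⟩
  have eA : g * ((u - 1) / g) = u - 1 := Nat.mul_div_cancel' (Nat.gcd_dvd_right _ _)
  have eB : g * ((u + 1) / g) = u + 1 := Nat.mul_div_cancel' hdp'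
  rcases (hmem _).1 h.elt with h1 | h1 | h1
  · -- `M = v`
    have hMv : M = v := ((Nat.dvd_prime hvp).1 h1).resolve_left (by omega)
    have hvodd : v % 2 = 1 := by omega
    have huodd : u % 2 = 1 := by
      rw [ht, Nat.pow_mod, hvodd]; simp
    have hg2 : g = 2 := by
      rcases hg12 with ⟨h2, h3⟩ | ⟨h2, h3⟩
      · omega
      · exact h2
    rw [hg2] at hB eB
    have hcN : Nat.Coprime ((u + 1) / 2) M := by
      refine Nat.Coprime.symm (Nat.coprime_of_dvd fun r hr hra hrb => ?_)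
      have h5 : r ∣ u + 1 := hrb.trans (Nat.div_dvd_of_dvd (by omega))
      have h6 : r ∣ u := by
        rw [hMv] at hra
        rw [ht]
        exact hra.trans (dvd_pow_self v (by omega))
      have h7 := (Nat.dvd_add_right h6).1 h5
      exact hr.one_lt.ne' (Nat.dvd_one.1 h7)
    rcases Nat.lt_or_ge (t : ℕ) 2 with ht1 | ht2
    · have ht1' : (t : ℕ) = 1 := by omega
      rw [ht1', pow_one, ← hMv] at ht
      rw [ht] at hB hcN eB
      have eBZ : 2 * ((((M + 1) / 2 : ℕ)) : ℤ) = M + 1 := by exact_mod_cast eB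
      rcases h.typ with ⟨g1, g2, g3⟩ | ⟨δ, hty⟩
      · exact (two_I h.hp h.h5 h.p_dvd g2 g3 eBZ (h.freeI hB hcN g1)).elim
      · have hfr := h.freeII hB hcN hty
        obtain ⟨g1, g2, g3, g4⟩ := hty
        have hx7 := two_II h.hp h.h5 h.p_dvd g1 g2 g3 g4 eBZ hfr
        refine ⟨?_, hx7⟩
        rw [hx7] at g3 g4
        rcases g3 with ⟨-, g3⟩ | ⟨g3, -⟩
        · norm_num at g3
        · rw [g3] at g4
          rw [ht]
          omega
    · exfalso
      refine two_big h ht2 (N := (u + 1) / 2) ?_ hB hcN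
      rw [eB, ht, hMv]
  · -- `M ∣ (u - 1) / g`
    exact (h.no_twin hvp hvne ht0 ht hvS hcg eA eB hA hB (Or.inl ⟨h1, hcop' _ _ h1 hdm hdp⟩)).elim
  · -- `M ∣ (u + 1) / g`
    exact (h.no_twin hvp hvne ht0 ht hvS hcg eA eB hA hB (Or.inr ⟨h1, hcop _ _ h1 hdp hdm⟩)).elim

end Cfsg.Agent.R2.Spec.X3
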