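import Cfsg.Agent.R2.Spec.X3.Frame
import Cfsg.Agent.R2.Spec.X3.RowTwo
import Cfsg.Agent.R2.Spec.X3.RowThree
import Cfsg.Agent.R2.Spec.X3.PL.RowOf
import Cfsg.Agent.R2.Spec.X3.PO.Orth
import Cfsg.Agent.R2.Spec.X2.QR
import Cfsg.Agent.S3456
import Cfsg.Agent.S3461
import Cfsg.Agent.S3606

/-!
# Box X3 of S3435: `PSL_4(q)`, `PSU_4(q)`, given the exceptional rows (helper16)

* `ExcRows` : the exceptional rows;
* `specQR_psl_four_of`, `specQR_psu_four_of`.
-/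

set_option autoImplicit false
set_option linter.unusedSectionVars false

namespace Cfsg.Agent.R2.Spec.X3

open Subgroup Cfsg
open Cfsg.Agent.H420.QR (Red)
open Cfsg.Agent.H426.LieFam (Fam)

universe u v w

/-- the exceptional families -/
def ExcFam : Fam → Prop
  | .g2 => True
  | .f4 => True
  | .e6 => True
  | .e7 => True
  | .e8 => True
  | .te6 => True
  | .td4 => True
  | .sz => True
  | .tf4 => True
  | .ree => True
  | _ => False

/-- the exceptional rows -/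
def ExcRows : Prop := ∀ (p M : ℕ) (x : ℤ) (S : Type u) [Group S] [Finite S], Cand p x M S →
  ∀ (f : Fam) (v e : ℕ), ExcFam f → v.Prime → v ≠ p → Fam.Is v e S f → False

theorem cast_ne {F : Type*} [Field F] [Fintype F] {v p : ℕ} [CharP F v] (hv : v.Prime) (hp : p.Prime) (h : v ≠ p) :
    (p : F) ≠ 0 := fun h1 => h ((Nat.prime_dvd_prime_iff_eq hv hp).1 ((CharP.cast_eq_zero_iff F v p).1 h1))

theorem psu3_conv {F : Type} [Field F] [Fintype F] {S : Type*} [Group S] {u w : ℕ} (h : u = w)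
    (ε : S ≃* Cfsg.PSU 3 F u) : Nonempty (S ≃* Cfsg.PSU 3 F w) := by
  subst h
  exact ⟨ε⟩

theorem Cand.hasPair {p M : ℕ} {x : ℤ} {S : Type*} [Group S] (h : Cand p x M S) : PL.HasPair p M x S :=
  fun _ _ hT hMT hN hN0 hNM hK => h.pair hT hMT hN hN0 hNM hK

theorem noCross3 (hE : ExcRows.{u}) : NoCross3.{u} := by
  intro p M x S _ _ h f v e hv hvp hIs
  have hp := h.hp
  cases f with
  | psl n =>
    obtain ⟨hn, h4, F, i1, i2, i3, hF, ⟨ε⟩⟩ := hIs
    have hC := h.congr ε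
    have hpF : (p : F) ≠ 0 := cast_ne hv hp hvp
    rcases (by omega : n = 2 ∨ n = 3 ∨ 4 ≤ n) with rfl | rfl | h5
    · obtain ⟨k1, k2⟩ := row_psl2 (by rw [hF]; exact h4 rfl) hpF hC
      exact Or.inl ⟨k2, F, i1, i2, k1, ⟨ε⟩⟩
    · rcases row_psl3 hpF hC with ⟨k1, k2⟩ | ⟨k1, k2⟩
      · exact Or.inr (Or.inl ⟨k2, F, i1, i2, k1, ⟨ε⟩⟩)
      · exact Or.inr (Or.inr (Or.inl ⟨k2, F, i1, i2, k1, ⟨ε⟩⟩))
    · exact (PL.row_lin_of (e := true) (u := Fintype.card F) (L := Matrix.ProjectiveSpecialLinearGroup (Fin n) F)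
        ⟨MulEquiv.refl _⟩ (by simp) h5 hpF hC hC.hasPair).elim
  | psu n =>
    obtain ⟨hn, h32, F, i1, i2, i3, hF, ⟨ε⟩⟩ := hIs
    have hC := h.congr ε
    have hpF : (p : F) ≠ 0 := cast_ne hv hp hvp
    rcases (by omega : n = 3 ∨ 4 ≤ n) with rfl | h5
    · rcases row_psu3 hF hpF hC with ⟨k1, k2⟩ | ⟨k1, k2⟩
      · exact Or.inr (Or.inr (Or.inr (Or.inl ⟨k2, F, i1, i2, by rw [hF, k1], psu3_conv k1 ε⟩)))
      · exact Or.inr (Or.inr (Or.inr (Or.inr ⟨k2, F, i1, i2, by rw [hF, k1], psu3_conv k1 ε⟩)))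
    · have hfin : Finite (Cfsg.PSU n F (v ^ e)) := Finite.of_equiv S ε.toEquiv
      exact (PL.row_lin_of (e := false) (u := v ^ e) (L := Cfsg.PSU n F (v ^ e))
        ⟨MulEquiv.refl _⟩ (by simpa using hF) h5 hpF hC hC.hasPair).elim
  | psp m =>
    obtain ⟨hm, hm2, F, i1, i2, i3, hF, ⟨ε⟩⟩ := hIs
    exact (PO.row_psp hm (cast_ne (F := F) hv hp hvp) (h.congr ε)).elim
  | oodd m =>
    obtain ⟨hm, ho, F, i1, i2, i3, hF, ⟨ε⟩⟩ := hIs
    exact (PO.row_omegaOdd (by rw [Nat.card_eq_fintype_card, hF]; exact ho) hm (cast_ne (F := F) hv hp hvp) (h.congr ε)).elim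
  | oplus m =>
    obtain ⟨hm, F, i1, i2, i3, hF, ⟨ε⟩⟩ := hIs
    exact (PO.row_plus hm (cast_ne (F := F) hv hp hvp) (h.congr ε)).elim
  | ominus m =>
    obtain ⟨hm, F, i1, i2, i3, a, b, hF, hab, ⟨ε⟩⟩ := hIs
    exact (PO.row_minus hm hab (cast_ne (F := F) hv hp hvp) (h.congr ε)).elim
  | g2 => exact (hE p M x S h .g2 v e trivial hv hvp hIs).elim
  | f4 => exact (hE p M x S h .f4 v e trivial hv hvp hIs).elim
  | e6 => exact (hE p M x S h .e6 v e trivial hv hvp hIs).elim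
  | e7 => exact (hE p M x S h .e7 v e trivial hv hvp hIs).elim
  | e8 => exact (hE p M x S h .e8 v e trivial hv hvp hIs).elim
  | te6 => exact (hE p M x S h .te6 v e trivial hv hvp hIs).elim
  | td4 => exact (hE p M x S h .td4 v e trivial hv hvp hIs).elim
  | sz => exact (hE p M x S h .sz v e trivial hv hvp hIs).elim
  | tf4 => exact (hE p M x S h .tf4 v e trivial hv hvp hIs).elim
  | ree => exact (hE p M x S h .ree v e trivial hv hvp hIs).elim

open Cfsg.Agent.H403 Cfsg.Agent.H403.NumTop in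
/-- **`PSL_4(q)`, `PSU_4(q)`, `p ≥ 5`** -/
theorem qr_of_isL (hE : ExcRows.{u}) {F : Type v} [Field F] [Fintype F] {e : Bool} {p k q M : ℕ} {L : Type w} [Group L]
    [Finite L] (hL : IsL L e 4 q F) (hF : Fintype.card F = q ^ (cond e 0 1 + 1)) (hp : p.Prime) (h5 : 5 ≤ p)
    (hq : q = p ^ k) (hk : 1 ≤ k) (htyp : TI (xv e q) M ∨ ∃ δ, TII (xv e q) M δ)
    {G : Type u} [Group G] [Finite G] (hω : Set.range (orderOf : G → ℕ) = Set.range (orderOf : L → ℕ)) :
    ∃ (K H : Subgroup G) (_ : K.Normal) (_ : H.Normal), K ≤ H ∧ Group.IsSolvable ↥K ∧ Group.IsSolvable (G ⧸ H) ∧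
      Nonempty (↥H ⧸ K.subgroupOf H ≃* L) := by
  have hfct := fct hL hF hp h5 hq hk htyp
  have hch : CharP F p := Cfsg.Agent.H402.Uni.charP_of hF hp hq hk
  have hq5 : 5 ≤ q := by
    rw [hq]
    exact h5.trans (Nat.le_self_pow (by omega) p)
  have hfour : IsFour F L := by
    cases e with
    | true => exact Or.inl ⟨by rw [hF]; simp; omega, hL⟩
    | false => exact Or.inr ⟨q, by omega, by simpa using hF, hL⟩
  obtain ⟨K, hK, S, hS, R, he⟩ := exists_iso (noCross3 hE) hfour hfct hω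
  exact R.quasi he

end Cfsg.Agent.R2.Spec.X3
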