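import Cfsg.Agent.R2.Spec.X3.PairBig

/-!
# The pair lemma, type II (helper16, S3435, box X3)
-/

set_option autoImplicit false

namespace Cfsg.Agent.R2.Spec.X3

namespace Cand

variable {p M : ℕ} {x : ℤ} {S : Type*} [Group S] (h : Cand p x M S)

include h

theorem smallII (hx : x % 4 = 3) : (x = 7 ∧ p = 7) ∨ (x = 11 ∧ p = 11) ∨ (x = 19 ∧ p = 19) ∨ (x = 23 ∧ p = 23) ∨
    (x = -13 ∧ p = 13) ∨ (x = -17 ∧ p = 17) ∨ (x = -25 ∧ p = 5) ∨ 29 ≤ x ∨ x ≤ -29 := by
  have hp := h.hp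
  have h5 := h.h5
  have hb : 7 ≤ x ∨ x ≤ -13 := by rcases h.x_bd with k | k | k <;> omega
  by_cases h1 : 29 ≤ x ∨ x ≤ -29
  · tauto
  push Not at h1
  obtain ⟨k, hk, hx'⟩ := h.ex
  have h9 : x = 7 ∨ x = 11 ∨ x = 15 ∨ x = 19 ∨ x = 23 ∨ x = 27 ∨ x = -13 ∨ x = -17 ∨ x = -21 ∨ x = -25 := by omega
  have key : ∀ r : ℕ, r.Prime → r ∣ x.natAbs → r = p := fun r hr hd =>
    (Nat.prime_dvd_prime_iff_eq hr hp).1 (hr.dvd_of_dvd_pow (hx' ▸ hd))
  rcases h9 with rfl | rfl | rfl | rfl | rfl | rfl | rfl | rfl | rfl | rfl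
  · have := key 7 (by norm_num) (by norm_num); omega
  · have := key 11 (by norm_num) (by norm_num); omega
  · have := key 3 (by norm_num) (by norm_num); omega
  · have := key 19 (by norm_num) (by norm_num); omega
  · have := key 23 (by norm_num) (by norm_num); omega
  · have := key 3 (by norm_num) (by norm_num); omega
  · have := key 13 (by norm_num) (by norm_num); omega
  · have := key 17 (by norm_num) (by norm_num); omega
  · have := key 3 (by norm_num) (by norm_num); omega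
  · have := key 5 (by norm_num) (by norm_num); omega

/-- `25 p ≤ |x|` for `δ = 3`, `p ≠ |x|` -/
theorem p_le_three (hx : x % 12 = 7) (hp : 5 * (p : ℤ) ≤ |x|) : 25 * (p : ℤ) ≤ |x| := by
  obtain ⟨k, hk, hx'⟩ := h.ex
  have h5 := h.h5
  have hpp := h.hp
  rw [Int.abs_eq_natAbs, hx'] at hp ⊢
  have hp12 : p ^ 2 % 12 = 1 := by
    have h2 : p % 2 ≠ 0 := fun h0 => by
      have := (Nat.prime_dvd_prime_iff_eq Nat.prime_two hpp).1 (Nat.dvd_of_mod_eq_zero h0); omega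
    have h3 : p % 3 ≠ 0 := fun h0 => by
      have := (Nat.prime_dvd_prime_iff_eq Nat.prime_three hpp).1 (Nat.dvd_of_mod_eq_zero h0); omega
    have h4 : p % 12 = 1 ∨ p % 12 = 5 ∨ p % 12 = 7 ∨ p % 12 = 11 := by omega
    rcases h4 with h4 | h4 | h4 | h4 <;> rw [Nat.pow_mod, h4]
  rcases Nat.even_or_odd k with hev | hodd
  · exfalso
    obtain ⟨m, hm⟩ := hev
    have h6 : x.natAbs % 12 = 1 := by
      rw [hx', hm, ← two_mul, pow_mul, Nat.pow_mod, hp12, one_pow]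
      rfl
    omega
  · obtain ⟨m, hm⟩ := hodd
    rcases Nat.eq_zero_or_pos m with rfl | hm0
    · rw [hm] at hp
      simp at hp
      omega
    · obtain ⟨m', rfl⟩ : ∃ m', m = m' + 1 := ⟨m - 1, by omega⟩
      have h7 : 25 * p ≤ p ^ k := by
        have e : p ^ k = p * p * (p * p ^ (2 * m')) := by rw [hm]; ring
        rw [e]
        have h8 : 1 ≤ p ^ (2 * m') := Nat.one_le_pow _ _ (by omega)
        calc 25 * p ≤ p * p * p := Nat.mul_le_mul_right _ (Nat.mul_le_mul h5 h5)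
          _ = p * p * (p * 1) := by ring
          _ ≤ _ := Nat.mul_le_mul_left _ (Nat.mul_le_mul_left _ h8)
      exact_mod_cast h7

/-- **the pair lemma, type II** -/
theorem pairII (hx : x % 4 = 3) {T N : ℕ} (hT : ∃ g : S, orderOf g = T) (hMT : M ∣ T) (hN : ∃ g : S, orderOf g = N)
    (hN0 : N ≠ 0) (hNM : Nat.Coprime N M) (hK : ((T : ℤ) - N) ^ 2 ≤ 5 * T) : OutII p x T N := by
  obtain ⟨a, hTa, hao, ha1, -, haII⟩ := h.tor hT hMT
  obtain ⟨d, hty⟩ : ∃ d, TII x M d := by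
    rcases h.typ with ⟨h1, -⟩ | h1
    · omega
    · exact h1
  have hfree := h.freeII hN hNM hty
  obtain ⟨i, hi⟩ := haII d hty
  obtain ⟨-, hb, hd3, hdM⟩ := hty
  have hd : d = 1 ∨ (d = 3 ∧ x % 12 = 7) := by
    clear hi hfree hdM hK haII hTa
    omega
  have hd0 : 0 < d := by rcases hd with h1 | ⟨h1, -⟩ <;> rw [h1] <;> norm_num
  have haZ : (1 : ℤ) ≤ a := by exact_mod_cast ha1
  have haoZ : (a : ℤ) % 2 = 1 := by omega
  have hNZ : (0 : ℤ) < N := by exact_mod_cast Nat.pos_of_ne_zero hN0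
  -- `x = s y`
  obtain ⟨s, y, hs, hy, hxy⟩ : ∃ s y : ℤ, (s = 1 ∨ s = -1) ∧ 7 ≤ y ∧ x = s * y := by
    rcases hb with h1 | h1
    · exact ⟨1, x, Or.inl rfl, h1, by ring⟩
    · exact ⟨-1, -x, Or.inr rfl, by omega, by ring⟩
  have hxa : |x| = y := by
    rw [hxy]
    rcases hs with rfl | rfl
    · rw [one_mul, abs_of_nonneg (by omega)]
    · rw [neg_one_mul, abs_neg, abs_of_nonneg (by omega)]
  have hs2 : s * s = 1 := by rcases hs with rfl | rfl <;> norm_num
  have hPx : x ^ 2 + x + 1 = y ^ 2 + s * y + 1 := by rw [hxy]; linear_combination y ^ 2 * hs2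
  have hx2 : x ^ 2 = y ^ 2 := by rw [hxy]; linear_combination y ^ 2 * hs2
  have hdT : d * (T : ℤ) = a * (y ^ 2 + s * y + 1) := by rw [hTa, ← hPx, ← hdM]; push_cast; ring
  have hK' : ((a : ℤ) * (y ^ 2 + s * y + 1) - d * N) ^ 2 ≤ 5 * d * (a * (y ^ 2 + s * y + 1)) := by
    rw [← hdT]
    have h1 := mul_le_mul_of_nonneg_left hK (sq_nonneg d)
    have e1 : d ^ 2 * ((T : ℤ) - N) ^ 2 = (d * T - d * N) ^ 2 := by ring
    have e2 : d ^ 2 * (5 * (T : ℤ)) = 5 * d * (d * T) := by ring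
    rwa [e1, e2] at h1
  -- the divisibilities in terms of `y`
  have sg : ∀ c c' : ℤ, c = s * c' → ∀ n : ℤ, n ∣ c → n ∣ c' := fun c c' hc n hn => by
    have : c' = s * c := by rw [hc, ← mul_assoc, hs2, one_mul]
    rw [this]; exact hn.mul_left s
  have hsx : s * (y + s) = x + 1 := by rw [hxy]; linear_combination hs2
  have hsx' : s * (y - s) = x - 1 := by rw [hxy]; linear_combination -hs2
  have hai : 2 * ((a : ℤ) * (s * i)) = d * (y - s) := by
    have : s * (d * (x - 1)) = s * (2 * a * i) := by rw [hi]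
    rw [← hsx'] at this
    have e : s * (d * (s * (y - s))) = d * (y - s) := by linear_combination d * (y - s) * hs2
    rw [e] at this
    linarith
  have hfree' : 2 * (N : ℤ) ∣ (y ^ 2 + 1) * (y + s) ∨ (N : ℤ) ∣ y ^ 2 - 1 ∨ 2 * (N : ℤ) ∣ p * (y ^ 2 - 1) ∨
      (N : ℤ) ∣ p * (y - s) ∨ 2 * (N : ℤ) ∣ d * (y - s) := by
    rw [hx2] at hfree
    rcases hfree with k | k | k | k | k
    · exact Or.inl (sg _ _ (by rw [← hsx]; ring) _ k)
    · exact Or.inr (Or.inl k)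
    · exact Or.inr (Or.inr (Or.inl k))
    · exact Or.inr (Or.inr (Or.inr (Or.inl (sg _ _ (by rw [← hsx']; ring) _ k))))
    · exact Or.inr (Or.inr (Or.inr (Or.inr (sg _ _ (by rw [← hsx']; ring) _ k))))
  have hp5 : (5 : ℤ) ≤ p := by exact_mod_cast h.h5
  have hpc := h.p_cases
  rw [hxa] at hpc
  have hd13 : d = 1 ∨ d = 3 := hd.imp id And.left
  -- the outcome
  suffices hout : OutS s y p d a T N by
    have Tof : (a : ℤ) = d → (T : ℤ) = x ^ 2 + x + 1 := fun had => by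
      rw [had, ← hPx] at hdT
      exact mul_left_cancel₀ hd0.ne' hdT
    have Tof1 : (a : ℤ) = 1 → d * (T : ℤ) = x ^ 2 + x + 1 := fun had => by
      rw [had, ← hPx, one_mul] at hdT
      exact hdT
    have hxx : x ^ 2 - x = y ^ 2 - s * y := by rw [hx2, hxy]
    have hxx' : x ^ 2 + x = y ^ 2 + s * y := by rw [hx2, hxy]
    rcases hout with ⟨g1, g2⟩ | ⟨g1, g2⟩ | ⟨g1, g2⟩ | ⟨g0, g1, g2⟩ | ⟨g0, g1, g2⟩ | ⟨g0, g2⟩ | g2
    · left; exact ⟨d, hd13, Or.inl ⟨Tof1 g1, by rw [hx2]; exact g2⟩⟩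
    · left; exact ⟨1, Or.inl rfl, Or.inl ⟨by rw [one_mul]; exact Tof g1, by rw [one_mul, hx2]; exact g2⟩⟩
    · right; left; exact ⟨Tof g1, by rw [hx2]; exact g2⟩
    · left; exact ⟨d, hd13, Or.inr (Or.inl ⟨by rw [hxa]; exact g0, Tof1 g1, by rw [hxx]; exact g2⟩)⟩
    · left; exact ⟨1, Or.inl rfl, Or.inr (Or.inl ⟨by rw [hxa]; exact g0, by rw [one_mul]; exact Tof g1,
        by rw [one_mul, hxx]; exact g2⟩)⟩
    · left; exact ⟨d, hd13, Or.inr (Or.inr ⟨by rw [hxa]; exact g0, a, haZ, haoZ, by rw [hPx]; exact hdT,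
        by rw [hxx']; exact g2⟩)⟩
    · right; right; rw [hxy]; exact g2
  have hcase : (29 ≤ y) ∨ ((x = 7 ∧ p = 7) ∨ (x = 11 ∧ p = 11) ∨ (x = 19 ∧ p = 19) ∨ (x = 23 ∧ p = 23) ∨
    (x = -13 ∧ p = 13) ∨ (x = -17 ∧ p = 17) ∨ (x = -25 ∧ p = 5)) := by
    rcases h.smallII hx with k | k | k | k | k | k | k | k | k
    · exact Or.inr (Or.inl k)
    · exact Or.inr (Or.inr (Or.inl k))
    · exact Or.inr (Or.inr (Or.inr (Or.inl k)))
    · exact Or.inr (Or.inr (Or.inr (Or.inr (Or.inl k))))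
    · exact Or.inr (Or.inr (Or.inr (Or.inr (Or.inr (Or.inl k)))))
    · exact Or.inr (Or.inr (Or.inr (Or.inr (Or.inr (Or.inr (Or.inl k))))))
    · exact Or.inr (Or.inr (Or.inr (Or.inr (Or.inr (Or.inr (Or.inr k))))))
    · left; rw [← hxa]; exact k.trans (le_abs_self x)
    · left; rw [← hxa]; exact (by linarith : (29 : ℤ) ≤ -x).trans (neg_le_abs x)
  rcases hcase with hbig | hsm
  · have hd' : d = 1 ∨ (d = 3 ∧ (s * y) % 12 = 7) := by rw [← hxy]; exact hd
    have h4' : (s * y) % 4 = 3 := by rw [← hxy]; exact hx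
    rcases hfree' with k | k | k | k | k
    · exact PairII.caseB hbig hs hd' h4' haZ haoZ hai hNZ hdT hK' k
    · exact PairII.caseC hbig hs hd' haZ haoZ hNZ hK' k
    · rcases hpc with hp | hp
      · exact PairII.caseD hbig hs hd' h4' haZ haoZ hai hNZ hK' h.hp hp k
      · exfalso
        have hpo : (p : ℤ) % 2 = 1 := by
          have h5' := h.h5
          have hpp := h.hp.eq_two_or_odd
          clear * - h5' hpp
          omega
        refine PairII.caseD' hbig hs hd' haZ hNZ hK' hp5 hpo hp (fun h12 => ?_) k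
        have hp25 := h.p_le_three (by rw [hxy]; exact h12) (by rw [hxa]; exact hp)
        rwa [hxa] at hp25
    · rcases hpc with hp | hp
      · exact PairII.caseE hbig hs hd' haZ haoZ hNZ hK' hp k
      · exact (PairII.caseE' hbig hs hd' haZ hNZ hK' hp5 hp k).elim
    · exact (PairII.caseF hbig hs hd' haZ hNZ hK' k).elim
  · -- the finite check
    have h2a : 2 * (a : ℤ) ∣ d * (y - s) := ⟨s * i, by rw [← hai]; ring⟩
    exact finAll hs hy hxy hd3 hsm hao h2a hdT (Nat.pos_of_ne_zero hN0) hK hK' hfree'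

end Cand

end Cfsg.Agent.R2.Spec.X3
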