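import Cfsg.Agent.R2.Spec.X3.PairIF
import Cfsg.Agent.R2.Spec.X3.PairIIF

/-!
# The pair lemma (helper16, S3435, box X3)
-/

set_option autoImplicit false

namespace Cfsg.Agent.R2.Spec.X3

/-- `z = v ^ m` is not a number with two prime divisors -/
theorem not_pp {v m z r s : ℕ} (hv : v.Prime) (hz : z = v ^ m) (hr : r.Prime) (hs : s.Prime) (hrs : r ≠ s)
    (h1 : r ∣ z) (h2 : s ∣ z) : False := by
  rw [hz] at h1 h2
  have h3 := (Nat.prime_dvd_prime_iff_eq hr hv).1 (hr.dvd_of_dvd_pow h1)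
  have h4 := (Nat.prime_dvd_prime_iff_eq hs hv).1 (hs.dvd_of_dvd_pow h2)
  exact hrs (h3.trans h4.symm)

/-- `w² = 2 x² + 2 x + 1`, `|x| = p` -/
theorem no_sq {p w : ℕ} {x : ℤ} (hp : p.Prime) (h5 : 5 ≤ p) (hpx : (p : ℤ) = |x|)
    (h : (w : ℤ) ^ 2 = 2 * x ^ 2 + 2 * x + 1) : False := by
  have hx2 : x ^ 2 = (p : ℤ) ^ 2 := by rw [hpx, sq_abs]
  obtain ⟨e, he⟩ : ∃ e : ℕ, e = (x + 1).natAbs := ⟨_, rfl⟩
  have he2 : (e : ℤ) ^ 2 = (x + 1) ^ 2 := by rw [he, Int.natAbs_sq]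
  have hep : e ≤ p + 1 ∧ 1 ≤ e := by
    rcases abs_cases x with ⟨h1, h2⟩ | ⟨h1, h2⟩ <;> omega
  have h1 : (w : ℤ) ^ 2 = (p : ℤ) ^ 2 + (e : ℤ) ^ 2 := by rw [h, he2, ← hx2]; ring
  have h2 : w ^ 2 = p ^ 2 + e ^ 2 := by exact_mod_cast h1
  have hwe : e < w := by
    by_contra hcon
    push Not at hcon
    have h3 : w ^ 2 ≤ e ^ 2 := Nat.pow_le_pow_left hcon 2
    have h4 : 0 < p ^ 2 := by positivity
    omega
  obtain ⟨t, ht⟩ : ∃ t, w = e + t := ⟨w - e, by omega⟩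
  have ht0 : 0 < t := by omega
  have h3 : t * (2 * e + t) = p ^ 2 := by
    rw [ht] at h2
    have : (e + t) ^ 2 = e ^ 2 + t * (2 * e + t) := by ring
    omega
  have h4 : t ∣ p ^ 2 := ⟨_, h3.symm⟩
  obtain ⟨i, hi, hti⟩ := (Nat.dvd_prime_pow hp).1 h4
  have h5' : 5 * p ≤ p * p := Nat.mul_le_mul_right _ h5
  have hi' : i = 0 ∨ i = 1 ∨ i = 2 := by omega
  rcases hi' with rfl | rfl | rfl
  · rw [pow_zero] at hti
    rw [hti, one_mul, sq] at h3
    omega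
  · rw [pow_one] at hti
    rw [hti, sq] at h3
    have := Nat.eq_of_mul_eq_mul_left hp.pos h3
    omega
  · rw [hti] at h3
    have h6 : p ^ 2 * (2 * e + p ^ 2) = p ^ 2 * 1 := by rw [h3, mul_one]
    have := Nat.eq_of_mul_eq_mul_left (by positivity) h6
    omega

namespace Cand

variable {p M : ℕ} {x : ℤ} {S : Type*} [Group S] (h : Cand p x M S)

include h

/-- **the pair lemma** -/
theorem pair {T N : ℕ} (hT : ∃ g : S, orderOf g = T) (hMT : M ∣ T) (hN : ∃ g : S, orderOf g = N)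
    (hN0 : N ≠ 0) (hNM : Nat.Coprime N M) (hK : ((T : ℤ) - N) ^ 2 ≤ 5 * T) : PairOut p x T N := by
  rcases h.x_bd with ⟨k1, k2⟩ | ⟨k1, k2⟩ | ⟨k1, k2⟩
  · exact Or.inl ⟨k2, k1, h.pairI k2 hT hMT hN hN0 hNM hK⟩
  · exact Or.inr ⟨k2, Or.inl k1, h.pairII k2 hT hMT hN hN0 hNM hK⟩
  · exact Or.inr ⟨k2, Or.inr k1, h.pairII k2 hT hMT hN hN0 hNM hK⟩

/-- `v` divides `2 x² + 2 x + 1` -/
theorem five_of_dvd {v : ℕ} (hv : v.Prime) (hvp : v ≠ p) (hv2 : v ≠ 2) (hg : ∃ g : S, orderOf g = v)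
    (hd : (v : ℤ) ∣ 2 * x ^ 2 + 2 * x + 1) : v = 5 := by
  obtain ⟨g, hg⟩ := hg
  have hs := h.spec g
  rw [hg] at hs
  have hpv : Prime (v : ℤ) := Nat.prime_iff_prime_int.1 hv
  have h5 : (v : ℤ) ∣ 5 → v = 5 := fun h1 => by
    have h2 : v ∣ 5 := by exact_mod_cast h1
    exact (Nat.prime_dvd_prime_iff_eq hv (by norm_num)).1 h2
  have hun : ¬ (v : ℤ) ∣ 1 := fun h1 => hpv.not_unit (isUnit_of_dvd_one h1)
  have k1 : (v : ℤ) ∣ x - 1 → v = 5 := fun h1 => h5 (by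
    have h2 := dvd_sub hd (h1.mul_right (2 * (x + 2)))
    have e : 2 * x ^ 2 + 2 * x + 1 - (x - 1) * (2 * (x + 2)) = 5 := by ring
    rwa [e] at h2)
  have k2 : ¬ (v : ℤ) ∣ x + 1 := fun h1 => hun (by
    have h2 := dvd_sub hd (h1.mul_right (2 * x))
    have e : 2 * x ^ 2 + 2 * x + 1 - (x + 1) * (2 * x) = 1 := by ring
    rwa [e] at h2)
  have k3 : (v : ℤ) ∣ x ^ 2 + 1 → v = 5 := fun h1 => h5 (by
    have h2 : (v : ℤ) ∣ 2 * x - 1 := by
      have h3 := dvd_sub hd (h1.mul_left 2)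
      have e : 2 * x ^ 2 + 2 * x + 1 - 2 * (x ^ 2 + 1) = 2 * x - 1 := by ring
      rwa [e] at h3
    have h3 := dvd_sub (h1.mul_left 4) (h2.mul_right (2 * x + 1))
    have e : 4 * (x ^ 2 + 1) - (2 * x - 1) * (2 * x + 1) = 5 := by ring
    rwa [e] at h3)
  have k4 : ¬ (v : ℤ) ∣ x ^ 2 + x + 1 := fun h1 => hun (by
    have h2 := dvd_sub (h1.mul_left 2) hd
    have e : 2 * (x ^ 2 + x + 1) - (2 * x ^ 2 + 2 * x + 1) = 1 := by ring
    rwa [e] at h2)
  have k5 : ¬ (v : ℤ) ∣ p := fun h1 => hvp (by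
    have h2 : v ∣ p := by exact_mod_cast h1
    exact (Nat.prime_dvd_prime_iff_eq hv h.hp).1 h2)
  have k6 : (v : ℤ) ∣ x ^ 2 - 1 → v = 5 := fun h1 => by
    rw [show x ^ 2 - 1 = (x - 1) * (x + 1) by ring] at h1
    rcases hpv.dvd_or_dvd h1 with h2 | h2
    · exact k1 h2
    · exact absurd h2 k2
  rcases hs with k | k | k | k | k
  · have h1 : (v : ℤ) ∣ (x - 1) * (x ^ 2 + x + 1) := by
      rw [show (x - 1) * (x ^ 2 + x + 1) = x ^ 3 - 1 by ring]
      exact (Dvd.intro_left _ rfl).trans k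
    rcases hpv.dvd_or_dvd h1 with h2 | h2
    · exact k1 h2
    · exact absurd h2 k4
  · rcases hpv.dvd_or_dvd ((Dvd.intro_left _ rfl).trans k) with h2 | h2
    · exact k3 h2
    · exact absurd h2 k2
  · exact k6 k
  · rcases hpv.dvd_or_dvd ((Dvd.intro_left _ rfl).trans k) with h2 | h2
    · exact absurd h2 k5
    · exact k6 h2
  · rcases hpv.dvd_or_dvd k with h2 | h2
    · exact absurd h2 k5
    · exact k1 h2

/-- `z = x²` -/
theorem no_sq_x {v m z : ℕ} (hv : v.Prime) (hvp : v ≠ p) (hm : 1 ≤ m) (hz : z = v ^ m) (hx : (z : ℤ) = x ^ 2) : False := by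
  have h1 : (p : ℤ) ∣ z := by rw [hx]; exact dvd_pow h.p_dvd two_ne_zero
  have h2 : p ∣ z := by exact_mod_cast h1
  rw [hz] at h2
  exact hvp ((Nat.prime_dvd_prime_iff_eq h.hp hv).1 (h.hp.dvd_of_dvd_pow h2)).symm

/-- `z = 2 x² + 2 x + 1` -/
theorem no_sq_y [Finite S] {v m z : ℕ} (hv : v.Prime) (hvp : v ≠ p) (hm : 1 ≤ m) (hz : z = v ^ m)
    (hvS : v ∣ Nat.card S) (hpx : (p : ℤ) = |x|) (hx4 : x % 4 = 3) (hx : (z : ℤ) = 2 * x ^ 2 + 2 * x + 1) : False := by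
  haveI : Fact v.Prime := ⟨hv⟩
  obtain ⟨g, hg⟩ := exists_prime_orderOf_dvd_card' v hvS
  have hvz : (v : ℤ) ∣ 2 * x ^ 2 + 2 * x + 1 := by
    rw [← hx, hz]; push_cast; exact dvd_pow_self _ (by omega)
  have hv2 : v ≠ 2 := by
    rintro rfl
    have h1 := Int.emod_emod_of_dvd (2 * x ^ 2 + 2 * x + 1) (dvd_refl (2 : ℤ))
    have h2 : (2 * x ^ 2 + 2 * x + 1) % 2 = 0 := Int.emod_eq_zero_of_dvd hvz
    have h3 : (2 * x ^ 2 + 2 * x + 1) = 2 * (x ^ 2 + x) + 1 := by ring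
    rw [h3] at h2
    clear * - h2
    omega
  have hv5 := h.five_of_dvd hv hvp hv2 ⟨g, hg⟩ hvz
  subst hv5
  have hz8 : (z : ℤ) % 8 = 1 := by
    obtain ⟨t, rfl⟩ : ∃ t, x = 4 * t + 3 := ⟨x / 4, by omega⟩
    rw [hx, show 2 * (4 * t + 3) ^ 2 + 2 * (4 * t + 3) + 1 = 8 * (4 * t ^ 2 + 7 * t + 3) + 1 by ring]
    clear * -
    omega
  have hme : Even m := by
    by_contra hodd
    rw [Nat.not_even_iff_odd] at hodd
    obtain ⟨r, rfl⟩ := hodd
    have h1 : 5 ^ (2 * r + 1) % 8 = 5 := by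
      rw [pow_succ, pow_mul, Nat.mul_mod, Nat.pow_mod]
      norm_num
    rw [← hz] at h1
    clear * - h1 hz8
    omega
  obtain ⟨r, rfl⟩ := hme
  refine no_sq (w := 5 ^ r) h.hp h.h5 hpx ?_
  rw [← hx, hz]
  push_cast
  ring

/-- **twins**: `(z - 1) / c`, `(z + 1) / c`, `c = (2, z - 1)`, `z` a power of `v ≠ p` -/
theorem no_twin [Finite S] {v m z A B c : ℕ} (hv : v.Prime) (hvp : v ≠ p) (hm : 1 ≤ m) (hz : z = v ^ m)
    (hvS : v ∣ Nat.card S) (hc : (c = 1 ∧ Even z) ∨ (c = 2 ∧ Odd z)) (hA : c * A = z - 1) (hB : c * B = z + 1)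
    (eA : ∃ g : S, orderOf g = A) (eB : ∃ g : S, orderOf g = B)
    (hM : (M ∣ A ∧ Nat.Coprime B M) ∨ (M ∣ B ∧ Nat.Coprime A M)) : False := by
  have hM13 := h.M_ge
  have hz1 : 1 ≤ z := by rw [hz]; exact Nat.one_le_pow _ _ hv.pos
  have hAB : B = A + 2 ∧ c = 1 ∨ B = A + 1 ∧ c = 2 := by
    rcases hc with ⟨rfl, -⟩ | ⟨rfl, -⟩
    · left; omega
    · right; omega
  have hpos : 0 < A ∧ 0 < B := by
    have hB0 : 0 < B := by
      rcases Nat.eq_zero_or_pos B with h0 | h0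
      · rw [h0] at hB; omega
      · exact h0
    refine ⟨?_, hB0⟩
    rcases Nat.eq_zero_or_pos A with h0 | h0
    · exfalso
      rcases hM with ⟨-, h2⟩ | ⟨h2, h3⟩
      · have h4 : B ≤ 2 := by omega
        have := h.exists_E
        rw [h0] at hA
        have hzz : z = 1 := by omega
        rw [hz] at hzz
        have : v = 1 := by
          rcases Nat.pow_eq_one.1 hzz with h5 | h5
          · exact h5
          · omega
        exact hv.one_lt.ne' this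
      · rw [h0] at h3
        rw [Nat.coprime_zero_left] at h3
        omega
    · exact h0
  have hA13 : 11 ≤ A ∧ 11 ≤ B := by
    rcases hM with ⟨h2, -⟩ | ⟨h2, -⟩
    · have := Nat.le_of_dvd hpos.1 h2; omega
    · have := Nat.le_of_dvd hpos.2 h2; omega
  -- the pair
  obtain ⟨T, N, hTN, hout⟩ : ∃ T N : ℕ, ((T = A ∧ N = B) ∨ (T = B ∧ N = A)) ∧ PairOut p x T N := by
    rcases hM with ⟨h2, h3⟩ | ⟨h2, h3⟩
    · refine ⟨A, B, Or.inl ⟨rfl, rfl⟩, h.pair eA h2 eB (by omega) h3 ?_⟩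
      rcases hAB with ⟨h4, -⟩ | ⟨h4, -⟩
      · have : ((A : ℤ) - B) = -2 := by omega
        rw [this]; norm_num; omega
      · have : ((A : ℤ) - B) = -1 := by omega
        rw [this]; norm_num; omega
    · refine ⟨B, A, Or.inr ⟨rfl, rfl⟩, h.pair eB h2 eA (by omega) h3 ?_⟩
      rcases hAB with ⟨h4, -⟩ | ⟨h4, -⟩
      · have : ((B : ℤ) - A) = 2 := by omega
        rw [this]; norm_num; omega
      · have : ((B : ℤ) - A) = 1 := by omega
        rw [this]; norm_num; omega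
  have hd2 : |(T : ℤ) - N| ≤ 2 := by
    rw [abs_le]
    clear * - hTN hAB
    rcases hTN with ⟨rfl, rfl⟩ | ⟨rfl, rfl⟩ <;> rcases hAB with ⟨h4, -⟩ | ⟨h4, -⟩ <;> constructor <;> omega
  -- `T - N = 1` : `z = 2 N + 1`
  have hz1 : (T : ℤ) - N = 1 → (z : ℤ) = 2 * N + 1 := fun h1 => by
    clear * - hTN hAB h1 hA hB hz1
    rcases hTN with ⟨rfl, rfl⟩ | ⟨rfl, rfl⟩ <;> rcases hAB with ⟨h4, rfl⟩ | ⟨h4, rfl⟩ <;> omega
  have hz2 : (T : ℤ) - N = -2 → (z : ℤ) = T + 1 := fun h1 => by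
    clear * - hTN hAB h1 hA hB hz1
    rcases hTN with ⟨rfl, rfl⟩ | ⟨rfl, rfl⟩ <;> rcases hAB with ⟨h4, rfl⟩ | ⟨h4, rfl⟩ <;> omega
  have hz3 : (T : ℤ) - N = -1 → (z : ℤ) = 2 * T + 1 := fun h1 => by
    clear * - hTN hAB h1 hA hB hz1
    rcases hTN with ⟨rfl, rfl⟩ | ⟨rfl, rfl⟩ <;> rcases hAB with ⟨h4, rfl⟩ | ⟨h4, rfl⟩ <;> omega
  clear hTN hAB hA hB eA eB hM hpos hA13 hM13
  rw [abs_le] at hd2
  rcases hout with ⟨hx4, hx5, hout⟩ | ⟨hx4, hx5, hout⟩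
  · rcases hout with ⟨h1, h2⟩ | ⟨h0, h1, h2⟩ | ⟨h0, a, ha, -, h1, h2⟩ | hexc
    · have h3 : (T : ℤ) - N = 1 := by linarith
      have h4 := hz1 h3
      exact h.no_sq_x hv hvp hm hz (by linarith)
    · have h3 : x ≤ 5 := by linarith [hd2.1]
      have h4 : x = 5 := le_antisymm h3 hx5
      rw [h4] at h1 h2
      have h5 : (T : ℤ) = 13 := by linarith
      have h6 : (N : ℤ) = 15 := by linarith
      have h7 := hz2 (by rw [h5, h6]; norm_num)
      rw [h5] at h7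
      have h8 : z = 14 := by exact_mod_cast h7
      exact not_pp hv hz (by norm_num : Nat.Prime 2) (by norm_num : Nat.Prime 7) (by norm_num) (by rw [h8]; norm_num)
        (by rw [h8]; norm_num)
    · have h3 : 2 * ((T : ℤ) - N) = a * (x + 1) := by linarith
      have h4 : 1 * (x + 1) ≤ a * (x + 1) := mul_le_mul_of_nonneg_right ha (by linarith)
      linarith [hd2.2]
    · simp only [excI, List.mem_cons, Prod.mk.injEq, List.not_mem_nil, or_false] at hexc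
      clear * - hexc hd2
      omega
  · rcases hout with ⟨δ, hδ, hout⟩ | ⟨h1, h2⟩ | hexc
    · have hδ2 : |δ * ((T : ℤ) - N)| ≤ 6 := by
        rw [abs_le]
        rcases hδ with rfl | rfl <;> constructor <;> linarith [hd2.1, hd2.2]
      rw [abs_le] at hδ2
      rcases hout with ⟨h1, h2⟩ | ⟨h0, h1, h2⟩ | ⟨h0, a, ha, hao, h1, h2⟩
      · have h3 : δ * ((T : ℤ) - N) = x + 2 := by linarith
        rw [h3] at hδ2
        rcases hx5 with h4 | h4 <;> linarith [hδ2.1, hδ2.2]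
      · have h3 : δ * ((T : ℤ) - N) = 2 * x + 1 := by linarith
        rw [h3] at hδ2
        rcases hx5 with h4 | h4 <;> linarith [hδ2.1, hδ2.2]
      · have h3 : δ * ((T : ℤ) - N) = a := by linarith
        have h4 : (T : ℤ) - N = 1 := by
          rcases hδ with rfl | rfl <;> clear * - h3 hd2 ha hao <;> omega
        have h5 := hz1 h4
        have h6 : a = δ := by rw [← h3, h4, mul_one]
        have hδ0 : δ ≠ 0 := by rcases hδ with rfl | rfl <;> norm_num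
        rw [h6] at h2
        have h7 : (N : ℤ) = x ^ 2 + x := mul_left_cancel₀ hδ0 h2
        exact h.no_sq_y hv hvp hm hz hvS h0 hx4 (by rw [h5, h7]; ring)
    · have h3 : (T : ℤ) - N = x := by linarith
      rw [h3] at hd2
      rcases hx5 with h4 | h4 <;> linarith [hd2.1, hd2.2]
    · have h9 : ((T : ℤ) = 19 ∧ (N : ℤ) = 20) ∨ ((T : ℤ) = 19 ∧ (N : ℤ) = 21) := by
        simp only [excII, List.mem_cons, Prod.mk.injEq, List.not_mem_nil, or_false] at hexc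
        clear * - hexc hd2
        omega
      rcases h9 with ⟨h1, h2⟩ | ⟨h1, h2⟩
      · have h7 := hz3 (by rw [h1, h2]; norm_num)
        rw [h1] at h7
        have h8 : z = 39 := by exact_mod_cast h7
        exact not_pp hv hz (by norm_num : Nat.Prime 3) (by norm_num : Nat.Prime 13) (by norm_num) (by rw [h8]; norm_num)
          (by rw [h8]; norm_num)
      · have h7 := hz2 (by rw [h1, h2]; norm_num)
        rw [h1] at h7
        have h8 : z = 20 := by exact_mod_cast h7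
        exact not_pp hv hz (by norm_num : Nat.Prime 2) (by norm_num : Nat.Prime 5) (by norm_num) (by rw [h8]; norm_num)
          (by rw [h8]; norm_num)

end Cand

end Cfsg.Agent.R2.Spec.X3
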