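import Mathlib

/-!
# The pair lemma, type II: finite checks (helper16, S3435, box X3)
-/

set_option autoImplicit false

namespace Cfsg.Agent.R2.Spec.X3.PairII

/-- the check for `N (3 y + z) = (y² + 1) (y + s)` -/
def InB (s y z : ℤ) : Prop := ((y ^ 2 + 1) * (y + s)) % (3 * y + z) = 0 →
  ((y ^ 2 + s * y + 1) - 3 * (((y ^ 2 + 1) * (y + s)) / (3 * y + z))) ^ 2 ≤ 15 * (y ^ 2 + s * y + 1) →
  (s * y, y ^ 2 + s * y + 1, ((y ^ 2 + 1) * (y + s)) / (3 * y + z)) ∈
    ([(31, 993, 296), (307, 94557, 31900), (343, 117993, 38915), (-41, 1641, 580), (-89, 7833, 2563)] : List (ℤ × ℤ × ℤ))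

instance (s y z : ℤ) : Decidable (InB s y z) := by unfold InB; infer_instance

/-- the finite check, `a = 1`, `d = 3` -/
def ChkB (s : ℤ) : Prop := ∀ y < 960, 29 ≤ y → (s * (y : ℕ)) % 12 = 7 → ∀ z < 14, InB s y (2 * (z : ℕ) - 13)

instance (s : ℤ) : Decidable (ChkB s) := by unfold ChkB; infer_instance

theorem chkB1 : ChkB 1 := by decide +kernel
theorem chkB2 : ChkB (-1) := by decide +kernel

/-- the check for `N (3 (y - s) + z) = y (y² - 1)` -/
def InD (s y z : ℤ) : Prop := (y * (y ^ 2 - 1)) % (3 * (y - s) + z) = 0 →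
  ((y ^ 2 + s * y + 1) - 3 * ((y * (y ^ 2 - 1)) / (3 * (y - s) + z))) ^ 2 ≤ 15 * (y ^ 2 + s * y + 1) →
  z = 0 ∨ z = 6 * s ∨ y ∈ ([55, 91, 65, 689] : List ℤ)

instance (s y z : ℤ) : Decidable (InD s y z) := by unfold InD; infer_instance

/-- the finite check, `a = 1`, `d = 3` -/
def ChkD (s : ℤ) : Prop := ∀ y < 1600, 29 ≤ y → (s * (y : ℕ)) % 12 = 7 → ∀ z < 15, InD s y (2 * (z : ℕ) - 14)

instance (s : ℤ) : Decidable (ChkD s) := by unfold ChkD; infer_instance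

theorem chkD1 : ChkD 1 := by decide +kernel
theorem chkD2 : ChkD (-1) := by decide +kernel

end Cfsg.Agent.R2.Spec.X3.PairII
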