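import Cfsg.Agent.R2.Spec.X3.PairII
import Cfsg.Agent.R2.Spec.X3.PairChk

/-!
# The pair lemma, type II: `2 N ∣ p (x² - 1)`, `p = |x|` (helper16, S3435, box X3)
-/

set_option autoImplicit false

namespace Cfsg.Agent.R2.Spec.X3.PairII

section

variable {y s P d a : ℤ} (hy : 29 ≤ y) (hs : s = 1 ∨ s = -1) (hP : P = y ^ 2 + s * y + 1)
  (h4 : (s * y) % 4 = 3) (ha : 1 ≤ a) (hao : a % 2 = 1)

include hy hs in
/-- `2 j = y - 3 s` -/
theorem no_j {j N : ℤ} (hj : 2 * j = y - 3 * s) (h : N * (2 * j) = y * (y ^ 2 - 1)) : False := by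
  rw [hj] at h
  have h1 : (y - 3 * s) ∣ 24 := by
    rcases hs with rfl | rfl
    · have h2 : (y - 3 * 1) * N = (y - 3 * 1) * (y ^ 2 + 3 * y + 8) + 24 := by linarith
      exact ⟨N - (y ^ 2 + 3 * y + 8), by linarith⟩
    · have h2 : (y - 3 * -1) * N = (y - 3 * -1) * (y ^ 2 - 3 * y + 8) - 24 := by linarith
      exact ⟨-(N - (y ^ 2 - 3 * y + 8)), by linarith⟩
  have h2 := Int.le_of_dvd (by norm_num) h1
  rcases hs with rfl | rfl <;> omega

include hy hs hP h4 ha hao in
/-- **`2 N ∣ p (x² - 1)`, `p = |x|`** -/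
theorem pD {i j N : ℤ} (hd : d = 1 ∨ (d = 3 ∧ (s * y) % 12 = 7)) (hlist : y ∉ ([55, 91, 65, 689] : List ℤ))
    (hai : 2 * (a * i) = d * (y - s)) (hj : 1 ≤ j)
    (h : N * (2 * j) = y * (y ^ 2 - 1))
    (hK : (a * P - d * N) ^ 2 ≤ 5 * d * (a * P)) :
    (d * N = a * (y ^ 2 + s * y)) ∨ (a = 1 ∧ d * N = y ^ 2 - s * y) ∨ (a = d ∧ N = y ^ 2 - s * y) := by
  obtain ⟨hP1, hP2, hP3⟩ := P_ge hy hs hP
  have hyo : y % 2 = 1 := by rcases hs with rfl | rfl <;> omega
  have hs2 : s ^ 2 = 1 := by rcases hs with rfl | rfl <;> norm_num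
  have hd0 : 0 < d := by rcases hd with rfl | ⟨rfl, -⟩ <;> norm_num
  have hys : 28 ≤ y - s := by rcases hs with rfl | rfl <;> omega
  have hys' : y - s ≤ y + 1 := by rcases hs with rfl | rfl <;> omega
  obtain ⟨z, hz⟩ : ∃ z, z = 2 * (a * j) - d * (y - s) := ⟨_, rfl⟩
  have hzj : 2 * (a * j) = d * (y - s) + z := by rw [hz]; ring
  have e : y * (y ^ 2 - 1) = (y - s) * P + s - y := by rw [hP]; rcases hs with rfl | rfl <;> ring
  have e' : y * (y ^ 2 - 1) = y * ((y - s) * (y + s)) := by rcases hs with rfl | rfl <;> ring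
  have h1 : 2 * j * (a * P - d * N) = z * P + d * (y - s) := by
    have h' := h
    rw [e] at h'
    linear_combination P * hzj - d * h'
  have hpos : 0 < d * (y - s) + z := by rw [← hzj]; positivity
  have h2 : a * (z * P + d * (y - s)) ^ 2 ≤ 5 * d * ((d * (y - s) + z) ^ 2 * P) := by
    have h3 := mul_le_mul_of_nonneg_left hK (by positivity : 0 ≤ a * (4 * j ^ 2))
    have e1 : a * (4 * j ^ 2) * (a * P - d * N) ^ 2 = a * (2 * j * (a * P - d * N)) ^ 2 := by ring
    have e2 : a * (4 * j ^ 2) * (5 * d * (a * P)) = 5 * d * ((2 * (a * j)) ^ 2 * P) := by ring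
    rwa [e1, e2, h1, hzj] at h3
  have hak : 2 * (a * (j - i)) = z := by linarith [mul_sub a j i]
  obtain ⟨Y, hY0, hPY, hY⟩ := facts hy hs hP
  have hsq : 0 ≤ (z * P + d * (y - s)) ^ 2 := sq_nonneg _
  by_cases hz0 : z = 0
  · left
    rw [hz0, add_zero] at hzj
    have h3 : (y - s) * (d * N) = (y - s) * (a * (y ^ 2 + s * y)) := by
      have h5 : d * (y - s) * N = a * (y * ((y - s) * (y + s))) := by
        rw [← hzj, ← e']; linear_combination a * h
      linarith
    exact mul_left_cancel₀ (by omega) h3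
  right
  have hz1 : 1 ≤ |z| := Int.one_le_abs hz0
  have hr : |d * (y - s)| ≤ 3 * (y + 1) := by
    rw [abs_mul, abs_of_pos hd0, abs_of_pos (by omega : 0 < y - s)]
    rcases hd with rfl | ⟨rfl, -⟩ <;> omega
  have hrz : 3 * (y + 1) ≤ |z| * P := by
    have : P ≤ |z| * P := le_mul_of_one_le_left (by omega) hz1
    linarith
  have hYy : 0 ≤ Y * y := mul_nonneg hY0 (by omega)
  rcases hd with rfl | ⟨rfl, h12⟩
  · -- `d = 1`
    have h3 : (z * P + 1 * (y - s)) ^ 2 ≤ 5 * ((1 * (y - s) + z) ^ 2 * P) :=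
      (le_mul_of_one_le_left hsq ha).trans (h2.trans (le_of_eq (by ring)))
    have h5 := abs_form hr (by omega : 0 ≤ P) (by omega : 0 ≤ 1 * (y - s)) hpos.le h3 (by norm_num) hrz
    have h6 := sqrt5 (by omega) hY0 hPY h5
    have hz4 : |z| < 4 := by
      by_contra hcon
      push Not at hcon
      have hYs : Y * (y - s) ≤ Y * (y + 1) := mul_le_mul_of_nonneg_left hys' hY0
      have h7 : |z| * (1000 * P - 2237 * Y) ≤ 3000 * (y + 1) + 2237 * (Y * (y + 1)) := by linarith
      have h8 : 3000 * (y + 1) + 2237 * (Y * (y + 1)) < 4 * (1000 * P - 2237 * Y) := by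
        rcases hY with ⟨rfl, rfl⟩ | ⟨rfl, rfl⟩ <;> rw [hP] <;>
          nlinarith only [hy, mul_nonneg (sub_nonneg.2 hy) (sub_nonneg.2 hy)]
      have h9 : 0 ≤ Y * (y + 1) := mul_nonneg hY0 (by omega)
      have h10 : 4 * (1000 * P - 2237 * Y) ≤ |z| * (1000 * P - 2237 * Y) :=
        mul_le_mul_of_nonneg_right hcon (by linarith)
      linarith
    have hzl := abs_lt.1 hz4
    have hz2 : z = 2 * s ∨ z = -2 * s := by rcases hs with rfl | rfl <;> omega
    have ha1 : a = 1 := by
      have h7 : a ∣ 1 := by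
        rcases hz2 with h8 | h8
        · have h9 : a * (j - i) = s := by linarith
          exact ⟨(j - i) * s, by rw [← mul_assoc, h9, ← sq, hs2]⟩
        · have h9 : a * (j - i) = -s := by linarith
          exact ⟨-((j - i) * s), by
            have : a * -((j - i) * s) = -((a * (j - i)) * s) := by ring
            rw [this, h9]; linarith⟩
      exact Int.eq_one_of_dvd_one (by omega) h7
    subst ha1
    rw [one_mul, one_mul] at hzj
    rcases hz2 with h8 | h8
    · left
      refine ⟨rfl, ?_⟩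
      have h9 : 2 * j = y + s := by rw [hzj, h8]; ring
      have h10 : (y + s) * (1 * N) = (y + s) * (y ^ 2 - s * y) := by
        have : (y + s) * (1 * N) = N * (2 * j) := by rw [h9]; ring
        rw [this, h, e']; ring
      exact mul_left_cancel₀ (by rcases hs with rfl | rfl <;> omega) h10
    · exfalso
      exact no_j hy hs (by rw [hzj, h8]; ring) h
  · -- `d = 3`
    have h3 : (z * P + 3 * (y - s)) ^ 2 ≤ 15 * ((3 * (y - s) + z) ^ 2 * P) :=
      (le_mul_of_one_le_left hsq ha).trans (h2.trans (le_of_eq (by ring)))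
    have h5 := abs_form hr (by omega : 0 ≤ P) (by omega : 0 ≤ 3 * (y - s)) hpos.le h3 (by norm_num) hrz
    have h6 := sqrt15 (by omega) hY0 hPY h5
    have hYs : Y * (y - s) ≤ Y * (y + 1) := mul_le_mul_of_nonneg_left hys' hY0
    have h9 : 0 ≤ Y * (y + 1) := mul_nonneg hY0 (by omega)
    have hz16 : |z| < 16 := by
      by_contra hcon
      push Not at hcon
      rcases hY with ⟨rfl, rfl⟩ | ⟨rfl, rfl⟩
      · have h7 : |z| * (1000 * P - 3873 * (y + 1)) ≤ 3000 * (y + 1) + 11619 * ((y + 1) * (y - 1)) := by linarith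
        have h8 : 3000 * (y + 1) + 11619 * ((y + 1) * (y - 1)) < 16 * (1000 * P - 3873 * (y + 1)) := by
          rw [hP]
          nlinarith only [hy, mul_nonneg (sub_nonneg.2 hy) (sub_nonneg.2 hy)]
        have h10 : 16 * (1000 * P - 3873 * (y + 1)) ≤ |z| * (1000 * P - 3873 * (y + 1)) :=
          mul_le_mul_of_nonneg_right hcon (by nlinarith only [h8, hy])
        linarith
      · have h7 : |z| * (1000 * P - 3873 * Y) ≤ 3000 * (Y + 1) + 11619 * (Y * (Y + 1)) := by linarith
        have h8 : 3000 * (Y + 1) + 11619 * (Y * (Y + 1)) < 16 * (1000 * P - 3873 * Y) := by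
          rw [hP]
          nlinarith only [hy, mul_nonneg (sub_nonneg.2 hy) (sub_nonneg.2 hy)]
        have h10 : 16 * (1000 * P - 3873 * Y) ≤ |z| * (1000 * P - 3873 * Y) :=
          mul_le_mul_of_nonneg_right hcon (by nlinarith only [h8, hy])
        linarith
    have hzl := abs_lt.1 hz16
    rcases (by omega : a = 1 ∨ 3 ≤ a) with ha1 | ha3
    · subst ha1
      rw [one_mul] at hzj hak
      have h7 : (3 * (y - s) + z) ∣ (3 * s - z) * (z * (6 * s - z)) := by
        have h8 : (3 * (y - s) + z) * (27 * N) = 27 * (y * (y ^ 2 - 1)) := by rw [← h, ← hzj]; ring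
        have h10 : 27 * (y * (y ^ 2 - 1)) = (3 * (y - s) + z) * (9 * y ^ 2 + 3 * y * (3 * s - z) + (3 * s - z) ^ 2 - 9) -
            (3 * s - z) * (z * (6 * s - z)) := by
          have h11 : (3 * s - z) ^ 2 - 9 = -(z * (6 * s - z)) := by linear_combination 9 * hs2
          linear_combination (3 * s - z) * h11
        exact ⟨9 * y ^ 2 + 3 * y * (3 * s - z) + (3 * s - z) ^ 2 - 9 - 27 * N, by linarith⟩
      by_cases hz6 : z = 6 * s
      · left
        refine ⟨rfl, ?_⟩
        have h9 : 2 * j = 3 * (y + s) := by rw [hzj, hz6]; ring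
        have h10 : (y + s) * (3 * N) = (y + s) * (y ^ 2 - s * y) := by
          have : (y + s) * (3 * N) = N * (2 * j) := by rw [h9]; ring
          rw [this, h, e']; ring
        exact mul_left_cancel₀ (by rcases hs with rfl | rfl <;> omega) h10
      · exfalso
        have hz14 : -14 ≤ z ∧ z ≤ 14 := by omega
        have hne : (3 * s - z) * (z * (6 * s - z)) ≠ 0 := by
          refine mul_ne_zero ?_ (mul_ne_zero hz0 (by omega))
          rcases hs with rfl | rfl <;> omega
        have h8 := Int.le_of_dvd (abs_pos.2 hne) ((dvd_abs _ _).2 h7)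
        have h10 : |(3 * s - z) * (z * (6 * s - z))| ≤ 17 * (14 * 20) := by
          rw [abs_mul, abs_mul]
          refine mul_le_mul ?_ (mul_le_mul ?_ ?_ (abs_nonneg _) (by norm_num)) (by positivity) (by norm_num)
          · rw [abs_le]; rcases hs with rfl | rfl <;> constructor <;> omega
          · rw [abs_le]; constructor <;> omega
          · rw [abs_le]; rcases hs with rfl | rfl <;> constructor <;> omega
        have hy1600 : y < 1600 := by rcases hs with rfl | rfl <;> omega
        obtain ⟨Z, hZ⟩ : ∃ Z : ℕ, z = 2 * (Z : ℤ) - 14 := ⟨((z + 14) / 2).toNat, by omega⟩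
        obtain ⟨U, rfl⟩ : ∃ U : ℕ, y = U := ⟨y.toNat, by omega⟩
        have hchk : ChkD s := by
          rcases hs with rfl | rfl
          · exact chkD1
          · exact chkD2
        have h11 := hchk U (by omega) (by omega) h12 Z (by omega)
        rw [← hZ] at h11
        have hW : ((U : ℤ) * ((U : ℤ) ^ 2 - 1)) = (3 * (U - s) + z) * N := by rw [← h, ← hzj]; ring
        unfold InD at h11
        rw [hW, Int.mul_emod_right, Int.mul_ediv_cancel_left _ hpos.ne', ← hP] at h11
        have hK' : (P - 3 * N) ^ 2 ≤ 15 * P := by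
          have := hK
          rw [one_mul] at this
          linarith
        rcases h11 rfl hK' with h13 | h13 | h13
        · exact hz0 h13
        · exact hz6 h13
        · exact hlist h13
    · -- `a ≥ 3`
      have h3' : (z * P + 3 * (y - s)) ^ 2 ≤ 5 * ((3 * (y - s) + z) ^ 2 * P) := by
        have := mul_le_mul_of_nonneg_right ha3 hsq
        linarith
      have h5' := abs_form hr (by omega : 0 ≤ P) (by omega : 0 ≤ 3 * (y - s)) hpos.le h3' (by norm_num) hrz
      have h6' := sqrt5 (by omega) hY0 hPY h5'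
      have hz10 : |z| < 10 := by
        by_contra hcon
        push Not at hcon
        have h7 : |z| * (1000 * P - 2237 * Y) ≤ 3000 * (y + 1) + 6711 * (Y * (y + 1)) := by linarith
        have h8 : 3000 * (y + 1) + 6711 * (Y * (y + 1)) < 10 * (1000 * P - 2237 * Y) := by
          rcases hY with ⟨rfl, rfl⟩ | ⟨rfl, rfl⟩ <;> rw [hP] <;>
            nlinarith only [hy, mul_nonneg (sub_nonneg.2 hy) (sub_nonneg.2 hy)]
        have h10 : 10 * (1000 * P - 2237 * Y) ≤ |z| * (1000 * P - 2237 * Y) :=
          mul_le_mul_of_nonneg_right hcon (by linarith)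
        linarith
      have hk0 : j - i ≠ 0 := by
        intro h0
        rw [h0, mul_zero, mul_zero] at hak
        exact hz0 hak.symm
      have hk1 : 1 ≤ |j - i| := Int.one_le_abs hk0
      have hak2 : a * |j - i| ≤ 4 := by
        have h7 : |2 * (a * (j - i))| = 2 * (a * |j - i|) := by
          rw [abs_mul, abs_mul, abs_of_pos (by omega : 0 < a)]; norm_num
        rw [hak] at h7
        omega
      have ha5 : a ≤ 4 := by nlinarith
      have ha3' : a = 3 := by omega
      subst ha3'
      have hk2 : j - i = 1 ∨ j - i = -1 := by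
        have h7 : |j - i| ≤ 1 := by omega
        have := abs_le.1 h7
        omega
      have hz6 : z = 6 * s ∨ z = -6 * s := by
        rcases hs with rfl | rfl <;> rcases hk2 with h7 | h7 <;> rw [h7] at hak <;> omega
      rcases hz6 with h7 | h7
      · right
        refine ⟨rfl, ?_⟩
        have h9 : 2 * j = y + s := by omega
        have h10 : (y + s) * N = (y + s) * (y ^ 2 - s * y) := by
          have : (y + s) * N = N * (2 * j) := by rw [h9]; ring
          rw [this, h, e']; ring
        exact mul_left_cancel₀ (by rcases hs with rfl | rfl <;> omega) h10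
      · exfalso
        exact no_j hy hs (by omega) h

end

end Cfsg.Agent.R2.Spec.X3.PairII
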