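import Cfsg.Agent.R2.Spec.X3.PairZ
import Cfsg.Agent.R2.Spec.X3.PairIIb
import Cfsg.Agent.R2.Spec.X3.PairIIc

/-!
# The pair lemma, type II, `|x| ≥ 29` (helper16, S3435, box X3)
-/

set_option autoImplicit false

namespace Cfsg.Agent.R2.Spec.X3.PairII

section

variable {s y d i : ℤ} {p a T N : ℕ} (hbig : 29 ≤ y) (hs : s = 1 ∨ s = -1)
  (hd : d = 1 ∨ (d = 3 ∧ (s * y) % 12 = 7)) (h4 : (s * y) % 4 = 3) (haZ : (1 : ℤ) ≤ a) (hao : (a : ℤ) % 2 = 1)
  (hai : 2 * ((a : ℤ) * i) = d * (y - s)) (hNZ : (0 : ℤ) < N) (hdT : d * (T : ℤ) = a * (y ^ 2 + s * y + 1))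
  (hK : ((a : ℤ) * (y ^ 2 + s * y + 1) - d * N) ^ 2 ≤ 5 * d * (a * (y ^ 2 + s * y + 1)))

include hNZ in
theorem jpos {j c : ℤ} (hc : 0 < c) (hj : (N : ℤ) * j = c) : 1 ≤ j := by
  rw [← hj] at hc
  exact Int.add_one_le_iff.2 ((mul_pos_iff_of_pos_left hNZ).1 hc)

theorem exc_of {t n : ℤ} {t' n' : ℕ} (h : (s * y, (t' : ℤ), (n' : ℤ)) ∈ excII) (h1 : (t' : ℤ) = t) (h2 : (n' : ℤ) = n) :
    (s * y, t, n) ∈ excII := by rw [← h1, ← h2]; exact h

include hbig hs hd h4 haZ hao hai hNZ hdT hK in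
theorem caseB (k : 2 * (N : ℤ) ∣ (y ^ 2 + 1) * (y + s)) : OutS s y p d a T N := by
  obtain ⟨j, hj⟩ := k
  have e : (N : ℤ) * (2 * j) = (y ^ 2 + 1) * (y + s) := by rw [hj]; ring
  have hys1 : 0 < y + s := by rcases hs with rfl | rfl <;> linarith
  have hj2 : 1 ≤ 2 * j := jpos hNZ (mul_pos (by positivity) hys1) e
  have hj1 : 1 ≤ j := by clear * - hj2; omega
  have h5 := pB hbig hs rfl h4 haZ hao hd hai hj1 e hK
  clear hK e hj hj1 hj2 hai
  rcases h5 with g | ⟨g1, g2, g3⟩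
  · exact Or.inr (Or.inr (Or.inl g))
  · right; right; right; right; right; right
    rw [g1, g2, one_mul] at hdT
    rw [← hdT] at g3
    clear hdT hd h4 haZ hao hNZ hbig hs
    simp only [List.mem_cons, Prod.mk.injEq, List.not_mem_nil, or_false] at g3
    rcases g3 with ⟨g4, g5, g6⟩ | ⟨g4, g5, g6⟩ | ⟨g4, g5, g6⟩ | ⟨g4, g5, g6⟩ | ⟨g4, g5, g6⟩
    · have g7 : (T : ℤ) = 331 := by clear * - g5; omega
      rw [g4, g7, g6]; decide
    · have g7 : (T : ℤ) = 31519 := by clear * - g5; omega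
      rw [g4, g7, g6]; decide
    · have g7 : (T : ℤ) = 39331 := by clear * - g5; omega
      rw [g4, g7, g6]; decide
    · have g7 : (T : ℤ) = 547 := by clear * - g5; omega
      rw [g4, g7, g6]; decide
    · have g7 : (T : ℤ) = 2611 := by clear * - g5; omega
      rw [g4, g7, g6]; decide

include hbig hs hd haZ hao hNZ hK in
theorem caseC (k : (N : ℤ) ∣ y ^ 2 - 1) : OutS s y p d a T N := by
  obtain ⟨j, hj⟩ := k
  have hyy : 29 * y ≤ y ^ 2 := by rw [sq]; exact mul_le_mul_of_nonneg_right hbig (by linarith)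
  have hj1 := jpos hNZ (by linarith) hj.symm
  rcases pC hbig hs rfl (hd.imp id And.left) haZ hao hj1 hj.symm hK with g | g
  · exact Or.inl g
  · exact Or.inr (Or.inl g)

include hbig hs hd h4 haZ hao hai hNZ hK in
theorem caseD (hp : p.Prime) (hpy : (p : ℤ) = y) (k : 2 * (N : ℤ) ∣ p * (y ^ 2 - 1)) : OutS s y p d a T N := by
  obtain ⟨j, hj⟩ := k
  have e : (N : ℤ) * (2 * j) = p * (y ^ 2 - 1) := by rw [hj]; ring
  have hyy : 29 * y ≤ y ^ 2 := by rw [sq]; exact mul_le_mul_of_nonneg_right hbig (by linarith)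
  have hj2 : 1 ≤ 2 * j := jpos hNZ (mul_pos (by exact_mod_cast hp.pos) (by linarith)) e
  have hj1 : 1 ≤ j := by clear * - hj2; omega
  rw [hpy] at e
  have hlist : y ∉ ([55, 91, 65, 689] : List ℤ) := by
    intro hm
    simp only [List.mem_cons, List.not_mem_nil, or_false] at hm
    rw [← hpy] at hm
    rcases hm with hm | hm | hm | hm
    · have : p = 55 := by exact_mod_cast hm
      rw [this] at hp; norm_num at hp
    · have : p = 91 := by exact_mod_cast hm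
      rw [this] at hp; norm_num at hp
    · have : p = 65 := by exact_mod_cast hm
      rw [this] at hp; norm_num at hp
    · have : p = 689 := by exact_mod_cast hm
      rw [this] at hp; norm_num at hp
  rcases pD hbig hs rfl h4 haZ hao hd hlist hai hj1 e hK with g | ⟨g1, g2⟩ | ⟨g1, g2⟩
  · exact Or.inr (Or.inr (Or.inr (Or.inr (Or.inr (Or.inl ⟨hpy, g⟩)))))
  · exact Or.inr (Or.inr (Or.inr (Or.inl ⟨hpy, g1, g2⟩)))
  · exact Or.inr (Or.inr (Or.inr (Or.inr (Or.inl ⟨hpy, g1, g2⟩))))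

include hbig hs hd haZ hNZ hK in
theorem caseD' (hp5 : (5 : ℤ) ≤ p) (hpo : (p : ℤ) % 2 = 1) (hpy : 5 * (p : ℤ) ≤ y)
    (hp25 : (s * y) % 12 = 7 → 25 * (p : ℤ) ≤ y) (k : 2 * (N : ℤ) ∣ p * (y ^ 2 - 1)) : False := by
  obtain ⟨j, hj⟩ := k
  have e : (N : ℤ) * (2 * j) = p * (y ^ 2 - 1) := by rw [hj]; ring
  have hyy : 29 * y ≤ y ^ 2 := by rw [sq]; exact mul_le_mul_of_nonneg_right hbig (by linarith)
  have hj2 : 1 ≤ 2 * j := jpos hNZ (mul_pos (by linarith) (by linarith)) e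
  have hj1 : 1 ≤ j := by clear * - hj2; omega
  rcases hd with rfl | ⟨rfl, h12⟩
  · exact pD1 hbig hs rfl haZ hp5 hpo hpy hj1 e hK
  · exact pD3 hbig hs rfl haZ hp5 hpo (hp25 h12) hj1 e hK

include hbig hs hd haZ hao hNZ hK in
theorem caseE (hpy : (p : ℤ) = y) (k : (N : ℤ) ∣ p * (y - s)) : OutS s y p d a T N := by
  obtain ⟨j, hj⟩ := k
  rw [hpy] at hj
  have e : (N : ℤ) * j = y ^ 2 - s * y := by rw [← hj]; ring
  have hyy : 29 * y ≤ y ^ 2 := by rw [sq]; exact mul_le_mul_of_nonneg_right hbig (by linarith)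
  have hj1 := jpos hNZ (by rcases hs with rfl | rfl <;> linarith) e
  rcases pE hbig hs rfl (hd.imp id And.left) haZ hao hj1 e hK with ⟨g1, g2⟩ | ⟨g1, g2⟩
  · exact Or.inr (Or.inr (Or.inr (Or.inl ⟨hpy, g1, g2⟩)))
  · exact Or.inr (Or.inr (Or.inr (Or.inr (Or.inl ⟨hpy, g1, g2⟩))))

include hbig hs hd haZ hNZ hK in
theorem caseE' (hp5 : (5 : ℤ) ≤ p) (hpy : 5 * (p : ℤ) ≤ y) (k : (N : ℤ) ∣ p * (y - s)) : False := by
  have hys : 0 < y - s := by rcases hs with rfl | rfl <;> linarith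
  have hys' : y - s ≤ y + 1 := by rcases hs with rfl | rfl <;> linarith
  have hyy : 29 * y ≤ y ^ 2 := by rw [sq]; exact mul_le_mul_of_nonneg_right hbig (by linarith)
  have hle := Int.le_of_dvd (mul_pos (by linarith) hys) k
  have h5N : 5 * (N : ℤ) ≤ y * (y + 1) := by
    calc 5 * (N : ℤ) ≤ 5 * (p * (y - s)) := by linarith
      _ = (5 * p) * (y - s) := by ring
      _ ≤ y * (y + 1) := mul_le_mul hpy hys' hys.le (by linarith)
  have hd3' : d ≤ 3 := by rcases hd with h1 | ⟨h1, -⟩ <;> rw [h1] <;> norm_num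
  have hd0 : 0 < d := by rcases hd with h1 | ⟨h1, -⟩ <;> rw [h1] <;> norm_num
  refine tiny hbig hs rfl haZ hd0 hd3' ?_ hK
  have h6 : d * (5 * (N : ℤ)) ≤ 3 * (y * (y + 1)) := mul_le_mul hd3' h5N (by positivity) (by norm_num)
  have h7 : y ^ 2 - y + 1 ≤ y ^ 2 + s * y + 1 := by rcases hs with rfl | rfl <;> linarith
  have h8 : 5 * (d * (N : ℤ)) = d * (5 * (N : ℤ)) := by ring
  have h9 : y * (y + 1) = y ^ 2 + y := by ring
  rw [h8]
  rw [h9] at h6
  linarith only [h6, h7, hyy, hbig]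

include hbig hs hd haZ hNZ hK in
theorem caseF (k : 2 * (N : ℤ) ∣ d * (y - s)) : False := by
  have hys : 0 < y - s := by rcases hs with rfl | rfl <;> linarith
  have hys' : y - s ≤ y + 1 := by rcases hs with rfl | rfl <;> linarith
  have hyy : 29 * y ≤ y ^ 2 := by rw [sq]; exact mul_le_mul_of_nonneg_right hbig (by linarith)
  have hd3' : d ≤ 3 := by rcases hd with h1 | ⟨h1, -⟩ <;> rw [h1] <;> norm_num
  have hd0 : 0 < d := by rcases hd with h1 | ⟨h1, -⟩ <;> rw [h1] <;> norm_num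
  have hle := Int.le_of_dvd (mul_pos hd0 hys) k
  have h3 : d * (y - s) ≤ 3 * (y + 1) := mul_le_mul hd3' hys' hys.le (by norm_num)
  refine tiny hbig hs rfl haZ hd0 hd3' ?_ hK
  have h6 : d * (N : ℤ) ≤ 3 * N := mul_le_mul_of_nonneg_right hd3' hNZ.le
  have h7 : y ^ 2 - y + 1 ≤ y ^ 2 + s * y + 1 := by rcases hs with rfl | rfl <;> linarith
  linarith only [h6, h7, hyy, hbig, hle, h3]

end

end Cfsg.Agent.R2.Spec.X3.PairII
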