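import Cfsg.Agent.R2.Spec.X3.Size

/-!
# The outcome of the pair lemma (helper16, S3435, box X3)
-/

set_option autoImplicit false

namespace Cfsg.Agent.R2.Spec.X3

/-- exceptional `(x, T, N)`, type I -/
def excI : List (ℤ × ℤ × ℤ) := [(5, 13, 5), (5, 13, 6), (5, 13, 8), (5, 13, 20), (5, 39, 31), (13, 595, 549),
  (17, 1305, 1228), (25, 313, 279)]

/-- exceptional `(x, T, N)`, type II -/
def excII : List (ℤ × ℤ × ℤ) := [(7, 19, 10), (7, 19, 12), (7, 19, 20), (7, 19, 21), (7, 19, 24), (7, 19, 25),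
  (7, 19, 28), (7, 171, 200), (-17, 91, 72), (-17, 91, 80), (31, 331, 296), (-41, 547, 580), (-89, 2611, 2563),
  (307, 31519, 31900), (343, 39331, 38915)]

/-- the outcome, type I -/
def OutI (p : ℕ) (x T N : ℤ) : Prop :=
  (2 * T = x ^ 2 + 1 ∧ 2 * N = x ^ 2 - 1) ∨
  ((p : ℤ) = x ∧ 2 * T = x ^ 2 + 1 ∧ 2 * N = x ^ 2 + x) ∨
  ((p : ℤ) = x ∧ ∃ a : ℤ, 1 ≤ a ∧ a % 2 = 1 ∧ 2 * T = a * (x ^ 2 + 1) ∧ 2 * N = a * (x ^ 2 - x)) ∨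
  (x, T, N) ∈ excI

/-- the outcome, type II -/
def OutII (p : ℕ) (x T N : ℤ) : Prop :=
  (∃ δ : ℤ, (δ = 1 ∨ δ = 3) ∧
    ((δ * T = x ^ 2 + x + 1 ∧ δ * N = x ^ 2 - 1) ∨
     ((p : ℤ) = |x| ∧ δ * T = x ^ 2 + x + 1 ∧ δ * N = x ^ 2 - x) ∨
     ((p : ℤ) = |x| ∧ ∃ a : ℤ, 1 ≤ a ∧ a % 2 = 1 ∧ δ * T = a * (x ^ 2 + x + 1) ∧ δ * N = a * (x ^ 2 + x)))) ∨
  (T = x ^ 2 + x + 1 ∧ N = x ^ 2 + 1) ∨
  (x, T, N) ∈ excII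

/-- the outcome of the pair lemma -/
def PairOut (p : ℕ) (x T N : ℤ) : Prop :=
  (x % 4 = 1 ∧ 5 ≤ x ∧ OutI p x T N) ∨ (x % 4 = 3 ∧ (7 ≤ x ∨ x ≤ -13) ∧ OutII p x T N)

end Cfsg.Agent.R2.Spec.X3
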