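import Mathlib

/-!
# The pair lemma, type I: arithmetic (helper16, S3435, box X3)

`P = x² + 1`, `2 T = a P`, `a` odd, `2 a ∣ x + 1`, `(a P - 2 N)² ≤ 10 a P`, `29 ≤ x`.
-/

set_option autoImplicit false

namespace Cfsg.Agent.R2.Spec.X3.PairI

/-- `N ∣ x² - 1` -/
theorem pC {x a m N : ℤ} (hx : 29 ≤ x) (ha : 1 ≤ a) (hm : 1 ≤ m) (h : N * m = x ^ 2 - 1) (hao : a % 2 = 1)
    (hK : (a * (x ^ 2 + 1) - 2 * N) ^ 2 ≤ 10 * (a * (x ^ 2 + 1))) : a = 1 ∧ 2 * N = x ^ 2 - 1 := by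
  obtain ⟨w, hw⟩ : ∃ w, w = x ^ 2 + 1 := ⟨_, rfl⟩
  have hw1 : 842 ≤ w := by rw [hw]; nlinarith
  rw [← hw] at hK
  have h' : N * m = w - 2 := by rw [h, hw]; ring
  obtain ⟨s, hs⟩ : ∃ s, s = m * a - 2 := ⟨_, rfl⟩
  have h1 : m * (a * w - 2 * N) = s * w + 4 := by rw [hs]; linear_combination (-2) * h'
  have hma : 1 ≤ m * a := by nlinarith
  have h2 : (s * w + 4) ^ 2 ≤ 10 * ((s + 2) ^ 2 * w) := by
    rw [← h1, mul_pow]
    have h3 := mul_le_mul_of_nonneg_left hK (sq_nonneg m)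
    have h4 : m ^ 2 * (10 * (a * w)) ≤ 10 * ((s + 2) ^ 2 * w) := by
      have e : s + 2 = m * a := by rw [hs]; ring
      rw [e]
      have : m ^ 2 * a * 1 ≤ m ^ 2 * a * a := mul_le_mul_of_nonneg_left ha (by positivity)
      nlinarith
    exact h3.trans h4
  rcases lt_trichotomy s 0 with h3 | h3 | h3
  · exfalso
    have : s = -1 := by omega
    subst this
    nlinarith
  · have hma2 : m * a = 2 := by omega
    have ha1 : a = 1 := by
      have h3 : a ∣ 2 := ⟨m, by rw [← hma2]; ring⟩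
      have h4 := Int.le_of_dvd (by norm_num) h3
      interval_cases a
      · rfl
      · omega
    subst ha1
    rw [mul_one] at hma2
    subst hma2
    exact ⟨rfl, by linarith⟩
  · exfalso
    have h4 : (s * w) ^ 2 ≤ 90 * (s ^ 2 * w) := by
      have h5 : (s + 2) ^ 2 ≤ 9 * s ^ 2 := by nlinarith
      have h6 : (s * w) ^ 2 ≤ (s * w + 4) ^ 2 := pow_le_pow_left₀ (by positivity) (by linarith) 2
      nlinarith
    have h5 : 0 < s ^ 2 * w := by positivity
    have h6 : (s * w) ^ 2 = (s ^ 2 * w) * w := by ring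
    nlinarith

/-- from `2 a ∣ x + 1` and `2 a j = x + z` -/
theorem key_dvd {x a i j z : ℤ} (hai : 2 * (a * i) = x + 1) (hj : 2 * (a * j) = x + z) : a * (j - i) * 2 = z - 1 := by
  linarith [mul_sub a j i]

theorem a_one {a k c : ℤ} (ha : 1 ≤ a) (hao : a % 2 = 1) (h : a * k * 2 = c) (hc : c = 2 ∨ c = -2 ∨ c = -4) : a = 1 := by
  have h3 : a ∣ 2 := by
    rcases hc with rfl | rfl | rfl
    · exact ⟨2 * k, by linarith⟩
    · exact ⟨-(2 * k), by linarith⟩
    · exact ⟨-k, by linarith⟩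
  have h4 := Int.le_of_dvd (by norm_num) h3
  omega

/-- the range of `z` : `a (z P + R)² ≤ 10 (x + z)² P`, `0 ≤ R ≤ 2 x + 2` -/
theorem z_range {x a z R : ℤ} (hx : 29 ≤ x) (ha : 1 ≤ a) (hz : z % 2 = 1) (hxz : 0 < x + z) (hR0 : 0 ≤ R) (hR : R ≤ 2 * x)
    (h : a * (z * (x ^ 2 + 1) + R) ^ 2 ≤ 10 * (x + z) ^ 2 * (x ^ 2 + 1)) : z = -3 ∨ z = -1 ∨ z = 1 ∨ z = 3 := by
  obtain ⟨w, hw⟩ : ∃ w, w = x ^ 2 + 1 := ⟨_, rfl⟩
  have hw1 : 842 ≤ w := by rw [hw]; nlinarith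
  have hxw : 29 * x ≤ w := by rw [hw]; nlinarith
  rw [← hw] at h
  have h0 : (z * w + R) ^ 2 ≤ 10 * (x + z) ^ 2 * w := (le_mul_of_one_le_left (sq_nonneg _) ha).trans h
  rcases le_or_gt 1 z with h1 | h1
  · have h2 : (z * w) ^ 2 ≤ 10 * (x + z) ^ 2 * w :=
      (pow_le_pow_left₀ (by positivity) (by linarith) 2).trans h0
    have h3 : z ^ 2 * w ≤ 10 * (x + z) ^ 2 := by
      have h4 : z ^ 2 * w * w ≤ 10 * (x + z) ^ 2 * w := by
        have : (z * w) ^ 2 = z ^ 2 * w * w := by ring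
        rwa [this] at h2
      exact le_of_mul_le_mul_right h4 (by omega)
    have h5 : (5 * (z * x)) ^ 2 < (16 * (x + z)) ^ 2 := by
      have h9 : z ^ 2 * x ^ 2 ≤ z ^ 2 * w := mul_le_mul_of_nonneg_left (by linarith) (sq_nonneg _)
      have h10 : 0 < (x + z) ^ 2 := by positivity
      have h11 : (5 * (z * x)) ^ 2 = 25 * (z ^ 2 * x ^ 2) := by ring
      have h12 : (16 * (x + z)) ^ 2 = 256 * (x + z) ^ 2 := by ring
      rw [h11, h12]; linarith
    have h9 : 5 * (z * x) < 16 * (x + z) := lt_of_pow_lt_pow_left₀ 2 (by positivity) h5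
    have hz5 : z < 5 := by
      by_contra hcon
      push Not at hcon
      have h10 : 29 * (5 * z - 16) ≤ x * (5 * z - 16) := mul_le_mul_of_nonneg_right hx (by omega)
      linarith
    omega
  · have hz1 : z ≤ -1 := by omega
    by_contra hcon
    have hz5 : z ≤ -5 := by omega
    have h2 : 0 ≤ 14 * R - 0 := by linarith
    -- `z w + R ≤ (z + 1/14) w`
    have h3 : 14 * (z * w + R) ≤ (14 * z + 1) * w := by
      have : 14 * R ≤ w := by linarith
      linarith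
    have h4 : ((14 * z + 1) * w) ^ 2 ≤ (14 * (z * w + R)) ^ 2 := by
      have h5 : (14 * z + 1) * w ≤ 0 := mul_nonpos_of_nonpos_of_nonneg (by omega) (by omega)
      have h6 : 14 * (z * w + R) ≤ 0 := h3.trans h5
      nlinarith
    have h5 : (69 * w) ^ 2 ≤ ((14 * z + 1) * w) ^ 2 := by
      have h7 : 69 ^ 2 ≤ (14 * z + 1) ^ 2 := by nlinarith
      rw [mul_pow, mul_pow]
      exact mul_le_mul_of_nonneg_right h7 (sq_nonneg _)
    have h6 : (x + z) ^ 2 ≤ (x - 5) ^ 2 := pow_le_pow_left₀ hxz.le (by omega) 2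
    have h7 : 4761 * w * w ≤ 1960 * (x - 5) ^ 2 * w := by
      have h8 : (14 * (z * w + R)) ^ 2 = 196 * (z * w + R) ^ 2 := by ring
      have h9 : (69 * w) ^ 2 = 4761 * w * w := by ring
      have h10 := mul_le_mul_of_nonneg_right h6 (by omega : (0 : ℤ) ≤ w)
      linarith
    have h8 : 4761 * w ≤ 1960 * (x - 5) ^ 2 := le_of_mul_le_mul_right h7 (by omega)
    rw [hw] at h8
    nlinarith

/-- `4 N ∣ x³ - 1` -/
theorem pA {x a i j N : ℤ} (hx : 29 ≤ x) (h4 : x % 4 = 1) (ha : 1 ≤ a) (hao : a % 2 = 1)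
    (hai : 2 * (a * i) = x + 1) (hj : 1 ≤ j) (h : N * (4 * j) = x ^ 3 - 1)
    (hK : (a * (x ^ 2 + 1) - 2 * N) ^ 2 ≤ 10 * (a * (x ^ 2 + 1))) : False := by
  obtain ⟨z, hz⟩ : ∃ z, z = 2 * (a * j) - x := ⟨_, rfl⟩
  have hzj : 2 * (a * j) = x + z := by rw [hz]; ring
  have hzo : z % 2 = 1 := by omega
  have h1 : 2 * j * (a * (x ^ 2 + 1) - 2 * N) = z * (x ^ 2 + 1) + (x + 1) := by
    linear_combination (x ^ 2 + 1) * hzj - h
  have hpos : 0 < x + z := by rw [← hzj]; positivity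
  have h2 : a * (z * (x ^ 2 + 1) + (x + 1)) ^ 2 ≤ 10 * (x + z) ^ 2 * (x ^ 2 + 1) := by
    rw [← h1, ← hzj]
    have := mul_le_mul_of_nonneg_left hK (by positivity : 0 ≤ a * (4 * j ^ 2))
    nlinarith
  have hkd := key_dvd hai hzj
  rcases z_range hx ha hzo hpos (by linarith) (by linarith) h2 with rfl | rfl | rfl | rfl
  · have ha1 := a_one ha hao hkd (by norm_num)
    subst ha1
    have hj2 : 2 * j = x - 3 := by linarith
    have h11 : (x - 3) ∣ 26 := by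
      have h8 : (x - 3) ∣ x ^ 3 - 1 := ⟨2 * N, by rw [← h, ← hj2]; ring⟩
      have h12 : x ^ 3 - 1 = (x - 3) * (x ^ 2 + 3 * x + 9) + 26 := by ring
      rw [h12] at h8
      exact (dvd_add_right (dvd_mul_right _ _)).1 h8
    have h13 := Int.le_of_dvd (by norm_num) h11
    have h15 : x = 29 := by omega
    subst h15
    have : j = 13 := by omega
    subst this
    have : N = 469 := by omega
    subst this
    norm_num at hK
  · have ha1 := a_one ha hao hkd (by norm_num)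
    subst ha1
    have hj2 : 2 * j = x - 1 := by linarith
    have h10 : (x - 1) * (2 * N) = (x - 1) * (x ^ 2 + x + 1) := by
      have : (x - 1) * (2 * N) = N * (4 * j) := by rw [← hj2]; ring
      rw [this, h]; ring
    have h11 : 2 * N = x ^ 2 + x + 1 := mul_left_cancel₀ (by omega) h10
    have h12 : (x ^ 2 + x) % 2 = 0 := by
      have : x ^ 2 + x = x * (x + 1) := by ring
      rw [this]
      have : (x + 1) % 2 = 0 := by omega
      rw [Int.mul_emod, this]; simp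
    omega
  · -- `z = 1`, `j = i`
    have hij : j = i := by
      have : a * (j - i) = 0 := by omega
      rcases mul_eq_zero.1 this with h | h <;> omega
    subst hij
    have h3 : j ∣ 2 := by
      have h5 : j ∣ x + 1 := ⟨2 * a, by rw [← hai]; ring⟩
      have h6 : j ∣ x ^ 3 - 1 := ⟨4 * N, by rw [← h]; ring⟩
      have h7 : x ^ 3 - 1 = (x + 1) * (x ^ 2 - x + 1) - 2 := by ring
      rw [h7] at h6
      exact (dvd_sub_right (h5.mul_right _)).1 h6
    have h5 := Int.le_of_dvd (by norm_num) h3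
    have h6 : j = 1 := by
      have : j = 1 ∨ j = 2 := by omega
      rcases this with h | h
      · exact h
      · subst h; omega
    subst h6
    have ha3 : 2 * a = x + 1 := by linarith
    have h7 : (x ^ 2 + 1 + (x + 1)) ^ 2 * (2 * a) ≤ 20 * (x + 1) ^ 2 * (x ^ 2 + 1) := by
      rw [one_mul] at h2
      linarith
    rw [ha3] at h7
    have h8 : (x ^ 2 + 1 + (x + 1)) ^ 2 ≤ 20 * (x + 1) * (x ^ 2 + 1) := by
      have h9 : (x ^ 2 + 1 + (x + 1)) ^ 2 * (x + 1) ≤ 20 * (x + 1) * (x ^ 2 + 1) * (x + 1) := by linarith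
      exact le_of_mul_le_mul_right h9 (by omega)
    obtain ⟨t, rfl⟩ : ∃ t, x = t + 29 := ⟨x - 29, by ring⟩
    have ht : 0 ≤ t := by omega
    have : 0 < ((t + 29) ^ 2 + 1 + (t + 29 + 1)) ^ 2 - 20 * (t + 29 + 1) * ((t + 29) ^ 2 + 1) := by
      ring_nf
      positivity
    linarith
  · have ha1 := a_one ha hao hkd (by norm_num)
    subst ha1
    have hj2 : 2 * j = x + 3 := by linarith
    have h11 : (x + 3) ∣ 28 := by
      have h8 : (x + 3) ∣ x ^ 3 - 1 := ⟨2 * N, by rw [← h, ← hj2]; ring⟩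
      have h12 : x ^ 3 - 1 = (x + 3) * (x ^ 2 - 3 * x + 9) - 28 := by ring
      rw [h12] at h8
      exact (dvd_sub_right (dvd_mul_right _ _)).1 h8
    have h13 := Int.le_of_dvd (by norm_num) h11
    omega

/-- `4 N ∣ p (x² - 1)`, `x = p` -/
theorem pD {x a i j N : ℤ} (hx : 29 ≤ x) (ha : 1 ≤ a) (hao : a % 2 = 1) (hxo : x % 2 = 1)
    (hai : 2 * (a * i) = x + 1) (hj : 1 ≤ j) (h : N * (4 * j) = x * (x ^ 2 - 1))
    (hK : (a * (x ^ 2 + 1) - 2 * N) ^ 2 ≤ 10 * (a * (x ^ 2 + 1))) :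
    (a = 1 ∧ 2 * N = x ^ 2 + x) ∨ 2 * N = a * (x ^ 2 - x) := by
  obtain ⟨z, hz⟩ : ∃ z, z = 2 * (a * j) - x := ⟨_, rfl⟩
  have hzj : 2 * (a * j) = x + z := by rw [hz]; ring
  have hzo : z % 2 = 1 := by omega
  have h1 : 2 * j * (a * (x ^ 2 + 1) - 2 * N) = z * (x ^ 2 + 1) + 2 * x := by
    linear_combination (x ^ 2 + 1) * hzj - h
  have hpos : 0 < x + z := by rw [← hzj]; positivity
  have h2 : a * (z * (x ^ 2 + 1) + 2 * x) ^ 2 ≤ 10 * (x + z) ^ 2 * (x ^ 2 + 1) := by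
    rw [← h1, ← hzj]
    have := mul_le_mul_of_nonneg_left hK (by positivity : 0 ≤ a * (4 * j ^ 2))
    nlinarith
  have hkd := key_dvd hai hzj
  rcases z_range hx ha hzo hpos (by linarith) le_rfl h2 with rfl | rfl | rfl | rfl
  · exfalso
    have ha1 := a_one ha hao hkd (by norm_num)
    subst ha1
    have hj2 : 2 * j = x - 3 := by linarith
    have h11 : (x - 3) ∣ 24 := by
      have h8 : (x - 3) ∣ x * (x ^ 2 - 1) := ⟨2 * N, by rw [← h, ← hj2]; ring⟩
      have h12 : x * (x ^ 2 - 1) = (x - 3) * (x ^ 2 + 3 * x + 8) + 24 := by ring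
      rw [h12] at h8
      exact (dvd_add_right (dvd_mul_right _ _)).1 h8
    have h13 := Int.le_of_dvd (by norm_num) h11
    omega
  · left
    have ha1 := a_one ha hao hkd (by norm_num)
    subst ha1
    refine ⟨rfl, ?_⟩
    have hj2 : 2 * j = x - 1 := by linarith
    have h10 : (x - 1) * (2 * N) = (x - 1) * (x ^ 2 + x) := by
      have : (x - 1) * (2 * N) = N * (4 * j) := by rw [← hj2]; ring
      rw [this, h]; ring
    exact mul_left_cancel₀ (by omega) h10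
  · right
    have h10 : (x + 1) * (2 * N) = (x + 1) * (a * (x ^ 2 - x)) := by
      have : (x + 1) * (2 * N) = a * (N * (4 * j)) := by
        linear_combination (-2 * N) * hzj
      rw [this, h]; ring
    exact mul_left_cancel₀ (by omega) h10
  · exfalso
    have ha1 := a_one ha hao hkd (by norm_num)
    subst ha1
    have hj2 : 2 * j = x + 3 := by linarith
    have h11 : (x + 3) ∣ 24 := by
      have h8 : (x + 3) ∣ x * (x ^ 2 - 1) := ⟨2 * N, by rw [← h, ← hj2]; ring⟩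
      have h12 : x * (x ^ 2 - 1) = (x + 3) * (x ^ 2 - 3 * x + 8) - 24 := by ring
      rw [h12] at h8
      exact (dvd_sub_right (dvd_mul_right _ _)).1 h8
    have h13 := Int.le_of_dvd (by norm_num) h11
    omega

/-- `4 N ∣ p (x² - 1)`, `5 p ≤ x` -/
theorem pD' {x p a j N : ℤ} (hx : 29 ≤ x) (hp : 5 ≤ p) (hpo : p % 2 = 1) (hpx : 5 * p ≤ x) (ha : 1 ≤ a) (hj : 1 ≤ j)
    (h : N * (4 * j) = p * (x ^ 2 - 1))
    (hK : (a * (x ^ 2 + 1) - 2 * N) ^ 2 ≤ 10 * (a * (x ^ 2 + 1))) : False := by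
  obtain ⟨w, hw⟩ : ∃ w, w = x ^ 2 + 1 := ⟨_, rfl⟩
  have hw1 : 842 ≤ w := by rw [hw]; nlinarith
  have hxw : 29 * x ≤ w := by rw [hw]; nlinarith
  have hxx : x ^ 2 ≤ w := by rw [hw]; linarith
  obtain ⟨z, hz⟩ : ∃ z, z = 2 * (a * j) - p := ⟨_, rfl⟩
  have hzj : 2 * (a * j) = p + z := by rw [hz]; ring
  have hzo : z % 2 = 1 := by omega
  have h1 : 2 * j * (a * w - 2 * N) = z * w + 2 * p := by
    have : 2 * p = p * w - p * (x ^ 2 - 1) := by rw [hw]; ring
    rw [this]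
    linear_combination w * hzj - h
  have hpos : 0 < p + z := by rw [← hzj]; positivity
  rw [← hw] at hK
  have h2 : a * (z * w + 2 * p) ^ 2 ≤ 10 * (p + z) ^ 2 * w := by
    rw [← h1, ← hzj]
    have := mul_le_mul_of_nonneg_left hK (by positivity : 0 ≤ a * (4 * j ^ 2))
    nlinarith
  have h0 : (z * w + 2 * p) ^ 2 ≤ 10 * (p + z) ^ 2 * w := (le_mul_of_one_le_left (sq_nonneg _) ha).trans h2
  -- `|z w + 2 p| ≥ (9/10) |z| w`
  have h3 : (9 * (z * w)) ^ 2 ≤ (10 * (z * w + 2 * p)) ^ 2 := by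
    rcases le_or_gt 1 z with h5 | h5
    · have : 0 ≤ z * w := by positivity
      exact pow_le_pow_left₀ (by positivity) (by linarith) 2
    · have hz1 : z ≤ -1 := by omega
      have h6 : z * w ≤ -w := by nlinarith
      nlinarith
  have h4 : 81 * (z ^ 2 * w) ≤ 1000 * (p + z) ^ 2 := by
    have h5 : 81 * (z ^ 2 * w) * w ≤ 1000 * (p + z) ^ 2 * w := by nlinarith
    exact le_of_mul_le_mul_right h5 (by omega)
  have h5 : (9 * (z * x)) ^ 2 ≤ 1000 * (p + z) ^ 2 := by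
    have : z ^ 2 * x ^ 2 ≤ z ^ 2 * w := mul_le_mul_of_nonneg_left hxx (sq_nonneg _)
    nlinarith
  -- `p ≤ x / 5`
  have h6 : (p + z) ^ 2 ≤ (p + |z|) ^ 2 := pow_le_pow_left₀ hpos.le (by linarith [le_abs_self z]) 2
  have h7 : (9 * (|z| * x)) ^ 2 < (32 * (p + |z|)) ^ 2 := by
    have e : (9 * (|z| * x)) ^ 2 = (9 * (z * x)) ^ 2 := by rw [mul_pow, mul_pow, sq_abs]; ring
    rw [e]
    have : 0 < (p + |z|) ^ 2 := by positivity
    nlinarith
  have h8 : 9 * (|z| * x) < 32 * (p + |z|) := lt_of_pow_lt_pow_left₀ 2 (by positivity) h7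
  have h9 : 1 ≤ |z| := Int.one_le_abs (by rintro rfl; omega)
  nlinarith

/-- `N ∣ x (x - 1)` -/
theorem pE {x a m N : ℤ} (hx : 29 ≤ x) (ha : 1 ≤ a) (hao : a % 2 = 1) (hm : 1 ≤ m) (h : N * m = x * (x - 1))
    (hK : (a * (x ^ 2 + 1) - 2 * N) ^ 2 ≤ 10 * (a * (x ^ 2 + 1))) : a = 1 ∧ 2 * N = x ^ 2 - x := by
  obtain ⟨s, hs⟩ : ∃ s, s = m * a - 2 := ⟨_, rfl⟩
  have hma : 1 ≤ m * a := by nlinarith
  obtain ⟨w, hw⟩ : ∃ w, w = x ^ 2 + 1 := ⟨_, rfl⟩
  have hw1 : 842 ≤ w := by rw [hw]; nlinarith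
  have hxw : 29 * x ≤ w := by rw [hw]; nlinarith
  rw [← hw] at hK
  have h1 : m * (a * w - 2 * N) = s * w + (2 * x + 2) := by rw [hs, hw]; linear_combination (-2) * h
  have h2 : (s * w + (2 * x + 2)) ^ 2 ≤ 10 * ((s + 2) ^ 2 * w) := by
    rw [← h1, mul_pow]
    have h3 := mul_le_mul_of_nonneg_left hK (sq_nonneg m)
    have h4 : m ^ 2 * (10 * (a * w)) ≤ 10 * ((s + 2) ^ 2 * w) := by
      have e : s + 2 = m * a := by rw [hs]; ring
      rw [e]
      have : m ^ 2 * a * 1 ≤ m ^ 2 * a * a := mul_le_mul_of_nonneg_left ha (by positivity)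
      nlinarith
    exact h3.trans h4
  rcases lt_trichotomy s 0 with h3 | h3 | h3
  · exfalso
    have : s = -1 := by omega
    subst this
    nlinarith
  · have hma2 : m * a = 2 := by omega
    have ha1 : a = 1 := by
      have h3 : a ∣ 2 := ⟨m, by rw [← hma2]; ring⟩
      have h4 := Int.le_of_dvd (by norm_num) h3
      interval_cases a
      · rfl
      · omega
    subst ha1
    rw [mul_one] at hma2
    subst hma2
    exact ⟨rfl, by linarith⟩
  · exfalso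
    have h4 : (s * w) ^ 2 ≤ 90 * (s ^ 2 * w) := by
      have h5 : (s + 2) ^ 2 ≤ 9 * s ^ 2 := by nlinarith
      have h6 : (s * w) ^ 2 ≤ (s * w + (2 * x + 2)) ^ 2 := pow_le_pow_left₀ (by positivity) (by linarith) 2
      nlinarith
    have h5 : 0 < s ^ 2 * w := by positivity
    have h6 : (s * w) ^ 2 = (s ^ 2 * w) * w := by ring
    nlinarith

/-- `N ∣ p (x - 1)`, `5 p ≤ x` -/
theorem pE' {x p a N : ℤ} (hx : 25 ≤ x) (hpx : 5 * p ≤ x) (ha : 1 ≤ a) (hN0 : 0 ≤ N) (hN : N ≤ p * (x - 1))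
    (hK : (a * (x ^ 2 + 1) - 2 * N) ^ 2 ≤ 10 * (a * (x ^ 2 + 1))) : False := by
  obtain ⟨w, hw⟩ : ∃ w, w = x ^ 2 + 1 := ⟨_, rfl⟩
  rw [← hw] at hK
  have h1 : 5 * N ≤ w := by
    rw [hw]
    have : 5 * p * (x - 1) ≤ x * (x - 1) := mul_le_mul_of_nonneg_right hpx (by omega)
    nlinarith
  have hw1 : 626 ≤ w := by rw [hw]; nlinarith
  have h2 : w ≤ a * w := le_mul_of_one_le_left (by omega) ha
  have h3 : (3 * (a * w)) ≤ 5 * (a * w - 2 * N) := by linarith
  have h4 : (3 * (a * w)) ^ 2 ≤ (5 * (a * w - 2 * N)) ^ 2 := pow_le_pow_left₀ (by positivity) h3 2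
  nlinarith

end Cfsg.Agent.R2.Spec.X3.PairI
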