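import Mathlib

/-!
# The pair lemma, type II: arithmetic (helper16, S3435, box X3)

`x = s y`, `s = ± 1`, `29 ≤ y`, `P = x² + x + 1 = y² + s y + 1`, `d T = a P`, `a` odd, `2 a ∣ d (x - 1)`, `d ∈ {1, 3}`,
`(a P - d N)² ≤ 5 d (a P)`.
-/

set_option autoImplicit false

namespace Cfsg.Agent.R2.Spec.X3.PairII

/-- `√15 < 3.873` -/
theorem sqrt15 {A B P Y : ℤ} (hB : 0 ≤ B) (hY : 0 ≤ Y) (hPY : P ≤ Y ^ 2)
    (h : A ^ 2 ≤ 15 * (B ^ 2 * P)) : 1000 * A ≤ 3873 * (Y * B) := by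
  by_contra hcon
  push Not at hcon
  have h1 : (3873 * (Y * B)) ^ 2 < (1000 * A) ^ 2 := pow_lt_pow_left₀ hcon (by positivity) two_ne_zero
  have h2 : B ^ 2 * P ≤ B ^ 2 * Y ^ 2 := mul_le_mul_of_nonneg_left hPY (sq_nonneg _)
  have h3 : 0 ≤ B ^ 2 * Y ^ 2 := by positivity
  nlinarith

/-- `√5 < 2.237` -/
theorem sqrt5 {A B P Y : ℤ} (hB : 0 ≤ B) (hY : 0 ≤ Y) (hPY : P ≤ Y ^ 2)
    (h : A ^ 2 ≤ 5 * (B ^ 2 * P)) : 1000 * A ≤ 2237 * (Y * B) := by
  by_contra hcon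
  push Not at hcon
  have h1 : (2237 * (Y * B)) ^ 2 < (1000 * A) ^ 2 := pow_lt_pow_left₀ hcon (by positivity) two_ne_zero
  have h2 : B ^ 2 * P ≤ B ^ 2 * Y ^ 2 := mul_le_mul_of_nonneg_left hPY (sq_nonneg _)
  have h3 : 0 ≤ B ^ 2 * Y ^ 2 := by positivity
  nlinarith

/-- the standing facts -/
theorem facts {y s P : ℤ} (hy : 29 ≤ y) (hs : s = 1 ∨ s = -1) (hP : P = y ^ 2 + s * y + 1) :
    ∃ Y, 0 ≤ Y ∧ P ≤ Y ^ 2 ∧ ((s = 1 ∧ Y = y + 1) ∨ (s = -1 ∧ Y = y)) := by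
  rcases hs with rfl | rfl
  · exact ⟨y + 1, by omega, by rw [hP]; nlinarith, Or.inl ⟨rfl, rfl⟩⟩
  · exact ⟨y, by omega, by rw [hP]; nlinarith, Or.inr ⟨rfl, rfl⟩⟩

/-- `(z P + R)² ≤ 15 (Q + z)² P` with `|R| ≤ r` -/
theorem abs_form {z P R Q r k : ℤ} (hr : |R| ≤ r) (hP : 0 ≤ P) (hQ : 0 ≤ Q) (hpos : 0 ≤ Q + z)
    (h : (z * P + R) ^ 2 ≤ k * ((Q + z) ^ 2 * P)) (hk : 0 ≤ k) (hrz : r ≤ |z| * P) :
    (|z| * P - r) ^ 2 ≤ k * ((Q + |z|) ^ 2 * P) := by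
  have h1 : |z| * P - r ≤ |z * P + R| := by
    have h2 : |z * P| = |z| * P := by rw [abs_mul, abs_of_nonneg hP]
    have h3 : |z * P| - |R| ≤ |z * P + R| := by
      have := abs_sub_abs_le_abs_sub (z * P) (-R)
      rwa [abs_neg, sub_neg_eq_add] at this
    linarith
  have h2 : (|z| * P - r) ^ 2 ≤ (z * P + R) ^ 2 := by
    rw [← sq_abs (z * P + R)]
    exact pow_le_pow_left₀ (by linarith) h1 2
  have h3 : (Q + z) ^ 2 ≤ (Q + |z|) ^ 2 := pow_le_pow_left₀ hpos (by linarith [le_abs_self z]) 2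
  have h4 : (Q + z) ^ 2 * P ≤ (Q + |z|) ^ 2 * P := mul_le_mul_of_nonneg_right h3 hP
  exact h2.trans (h.trans (mul_le_mul_of_nonneg_left h4 hk))

section

variable {y s P d a : ℤ} (hy : 29 ≤ y) (hyo : y % 2 = 1) (hs : s = 1 ∨ s = -1) (hP : P = y ^ 2 + s * y + 1)
  (hd : d = 1 ∨ d = 3) (ha : 1 ≤ a) (hao : a % 2 = 1)

include hy hs hP in
theorem P_ge : 813 ≤ P ∧ 28 * y ≤ P ∧ 28 * y ^ 2 ≤ 29 * P := by
  rcases hs with rfl | rfl <;> refine ⟨?_, ?_, ?_⟩ <;> nlinarith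

/-! ### `N ∣ x² - 1` and `N ∣ x² - x` -/

include hy hs hP hd ha in
/-- the common argument: `N m = P - Q`, `|Q| ≤ 2 y + 2` -/
theorem sm {m N Q : ℤ} (hm : 1 ≤ m) (hQ : |Q| ≤ 2 * y + 2) (h : N * m = P - Q)
    (hK : (a * P - d * N) ^ 2 ≤ 5 * d * (a * P)) : m * a = d := by
  obtain ⟨hP1, hP2, -⟩ := P_ge hy hs hP
  obtain ⟨z, hz⟩ : ∃ z, z = m * a - d := ⟨_, rfl⟩
  have hma : 1 ≤ m * a := by nlinarith
  have hd0 : 0 < d := by rcases hd with rfl | rfl <;> norm_num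
  have hd3 : d ≤ 3 := by rcases hd with rfl | rfl <;> norm_num
  have h1 : m * (a * P - d * N) = z * P + d * Q := by rw [hz]; linear_combination (-d) * h
  have h2 : (z * P + d * Q) ^ 2 ≤ 15 * ((d + z) ^ 2 * P) := by
    rw [← h1, mul_pow]
    have h3 := mul_le_mul_of_nonneg_left hK (sq_nonneg m)
    refine h3.trans ?_
    have e : d + z = m * a := by rw [hz]; ring
    rw [e]
    have h4 : m ^ 2 * a ≤ (m * a) ^ 2 := by
      have : m ^ 2 * a * 1 ≤ m ^ 2 * a * a := mul_le_mul_of_nonneg_left ha (by positivity)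
      nlinarith
    have h5 : m ^ 2 * a * P ≤ (m * a) ^ 2 * P := mul_le_mul_of_nonneg_right h4 (by omega)
    have h6 : 0 ≤ m ^ 2 * a * P := by positivity
    nlinarith
  by_contra hne
  have hz0 : z ≠ 0 := fun h0 => hne (by omega)
  have hz1 : 1 ≤ |z| := Int.one_le_abs hz0
  have hr : |d * Q| ≤ 6 * y + 6 := by
    rw [abs_mul, abs_of_pos hd0]
    nlinarith [abs_nonneg Q]
  have h3 := abs_form hr (by omega : 0 ≤ P) hd0.le (by rw [hz]; linarith) h2 (by norm_num)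
    (by nlinarith)
  obtain ⟨Y, hY0, hPY, hY⟩ := facts hy hs hP
  have h4 := sqrt15 (by omega) hY0 hPY h3
  have h5 : Y * (d + |z|) ≤ Y * (4 * |z|) := mul_le_mul_of_nonneg_left (by omega) hY0
  -- `1000 (|z| P - 6 y - 6) ≤ 15492 Y |z|`
  have h6 : 1000 * (6 * y + 6) ≤ |z| * (1000 * (6 * y + 6)) := le_mul_of_one_le_left (by omega) hz1
  have h7 : |z| * (1000 * P - 1000 * (6 * y + 6) - 15492 * Y) ≤ 0 := by nlinarith
  have h8 : 0 < 1000 * P - 1000 * (6 * y + 6) - 15492 * Y := by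
    rcases hY with ⟨rfl, rfl⟩ | ⟨rfl, rfl⟩ <;> rw [hP] <;> nlinarith
  nlinarith

include hy hs hP hd ha hao in
/-- `N ∣ x² - 1` -/
theorem pC {m N : ℤ} (hm : 1 ≤ m) (h : N * m = y ^ 2 - 1)
    (hK : (a * P - d * N) ^ 2 ≤ 5 * d * (a * P)) : (a = 1 ∧ d * N = y ^ 2 - 1) ∨ (a = d ∧ N = y ^ 2 - 1) := by
  have h1 := sm hy hs hP hd ha hm (Q := s * y + 2) (by
    rw [abs_le]; rcases hs with rfl | rfl <;> constructor <;> linarith) (by rw [h, hP]; ring) hK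
  have h2 : a = 1 ∨ a = d := by
    rcases hd with rfl | rfl
    · left
      exact Int.eq_one_of_mul_eq_one_left (by omega) h1
    · have h3 : a ∣ 3 := ⟨m, by rw [← h1]; ring⟩
      have h4 := Int.le_of_dvd (by norm_num) h3
      omega
  rcases h2 with rfl | rfl
  · left
    refine ⟨rfl, ?_⟩
    rw [mul_one] at h1
    rw [← h1, mul_comm, h]
  · right
    refine ⟨rfl, ?_⟩
    have hd0 : a ≠ 0 := by rcases hd with rfl | rfl <;> norm_num
    have h3 : m = 1 := by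
      have : m * a = 1 * a := by rw [h1, one_mul]
      exact mul_right_cancel₀ hd0 this
    rw [h3, mul_one] at h
    exact h

include hy hs hP hd ha hao in
/-- `N ∣ x² - x` -/
theorem pE {m N : ℤ} (hm : 1 ≤ m) (h : N * m = y ^ 2 - s * y)
    (hK : (a * P - d * N) ^ 2 ≤ 5 * d * (a * P)) : (a = 1 ∧ d * N = y ^ 2 - s * y) ∨ (a = d ∧ N = y ^ 2 - s * y) := by
  have h1 := sm hy hs hP hd ha hm (Q := 2 * s * y + 1) (by
    rw [abs_le]; rcases hs with rfl | rfl <;> constructor <;> linarith) (by rw [h, hP]; ring) hK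
  have h2 : a = 1 ∨ a = d := by
    rcases hd with rfl | rfl
    · left
      exact Int.eq_one_of_mul_eq_one_left (by omega) h1
    · have h3 : a ∣ 3 := ⟨m, by rw [← h1]; ring⟩
      have h4 := Int.le_of_dvd (by norm_num) h3
      omega
  rcases h2 with rfl | rfl
  · left
    refine ⟨rfl, ?_⟩
    rw [mul_one] at h1
    rw [← h1, mul_comm, h]
  · right
    refine ⟨rfl, ?_⟩
    have hd0 : a ≠ 0 := by rcases hd with rfl | rfl <;> norm_num
    have h3 : m = 1 := by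
      have : m * a = 1 * a := by rw [h1, one_mul]
      exact mul_right_cancel₀ hd0 this
    rw [h3, mul_one] at h
    exact h

include hy hs hP ha in
/-- small `N` -/
theorem tiny {N : ℤ} (hd0 : 0 < d) (hd3 : d ≤ 3) (hN : 5 * (d * N) ≤ 4 * P)
    (hK : (a * P - d * N) ^ 2 ≤ 5 * d * (a * P)) : False := by
  obtain ⟨hP1, hP2, -⟩ := P_ge hy hs hP
  have h2 : P ≤ a * P := le_mul_of_one_le_left (by omega) ha
  have h3 : a * P ≤ 5 * (a * P - d * N) := by linarith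
  have h4 : (a * P) ^ 2 ≤ (5 * (a * P - d * N)) ^ 2 := pow_le_pow_left₀ (by positivity) h3 2
  nlinarith

/-! ### `2 N ∣ p (x² - 1)`, `5 p ≤ |x|` -/

include hy hs hP ha in
/-- `d = 1` -/
theorem pD1 {p j N : ℤ} (hp : 5 ≤ p) (hpo : p % 2 = 1) (hpx : 5 * p ≤ y) (hj : 1 ≤ j)
    (h : N * (2 * j) = p * (y ^ 2 - 1)) (hK : (a * P - 1 * N) ^ 2 ≤ 5 * 1 * (a * P)) : False := by
  obtain ⟨hP1, hP2, -⟩ := P_ge hy hs hP
  obtain ⟨z, hz⟩ : ∃ z, z = 2 * (a * j) - p := ⟨_, rfl⟩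
  have hzo : z % 2 = 1 := by omega
  have hzj : 2 * (a * j) = p + z := by rw [hz]; ring
  have h1 : 2 * j * (a * P - 1 * N) = z * P + p * (s * y + 2) := by
    have : p * (s * y + 2) = p * P - p * (y ^ 2 - 1) := by rw [hP]; ring
    rw [this]
    linear_combination P * hzj - h
  have hpos : 0 < p + z := by rw [← hzj]; positivity
  have h2 : (z * P + p * (s * y + 2)) ^ 2 ≤ 5 * ((p + z) ^ 2 * P) := by
    rw [← h1, ← hzj]
    have h3 := mul_le_mul_of_nonneg_left hK (by positivity : 0 ≤ 4 * j ^ 2)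
    have h4 : a * (j ^ 2 * P) ≤ a * (a * (j ^ 2 * P)) :=
      mul_le_mul_of_nonneg_left (le_mul_of_one_le_left (by positivity) ha) (by positivity)
    nlinarith
  have hz1 : 1 ≤ |z| := Int.one_le_abs (by rintro rfl; omega)
  have hr : |p * (s * y + 2)| ≤ p * (y + 2) := by
    rw [abs_mul, abs_of_pos (by omega : 0 < p)]
    apply mul_le_mul_of_nonneg_left _ (by omega)
    rw [abs_le]; rcases hs with rfl | rfl <;> constructor <;> linarith
  have hpy : 5 * (p * (y + 2)) ≤ y * (y + 2) := by nlinarith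
  have hrz : p * (y + 2) ≤ |z| * P := by
    have : P ≤ |z| * P := le_mul_of_one_le_left (by omega) hz1
    rcases hs with rfl | rfl <;> nlinarith
  have h3 := abs_form hr (by omega : 0 ≤ P) (by omega : 0 ≤ p) hpos.le h2 (by norm_num) hrz
  obtain ⟨Y, hY0, hPY, hY⟩ := facts hy hs hP
  have h4 := sqrt5 (by omega) hY0 hPY h3
  -- `5000 (|z| P - p (y + 2)) ≤ 2237 Y (5 p + 5 |z|) ≤ 2237 Y (y + 5 |z|)`
  have h5 : Y * (5 * p) ≤ Y * y := mul_le_mul_of_nonneg_left hpx hY0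
  have h6 : 5000 * (|z| * P) ≤ 1000 * (y * (y + 2)) + 2237 * (Y * y) + 11185 * (Y * |z|) := by nlinarith
  have h7 : |z| * (5000 * P - 11185 * Y) ≤ 1000 * (y * (y + 2)) + 2237 * (Y * y) := by nlinarith
  have h8 : 1000 * (y * (y + 2)) + 2237 * (Y * y) < 5000 * P - 11185 * Y := by
    rcases hY with ⟨rfl, rfl⟩ | ⟨rfl, rfl⟩ <;> rw [hP] <;> nlinarith
  have h9 : 0 ≤ y * (y + 2) := mul_nonneg (by omega) (by omega)
  have h10 : 0 ≤ Y * y := mul_nonneg hY0 (by omega)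
  have h11 := le_mul_of_one_le_left (by linarith : 0 ≤ 5000 * P - 11185 * Y) hz1
  linarith

include hy hs hP ha in
/-- `d = 3` -/
theorem pD3 {p j N : ℤ} (hp : 5 ≤ p) (hpo : p % 2 = 1) (hpx : 25 * p ≤ y) (hj : 1 ≤ j)
    (h : N * (2 * j) = p * (y ^ 2 - 1)) (hK : (a * P - 3 * N) ^ 2 ≤ 5 * 3 * (a * P)) : False := by
  obtain ⟨hP1, hP2, -⟩ := P_ge hy hs hP
  obtain ⟨z, hz⟩ : ∃ z, z = 2 * (a * j) - 3 * p := ⟨_, rfl⟩
  have hzo : z % 2 = 1 := by omega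
  have hzj : 2 * (a * j) = 3 * p + z := by rw [hz]; ring
  have h1 : 2 * j * (a * P - 3 * N) = z * P + 3 * p * (s * y + 2) := by
    have : 3 * p * (s * y + 2) = 3 * (p * P) - 3 * (p * (y ^ 2 - 1)) := by rw [hP]; ring
    rw [this]
    linear_combination P * hzj - 3 * h
  have hpos : 0 < 3 * p + z := by rw [← hzj]; positivity
  have h2 : (z * P + 3 * p * (s * y + 2)) ^ 2 ≤ 15 * ((3 * p + z) ^ 2 * P) := by
    rw [← h1, ← hzj]
    have h3 := mul_le_mul_of_nonneg_left hK (by positivity : 0 ≤ 4 * j ^ 2)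
    have h4 : a * (j ^ 2 * P) ≤ a * (a * (j ^ 2 * P)) :=
      mul_le_mul_of_nonneg_left (le_mul_of_one_le_left (by positivity) ha) (by positivity)
    nlinarith
  have hz1 : 1 ≤ |z| := Int.one_le_abs (by rintro rfl; omega)
  have hr : |3 * p * (s * y + 2)| ≤ 3 * p * (y + 2) := by
    rw [abs_mul, abs_of_pos (by omega : 0 < 3 * p)]
    apply mul_le_mul_of_nonneg_left _ (by omega)
    rw [abs_le]; rcases hs with rfl | rfl <;> constructor <;> linarith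
  have hpy : 25 * (p * (y + 2)) ≤ y * (y + 2) := by nlinarith
  have hrz : 3 * p * (y + 2) ≤ |z| * P := by
    have : P ≤ |z| * P := le_mul_of_one_le_left (by omega) hz1
    rcases hs with rfl | rfl <;> nlinarith
  have h3 := abs_form hr (by omega : 0 ≤ P) (by omega : 0 ≤ 3 * p) hpos.le h2 (by norm_num) hrz
  obtain ⟨Y, hY0, hPY, hY⟩ := facts hy hs hP
  have h4 := sqrt15 (by omega) hY0 hPY h3
  have h5 : Y * (25 * p) ≤ Y * y := mul_le_mul_of_nonneg_left hpx hY0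
  have h6 : 25000 * (|z| * P) ≤ 3000 * (y * (y + 2)) + 11619 * (Y * y) + 96825 * (Y * |z|) := by nlinarith
  have h7 : |z| * (25000 * P - 96825 * Y) ≤ 3000 * (y * (y + 2)) + 11619 * (Y * y) := by nlinarith
  have h8 : 3000 * (y * (y + 2)) + 11619 * (Y * y) < 25000 * P - 96825 * Y := by
    rcases hY with ⟨rfl, rfl⟩ | ⟨rfl, rfl⟩ <;> rw [hP] <;> nlinarith
  have h9 : 0 ≤ y * (y + 2) := mul_nonneg (by omega) (by omega)
  have h10 : 0 ≤ Y * y := mul_nonneg hY0 (by omega)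
  have h11 := le_mul_of_one_le_left (by linarith : 0 ≤ 25000 * P - 96825 * Y) hz1
  linarith

end

end Cfsg.Agent.R2.Spec.X3.PairII
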