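import Cfsg.Agent.R2.Spec.X3.PairDef

/-!
# The pair lemma, type II: the finite check (helper16, S3435, box X3)
-/

set_option autoImplicit false

namespace Cfsg.Agent.R2.Spec.X3

/-- the finite check: one pair; `P = x² + x + 1`, `ys = |x + 1|`, `ym = |x - 1|` -/
def okN (P ys ym y p d a T N : ℕ) (L : List (ℕ × ℕ)) : Bool :=
  (!(Nat.beq ((y * y + 1) * ys % (2 * N)) 0 || Nat.beq ((y * y - 1) % N) 0 || Nat.beq (p * (y * y - 1) % (2 * N)) 0 ||
    Nat.beq (p * ym % N) 0 || Nat.beq (d * ym % (2 * N)) 0)) ||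
  (!(Nat.ble ((a * P - d * N) * (a * P - d * N) + (d * N - a * P) * (d * N - a * P)) (5 * d * (a * P)))) ||
  (Nat.beq a 1 && Nat.beq (d * N) (y * y - 1)) || (Nat.beq a d && Nat.beq N (y * y - 1)) ||
  (Nat.beq a d && Nat.beq N (y * y + 1)) ||
  (Nat.beq p y && Nat.beq a 1 && Nat.beq (d * N) (y * ym)) || (Nat.beq p y && Nat.beq a d && Nat.beq N (y * ym)) ||
  (Nat.beq p y && Nat.beq (d * N) (a * (y * ys))) ||
  L.any fun q => Nat.beq q.1 T && Nat.beq q.2 N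

/-- the finite check for one `a` -/
def okA (P ys ym y p d a : ℕ) (L : List (ℕ × ℕ)) : Bool :=
  (List.range 400).all fun i => okN P ys ym y p d a (a * P / d) (a * P / d + 200 - i) L

theorem okX7 : ∀ a : ℕ, a = 1 ∨ a = 3 ∨ a = 9 → okA 57 8 6 7 7 3 a
    [(19, 10), (19, 12), (19, 20), (19, 21), (19, 24), (19, 25), (19, 28), (171, 200)] = true := by
  rintro a (rfl | rfl | rfl)
  · decide +kernel
  · decide +kernel
  · decide +kernel
theorem okX11 : ∀ a : ℕ, a = 1 ∨ a = 5 → okA 133 12 10 11 11 1 a [] = true := by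
  rintro a (rfl | rfl)
  · decide +kernel
  · decide +kernel
theorem okX19 : ∀ a : ℕ, a = 1 ∨ a = 3 ∨ a = 9 ∨ a = 27 → okA 381 20 18 19 19 3 a [] = true := by
  rintro a (rfl | rfl | rfl | rfl)
  · decide +kernel
  · decide +kernel
  · decide +kernel
  · decide +kernel
theorem okX23 : ∀ a : ℕ, a = 1 ∨ a = 11 → okA 553 24 22 23 23 1 a [] = true := by
  rintro a (rfl | rfl)
  · decide +kernel
  · decide +kernel
theorem okX13 : ∀ a : ℕ, a = 1 ∨ a = 7 → okA 157 12 14 13 13 1 a [] = true := by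
  rintro a (rfl | rfl)
  · decide +kernel
  · decide +kernel
theorem okX17 : ∀ a : ℕ, a = 1 ∨ a = 3 ∨ a = 9 ∨ a = 27 → okA 273 16 18 17 17 3 a [(91, 72), (91, 80)] = true := by
  rintro a (rfl | rfl | rfl | rfl)
  · decide +kernel
  · decide +kernel
  · decide +kernel
  · decide +kernel
theorem okX25 : ∀ a : ℕ, a = 1 ∨ a = 13 → okA 601 24 26 25 5 1 a [] = true := by
  rintro a (rfl | rfl)
  · decide +kernel
  · decide +kernel

/-- the use of the finite check -/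
theorem fin {P ys ym y p d a T N : ℕ} {L : List (ℕ × ℕ)} (h2 : okA P ys ym y p d a L = true) (hd0 : 0 < d)
    (h2a : 2 * a ∣ d * ym) (hym0 : 0 < d * ym) (hym : d * ym < 80) (hb : ym * P ≤ 15626)
    (hdT : d * T = a * P) (hN : 0 < N) (hKT : ((T : ℤ) - N) ^ 2 ≤ 5 * T)
    (hK : ((a * P : ℕ) - (d * N : ℕ) : ℤ) ^ 2 ≤ (5 * d * (a * P) : ℕ))
    (hfree : 2 * N ∣ (y * y + 1) * ys ∨ N ∣ y * y - 1 ∨ 2 * N ∣ p * (y * y - 1) ∨ N ∣ p * ym ∨ 2 * N ∣ d * ym) :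
    (a = 1 ∧ d * N = y * y - 1) ∨ (a = d ∧ N = y * y - 1) ∨ (a = d ∧ N = y * y + 1) ∨
      (p = y ∧ a = 1 ∧ d * N = y * ym) ∨ (p = y ∧ a = d ∧ N = y * ym) ∨
      (p = y ∧ d * N = a * (y * ys)) ∨ (T, N) ∈ L := by
  have h2a' := Nat.le_of_dvd hym0 h2a
  have hTle : T ≤ 7813 := by
    have h1 : d * (2 * T) ≤ d * (ym * P) := by
      calc d * (2 * T) = 2 * (d * T) := by ring
        _ = (2 * a) * P := by rw [hdT]; ring
        _ ≤ (d * ym) * P := Nat.mul_le_mul_right _ h2a'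
        _ = _ := by ring
    have h2 := Nat.le_of_mul_le_mul_left h1 hd0
    omega
  have hTZ : (T : ℤ) ≤ 7813 := by exact_mod_cast hTle
  have hT1 : (T : ℤ) - N ≤ 199 := by
    by_contra hcon
    push Not at hcon
    nlinarith only [hcon, hKT, hTZ]
  have hT2 : (N : ℤ) - T ≤ 199 := by
    by_contra hcon
    push Not at hcon
    nlinarith only [hcon, hKT, hTZ]
  have hTdiv : a * P / d = T := by rw [← hdT]; exact Nat.mul_div_cancel_left _ hd0
  obtain ⟨i, hi, hNi⟩ : ∃ i < 400, T + 200 - i = N := ⟨T + 200 - N, by omega, by omega⟩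
  unfold okA at h2
  rw [List.all_eq_true] at h2
  have h3 := h2 i (List.mem_range.2 hi)
  rw [hTdiv, hNi] at h3
  have hclose : Nat.ble ((a * P - d * N) * (a * P - d * N) + (d * N - a * P) * (d * N - a * P)) (5 * d * (a * P)) = true := by
    apply Nat.ble_eq_true_of_le
    have h4 : (((a * P - d * N) * (a * P - d * N) + (d * N - a * P) * (d * N - a * P) : ℕ) : ℤ) =
        ((a * P : ℕ) - (d * N : ℕ) : ℤ) ^ 2 := by
      rcases Nat.le_total (a * P) (d * N) with h5 | h5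
      · rw [Nat.sub_eq_zero_of_le h5, Nat.zero_mul, Nat.zero_add]
        rw [Nat.cast_mul, Nat.cast_sub h5]; ring
      · rw [Nat.sub_eq_zero_of_le h5, Nat.zero_mul, Nat.add_zero]
        rw [Nat.cast_mul, Nat.cast_sub h5]; ring
    have h6 : (((a * P - d * N) * (a * P - d * N) + (d * N - a * P) * (d * N - a * P) : ℕ) : ℤ) ≤
        (5 * d * (a * P) : ℕ) := by rw [h4]; exact hK
    exact_mod_cast h6
  have hdv : (Nat.beq ((y * y + 1) * ys % (2 * N)) 0 || Nat.beq ((y * y - 1) % N) 0 || Nat.beq (p * (y * y - 1) % (2 * N)) 0 ||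
    Nat.beq (p * ym % N) 0 || Nat.beq (d * ym % (2 * N)) 0) = true := by
    simp only [Bool.or_eq_true, Nat.beq_eq]
    rcases hfree with k | k | k | k | k
    · exact Or.inl (Or.inl (Or.inl (Or.inl (Nat.mod_eq_zero_of_dvd k))))
    · exact Or.inl (Or.inl (Or.inl (Or.inr (Nat.mod_eq_zero_of_dvd k))))
    · exact Or.inl (Or.inl (Or.inr (Nat.mod_eq_zero_of_dvd k)))
    · exact Or.inl (Or.inr (Nat.mod_eq_zero_of_dvd k))
    · exact Or.inr (Nat.mod_eq_zero_of_dvd k)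
  unfold okN at h3
  rw [hdv, hclose] at h3
  simp only [Bool.not_true, Bool.false_or, Bool.or_eq_true, Bool.and_eq_true, Nat.beq_eq, List.any_eq_true] at h3
  rcases h3 with (((((h3 | h3) | h3) | h3) | h3) | h3) | h3
  · exact Or.inl h3
  · exact Or.inr (Or.inl h3)
  · exact Or.inr (Or.inr (Or.inl h3))
  · exact Or.inr (Or.inr (Or.inr (Or.inl ⟨h3.1.1, h3.1.2, h3.2⟩)))
  · exact Or.inr (Or.inr (Or.inr (Or.inr (Or.inl ⟨h3.1.1, h3.1.2, h3.2⟩))))
  · exact Or.inr (Or.inr (Or.inr (Or.inr (Or.inr (Or.inl h3)))))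
  · obtain ⟨⟨t, n⟩, hm, h4, h5⟩ := h3
    simp only at h4 h5
    rw [h4, h5] at hm
    exact Or.inr (Or.inr (Or.inr (Or.inr (Or.inr (Or.inr hm)))))

/-- the small cases -/
theorem tuple {x s y d : ℤ} {p : ℕ} (hs : s = 1 ∨ s = -1) (hy : 7 ≤ y) (hxy : x = s * y)
    (hd : (d = 1 ∧ x % 3 ≠ 1) ∨ (d = 3 ∧ x % 3 = 1))
    (h : (x = 7 ∧ p = 7) ∨ (x = 11 ∧ p = 11) ∨ (x = 19 ∧ p = 19) ∨ (x = 23 ∧ p = 23) ∨
      (x = -13 ∧ p = 13) ∨ (x = -17 ∧ p = 17) ∨ (x = -25 ∧ p = 5)) :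
    (s = 1 ∧ y = 7 ∧ p = 7 ∧ d = 3) ∨ (s = 1 ∧ y = 11 ∧ p = 11 ∧ d = 1) ∨ (s = 1 ∧ y = 19 ∧ p = 19 ∧ d = 3) ∨
    (s = 1 ∧ y = 23 ∧ p = 23 ∧ d = 1) ∨ (s = -1 ∧ y = 13 ∧ p = 13 ∧ d = 1) ∨ (s = -1 ∧ y = 17 ∧ p = 17 ∧ d = 3) ∨
    (s = -1 ∧ y = 25 ∧ p = 5 ∧ d = 1) := by
  have key : ∀ {n e : ℤ}, x = n → 0 < n → n % 3 = e → (s = 1 ∧ y = n ∧ (e ≠ 1 → d = 1) ∧ (e = 1 → d = 3)) := by
    intro n e hx hn he
    rcases hs with rfl | rfl
    · refine ⟨rfl, by linarith, fun h => ?_, fun h => ?_⟩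
      · rcases hd with h1 | h1
        · exact h1.1
        · exact absurd (by rw [← he, ← hx]; exact h1.2) h
      · rcases hd with h1 | h1
        · exact absurd (by rw [hx, he]; exact h) h1.2
        · exact h1.1
    · exfalso; linarith
  have key' : ∀ {n e : ℤ}, x = -n → 0 < n → (-n) % 3 = e → (s = -1 ∧ y = n ∧ (e ≠ 1 → d = 1) ∧ (e = 1 → d = 3)) := by
    intro n e hx hn he
    rcases hs with rfl | rfl
    · exfalso; linarith
    · refine ⟨rfl, by linarith, fun h => ?_, fun h => ?_⟩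
      · rcases hd with h1 | h1
        · exact h1.1
        · exact absurd (by rw [← he, ← hx]; exact h1.2) h
      · rcases hd with h1 | h1
        · exact absurd (by rw [hx, he]; exact h) h1.2
        · exact h1.1
  rcases h with h | h | h | h | h | h | h
  · obtain ⟨h1, h2, -, h4⟩ := key h.1 (by norm_num) (e := 1) (by norm_num)
    exact Or.inl ⟨h1, h2, h.2, h4 rfl⟩
  · obtain ⟨h1, h2, h4, -⟩ := key h.1 (by norm_num) (e := 2) (by norm_num)
    exact Or.inr (Or.inl ⟨h1, h2, h.2, h4 (by norm_num)⟩)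
  · obtain ⟨h1, h2, -, h4⟩ := key h.1 (by norm_num) (e := 1) (by norm_num)
    exact Or.inr (Or.inr (Or.inl ⟨h1, h2, h.2, h4 rfl⟩))
  · obtain ⟨h1, h2, h4, -⟩ := key h.1 (by norm_num) (e := 2) (by norm_num)
    exact Or.inr (Or.inr (Or.inr (Or.inl ⟨h1, h2, h.2, h4 (by norm_num)⟩)))
  · obtain ⟨h1, h2, h4, -⟩ := key' h.1 (by norm_num) (e := 2) (by norm_num)
    exact Or.inr (Or.inr (Or.inr (Or.inr (Or.inl ⟨h1, h2, h.2, h4 (by norm_num)⟩))))
  · obtain ⟨h1, h2, -, h4⟩ := key' h.1 (by norm_num) (e := 1) (by norm_num)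
    exact Or.inr (Or.inr (Or.inr (Or.inr (Or.inr (Or.inl ⟨h1, h2, h.2, h4 rfl⟩)))))
  · obtain ⟨h1, h2, h4, -⟩ := key' h.1 (by norm_num) (e := 2) (by norm_num)
    exact Or.inr (Or.inr (Or.inr (Or.inr (Or.inr (Or.inr ⟨h1, h2, h.2, h4 (by norm_num)⟩)))))

end Cfsg.Agent.R2.Spec.X3
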