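import Cfsg.Agent.R2.Spec.X3.PairS

/-!
# The finite check over the integers (helper16, S3435, box X3)
-/

set_option autoImplicit false

namespace Cfsg.Agent.R2.Spec.X3

/-- the outcomes, `x = s y` -/
def OutS (s y : ℤ) (p : ℕ) (d : ℤ) (a T N : ℕ) : Prop :=
  ((a : ℤ) = 1 ∧ d * N = y ^ 2 - 1) ∨ ((a : ℤ) = d ∧ (N : ℤ) = y ^ 2 - 1) ∨ ((a : ℤ) = d ∧ (N : ℤ) = y ^ 2 + 1) ∨
    ((p : ℤ) = y ∧ (a : ℤ) = 1 ∧ d * N = y ^ 2 - s * y) ∨ ((p : ℤ) = y ∧ (a : ℤ) = d ∧ (N : ℤ) = y ^ 2 - s * y) ∨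
    ((p : ℤ) = y ∧ d * N = a * (y ^ 2 + s * y)) ∨ (s * y, (T : ℤ), (N : ℤ)) ∈ excII

/-- the finite check over the integers -/
theorem finZ {s y d : ℤ} {p a T N Y D P ys ym : ℕ} {L : List (ℕ × ℕ)} (hok : okA P ys ym Y p D a L = true)
    (hL : ∀ q ∈ L, (s * y, (q.1 : ℤ), (q.2 : ℤ)) ∈ excII)
    (hD0 : 0 < D) (hY1 : 1 ≤ Y) (hY : (Y : ℤ) = y) (hD : (D : ℤ) = d) (hys : (ys : ℤ) = y + s) (hym : (ym : ℤ) = y - s)
    (hP : (P : ℤ) = y ^ 2 + s * y + 1) (h2a : 2 * a ∣ D * ym) (hym0 : 0 < D * ym) (hym8 : D * ym < 80)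
    (hb : ym * P ≤ 15626)
    (hdT : d * (T : ℤ) = a * (y ^ 2 + s * y + 1)) (hN : 0 < N) (hK : ((T : ℤ) - N) ^ 2 ≤ 5 * T)
    (hK' : ((a : ℤ) * (y ^ 2 + s * y + 1) - d * N) ^ 2 ≤ 5 * d * (a * (y ^ 2 + s * y + 1)))
    (hfree : 2 * (N : ℤ) ∣ (y ^ 2 + 1) * (y + s) ∨ (N : ℤ) ∣ y ^ 2 - 1 ∨ 2 * (N : ℤ) ∣ p * (y ^ 2 - 1) ∨
      (N : ℤ) ∣ p * (y - s) ∨ 2 * (N : ℤ) ∣ d * (y - s)) : OutS s y p d a T N := by
  have hYY : ((Y * Y - 1 : ℕ) : ℤ) = y ^ 2 - 1 := by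
    rw [Nat.cast_sub (Nat.mul_pos hY1 hY1), Nat.cast_mul, hY, Nat.cast_one]; ring
  have hYY' : ((Y * Y + 1 : ℕ) : ℤ) = y ^ 2 + 1 := by
    rw [Nat.cast_add, Nat.cast_mul, hY, Nat.cast_one]; ring
  have hf : 2 * N ∣ (Y * Y + 1) * ys ∨ N ∣ Y * Y - 1 ∨ 2 * N ∣ p * (Y * Y - 1) ∨ N ∣ p * ym ∨ 2 * N ∣ D * ym := by
    rcases hfree with k | k | k | k | k
    · left
      rw [← hYY', ← hys] at k
      exact_mod_cast k
    · right; left
      rw [← hYY] at k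
      exact_mod_cast k
    · right; right; left
      rw [← hYY] at k
      exact_mod_cast k
    · right; right; right; left
      rw [← hym] at k
      exact_mod_cast k
    · right; right; right; right
      rw [← hym, ← hD] at k
      exact_mod_cast k
  have h1 : D * T = a * P := by
    rw [← hP, ← hD] at hdT
    exact_mod_cast hdT
  have h2 : ((a * P : ℕ) - (D * N : ℕ) : ℤ) ^ 2 ≤ (5 * D * (a * P) : ℕ) := by
    rw [← hP, ← hD] at hK'
    push_cast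
    exact hK'
  rcases fin hok hD0 h2a hym0 hym8 hb h1 hN hK h2 hf with g | g | g | g | g | g | g
  · left
    refine ⟨by exact_mod_cast g.1, ?_⟩
    rw [← hYY, ← hD]
    exact_mod_cast g.2
  · right; left
    refine ⟨by rw [← hD]; exact_mod_cast g.1, ?_⟩
    rw [← hYY]
    exact_mod_cast g.2
  · right; right; left
    refine ⟨by rw [← hD]; exact_mod_cast g.1, ?_⟩
    rw [← hYY']
    exact_mod_cast g.2
  · right; right; right; left
    refine ⟨by rw [← hY]; exact_mod_cast g.1, by exact_mod_cast g.2.1, ?_⟩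
    have h3 : ((D * N : ℕ) : ℤ) = ((Y * ym : ℕ) : ℤ) := by rw [g.2.2]
    rw [Nat.cast_mul, Nat.cast_mul, hD, hY, hym] at h3
    rw [h3]; ring
  · right; right; right; right; left
    refine ⟨by rw [← hY]; exact_mod_cast g.1, by rw [← hD]; exact_mod_cast g.2.1, ?_⟩
    have h3 : ((N : ℕ) : ℤ) = ((Y * ym : ℕ) : ℤ) := by rw [g.2.2]
    rw [Nat.cast_mul, hY, hym] at h3
    rw [h3]; ring
  · right; right; right; right; right; left
    refine ⟨by rw [← hY]; exact_mod_cast g.1, ?_⟩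
    have h3 : ((D * N : ℕ) : ℤ) = ((a * (Y * ys) : ℕ) : ℤ) := by rw [g.2]
    rw [Nat.cast_mul, Nat.cast_mul, Nat.cast_mul, hD, hY, hys] at h3
    rw [h3]; ring
  · right; right; right; right; right; right
    exact hL _ g

theorem dv18 : ∀ a < 10, 2 * a ∣ 18 → a % 2 = 1 → a = 1 ∨ a = 3 ∨ a = 9 := by decide
theorem dv10 : ∀ a < 6, 2 * a ∣ 10 → a % 2 = 1 → a = 1 ∨ a = 5 := by decide
theorem dv54 : ∀ a < 28, 2 * a ∣ 54 → a % 2 = 1 → a = 1 ∨ a = 3 ∨ a = 9 ∨ a = 27 := by decide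
theorem dv22 : ∀ a < 12, 2 * a ∣ 22 → a % 2 = 1 → a = 1 ∨ a = 11 := by decide
theorem dv14 : ∀ a < 8, 2 * a ∣ 14 → a % 2 = 1 → a = 1 ∨ a = 7 := by decide
theorem dv26 : ∀ a < 14, 2 * a ∣ 26 → a % 2 = 1 → a = 1 ∨ a = 13 := by decide


/-- the small cases -/
theorem finAll {x s y d : ℤ} {p a T N : ℕ} (hs : s = 1 ∨ s = -1) (hy : 7 ≤ y) (hxy : x = s * y)
    (hd : (d = 1 ∧ x % 3 ≠ 1) ∨ (d = 3 ∧ x % 3 = 1))
    (hsm : (x = 7 ∧ p = 7) ∨ (x = 11 ∧ p = 11) ∨ (x = 19 ∧ p = 19) ∨ (x = 23 ∧ p = 23) ∨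
      (x = -13 ∧ p = 13) ∨ (x = -17 ∧ p = 17) ∨ (x = -25 ∧ p = 5)) (hao : a % 2 = 1)
    (h2a : 2 * (a : ℤ) ∣ d * (y - s))
    (hdT : d * (T : ℤ) = a * (y ^ 2 + s * y + 1)) (hNn : 0 < N) (hK : ((T : ℤ) - N) ^ 2 ≤ 5 * T)
    (hK' : ((a : ℤ) * (y ^ 2 + s * y + 1) - d * N) ^ 2 ≤ 5 * d * (a * (y ^ 2 + s * y + 1)))
    (hfree' : 2 * (N : ℤ) ∣ (y ^ 2 + 1) * (y + s) ∨ (N : ℤ) ∣ y ^ 2 - 1 ∨ 2 * (N : ℤ) ∣ p * (y ^ 2 - 1) ∨
      (N : ℤ) ∣ p * (y - s) ∨ 2 * (N : ℤ) ∣ d * (y - s)) : OutS s y p d a T N := by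
  have hdvd : ∀ (n : ℕ), ((n : ℕ) : ℤ) = d * (y - s) → 2 * a ∣ n := fun n hn => by
    rw [← hn] at h2a
    exact_mod_cast h2a
  have hlt : ∀ (n : ℕ), 2 * a ∣ n → 0 < n → a < n / 2 + 1 := fun n hn h0 => by
    have := Nat.le_of_dvd h0 hn
    clear * - this
    omega
  rcases tuple hs hy hxy hd hsm with ⟨e1, e2, e3, e4⟩ | ⟨e1, e2, e3, e4⟩ | ⟨e1, e2, e3, e4⟩ |
    ⟨e1, e2, e3, e4⟩ | ⟨e1, e2, e3, e4⟩ | ⟨e1, e2, e3, e4⟩ | ⟨e1, e2, e3, e4⟩
  · have hv := hdvd 18 (by rw [e1, e2, e4]; norm_num)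
    have hok : okA 57 8 6 7 p 3 a [(19, 10), (19, 12), (19, 20), (19, 21), (19, 24), (19, 25), (19, 28), (171, 200)] = true := by
      rw [e3]; exact okX7 a (dv18 a (hlt 18 hv (by norm_num)) hv hao)
    refine finZ hok ?_ (by norm_num) (by norm_num) (by rw [e2]; norm_num)
      (by rw [e4]; norm_num) (by rw [e1, e2]; norm_num) (by rw [e1, e2]; norm_num) (by rw [e1, e2]; norm_num)
      hv (by norm_num) (by norm_num) (by norm_num) hdT hNn hK hK' hfree'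
    rw [e1, e2]
    decide
  · have hv := hdvd 10 (by rw [e1, e2, e4]; norm_num)
    have hok : okA 133 12 10 11 p 1 a [] = true := by
      rw [e3]; exact okX11 a (dv10 a (hlt 10 hv (by norm_num)) hv hao)
    refine finZ hok ?_ (by norm_num) (by norm_num) (by rw [e2]; norm_num)
      (by rw [e4]; norm_num) (by rw [e1, e2]; norm_num) (by rw [e1, e2]; norm_num) (by rw [e1, e2]; norm_num)
      hv (by norm_num) (by norm_num) (by norm_num) hdT hNn hK hK' hfree'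
    rw [e1, e2]
    decide
  · have hv := hdvd 54 (by rw [e1, e2, e4]; norm_num)
    have hok : okA 381 20 18 19 p 3 a [] = true := by
      rw [e3]; exact okX19 a (dv54 a (hlt 54 hv (by norm_num)) hv hao)
    refine finZ hok ?_ (by norm_num) (by norm_num) (by rw [e2]; norm_num)
      (by rw [e4]; norm_num) (by rw [e1, e2]; norm_num) (by rw [e1, e2]; norm_num) (by rw [e1, e2]; norm_num)
      hv (by norm_num) (by norm_num) (by norm_num) hdT hNn hK hK' hfree'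
    rw [e1, e2]
    decide
  · have hv := hdvd 22 (by rw [e1, e2, e4]; norm_num)
    have hok : okA 553 24 22 23 p 1 a [] = true := by
      rw [e3]; exact okX23 a (dv22 a (hlt 22 hv (by norm_num)) hv hao)
    refine finZ hok ?_ (by norm_num) (by norm_num) (by rw [e2]; norm_num)
      (by rw [e4]; norm_num) (by rw [e1, e2]; norm_num) (by rw [e1, e2]; norm_num) (by rw [e1, e2]; norm_num)
      hv (by norm_num) (by norm_num) (by norm_num) hdT hNn hK hK' hfree'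
    rw [e1, e2]
    decide
  · have hv := hdvd 14 (by rw [e1, e2, e4]; norm_num)
    have hok : okA 157 12 14 13 p 1 a [] = true := by
      rw [e3]; exact okX13 a (dv14 a (hlt 14 hv (by norm_num)) hv hao)
    refine finZ hok ?_ (by norm_num) (by norm_num) (by rw [e2]; norm_num)
      (by rw [e4]; norm_num) (by rw [e1, e2]; norm_num) (by rw [e1, e2]; norm_num) (by rw [e1, e2]; norm_num)
      hv (by norm_num) (by norm_num) (by norm_num) hdT hNn hK hK' hfree'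
    rw [e1, e2]
    decide
  · have hv := hdvd 54 (by rw [e1, e2, e4]; norm_num)
    have hok : okA 273 16 18 17 p 3 a [(91, 72), (91, 80)] = true := by
      rw [e3]; exact okX17 a (dv54 a (hlt 54 hv (by norm_num)) hv hao)
    refine finZ hok ?_ (by norm_num) (by norm_num) (by rw [e2]; norm_num)
      (by rw [e4]; norm_num) (by rw [e1, e2]; norm_num) (by rw [e1, e2]; norm_num) (by rw [e1, e2]; norm_num)
      hv (by norm_num) (by norm_num) (by norm_num) hdT hNn hK hK' hfree'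
    rw [e1, e2]
    decide
  · have hv := hdvd 26 (by rw [e1, e2, e4]; norm_num)
    have hok : okA 601 24 26 25 p 1 a [] = true := by
      rw [e3]; exact okX25 a (dv26 a (hlt 26 hv (by norm_num)) hv hao)
    refine finZ hok ?_ (by norm_num) (by norm_num) (by rw [e2]; norm_num)
      (by rw [e4]; norm_num) (by rw [e1, e2]; norm_num) (by rw [e1, e2]; norm_num) (by rw [e1, e2]; norm_num)
      hv (by norm_num) (by norm_num) (by norm_num) hdT hNn hK hK' hfree'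
    rw [e1, e2]
    decide

end Cfsg.Agent.R2.Spec.X3
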