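import Cfsg.Agent.R2.Spec.X3.Final
import Cfsg.Agent.R2.Spec.X3.PE.H18.F4
import Cfsg.Agent.R2.Spec.X3.PE.H18.E6

/-!
# Box X3 of S3435: the exceptional rows (helper16)
-/

set_option autoImplicit false

namespace Cfsg.Agent.R2.Spec.X3

open Cfsg
open Cfsg.Agent.H426.LieFam (Fam)

universe u v

/-- the row `³D₄(u)` -/
def Row3D4 : Prop := ∀ (p M : ℕ) (x : ℤ) (K : Type) [Field K] [Fintype K] (w : ℕ), IsPrimePow w →
  Fintype.card K = w ^ 3 → (p : K) ≠ 0 → Cand p x M ↥(Lie.twistedD4 K w) → False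

theorem pp_of {K : Type} [Field K] [Fintype K] {v e n : ℕ} (hv : v.Prime) (hK : Fintype.card K = (v ^ e) ^ n) :
    IsPrimePow (v ^ e) := by
  rcases Nat.eq_zero_or_pos e with h0 | h0
  · rw [h0, pow_zero, one_pow] at hK
    have := Fintype.one_lt_card (α := K)
    omega
  · exact hv.isPrimePow.pow h0.ne'

theorem excRows_of (hT : Row3D4) : ExcRows.{u} := by
  intro p M x S _ _ h f v e hf hv hvp hIs
  have hp := h.hp
  cases f with
  | g2 =>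
    obtain ⟨h3, F, i1, i2, i3, hF, ⟨ε⟩⟩ := hIs
    exact row_g2 (by rw [hF]; exact h3) (cast_ne (F := F) hv hp hvp) (h.congr ε)
  | f4 =>
    obtain ⟨F, i1, i2, i3, hF, ⟨ε⟩⟩ := hIs
    exact H18.row_F4 (cast_ne (F := F) hv hp hvp) (h.congr ε)
  | e6 =>
    obtain ⟨F, i1, i2, i3, hF, ⟨ε⟩⟩ := hIs
    exact H18.row_E6 (cast_ne (F := F) hv hp hvp) (h.congr ε)
  | e7 =>
    obtain ⟨F, i1, i2, i3, hF, ⟨ε⟩⟩ := hIs
    exact row_E7 (cast_ne (F := F) hv hp hvp) (h.congr ε)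
  | e8 =>
    obtain ⟨F, i1, i2, i3, hF, ⟨ε⟩⟩ := hIs
    exact row_E8 (cast_ne (F := F) hv hp hvp) (h.congr ε)
  | te6 =>
    obtain ⟨K, i1, i2, i3, hK, ⟨ε⟩⟩ := hIs
    exact H18.row_2E6 (pp_of hv hK) hK (cast_ne (F := K) hv hp hvp) (h.congr ε)
  | td4 =>
    obtain ⟨K, i1, i2, i3, hK, ⟨ε⟩⟩ := hIs
    exact hT p M x K (v ^ e) (pp_of hv hK) hK (cast_ne (F := K) hv hp hvp) (h.congr ε)
  | sz =>
    obtain ⟨-, m, hm, -, F, i1, i2, hF, ⟨ε⟩⟩ := hIs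
    exact row_sz hm hF (h.congr ε)
  | tf4 =>
    obtain ⟨-, m, hm, -, K, i1, i2, hK, ⟨ε⟩⟩ := hIs
    exact row_tf4 hm hK (h.congr ε)
  | ree =>
    obtain ⟨-, m, hm, -, K, i1, i2, hK, ⟨ε⟩⟩ := hIs
    exact row_ree hm hK (h.congr ε)
  | psl n => exact hf.elim
  | psu n => exact hf.elim
  | psp n => exact hf.elim
  | oodd n => exact hf.elim
  | oplus n => exact hf.elim
  | ominus n => exact hf.elim

end Cfsg.Agent.R2.Spec.X3
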