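import Cfsg.Agent.R2.Spec.X3.Fact
import Cfsg.Agent.R2.Spec.X3.GoodNil
import Cfsg.Agent.H390.B6.FromRed

/-!
# Box X3 of S3435: from the group to its section (helper16)

* `Fct.coq` : `{p, r, s}` is a coclique, `r ∣ x² + 1` odd, `3 ≠ s ∣ x² + x + 1`;
* `cand_of` : the section `S` satisfies `Cand p x M S`, if `K` is nilpotent.
-/

set_option autoImplicit false

namespace Cfsg.Agent.R2.Spec.X3

open Cfsg.Agent.H420.QR (Red IsCoq)

universe u

theorem dvd_card_of {G : Type*} [Group G] {n : ℕ} (h : ∃ g : G, orderOf g = n) : n ∣ Nat.card G := by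
  obtain ⟨g, rfl⟩ := h
  exact orderOf_dvd_natCard g

theorem exists_of_S {G : Type u} [Group G] [Finite G] {K : Subgroup G} [K.Normal] {S : Subgroup (G ⧸ K)} (g : S) :
    ∃ y : G, orderOf y = orderOf g := by
  obtain ⟨y, hy⟩ := QuotientGroup.mk'_surjective K (g : G ⧸ K)
  have h1 : orderOf g ∣ orderOf y := by
    rw [← Subgroup.orderOf_coe, ← hy]
    exact orderOf_map_dvd _ _
  obtain ⟨b, hb⟩ := h1
  have hb0 : b ≠ 0 := by
    rintro rfl
    rw [mul_zero] at hb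
    exact (orderOf_pos y).ne' hb
  refine ⟨y ^ b, ?_⟩
  rw [orderOf_pow_of_dvd hb0 (by rw [hb]; exact dvd_mul_left _ _), hb, Nat.mul_div_cancel _ (Nat.pos_of_ne_zero hb0)]

namespace Fct

variable {p M : ℕ} {x : ℤ} {G : Type u} [Group G] (h : Fct p x M G)

include h

theorem na {n : ℕ} (hn : ¬ Sp p x n) : ¬ ∃ g : G, orderOf g = n := by
  rintro ⟨g, hg⟩
  apply hn
  rw [← hg]
  exact h.cand.spec g

/-- **a coclique** -/
theorem coq {r s : ℕ} (hr : r.Prime) (hr2 : r ≠ 2) (hrx : (r : ℤ) ∣ x ^ 2 + 1)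
    (hs : s.Prime) (hs3 : s ≠ 3) (hsx : (s : ℤ) ∣ x ^ 2 + x + 1) :
    IsCoq G {p, r, s} ∧ ({p, r, s} : Finset ℕ).card = 3 := by
  obtain ⟨k1, k2, k3, k4, k5, k6⟩ := sp_coq h.cand.hp h.cand.p_dvd hr hr2 hrx hs hs3 hsx
  have n4 := h.na k4
  have n5 := h.na k5
  have n6 := h.na k6
  have m4 : ¬ ∃ g : G, orderOf g = r * p := by rw [mul_comm]; exact n4
  have m5 : ¬ ∃ g : G, orderOf g = s * p := by rw [mul_comm]; exact n5
  have m6 : ¬ ∃ g : G, orderOf g = s * r := by rw [mul_comm]; exact n6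
  have e1 := dvd_card_of h.exp
  have e2 : r ∣ Nat.card G := dvd_card_of (h.exA r (by rcases hr.eq_two_or_odd with h1 | h1 <;> [exact absurd h1 hr2; exact h1]) hrx)
  have e3 : s ∣ Nat.card G := dvd_card_of (h.exB s hs.pos
    (fun h1 => hs3 ((Nat.prime_dvd_prime_iff_eq Nat.prime_three hs).1 h1).symm) hsx)
  refine ⟨⟨?_, ?_, ?_⟩, ?_⟩
  · intro a ha
    simp only [Finset.mem_insert, Finset.mem_singleton] at ha
    rcases ha with rfl | rfl | rfl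
    · exact h.cand.hp
    · exact hr
    · exact hs
  · intro a ha
    simp only [Finset.mem_insert, Finset.mem_singleton] at ha
    rcases ha with rfl | rfl | rfl
    · exact e1
    · exact e2
    · exact e3
  · intro a ha b hb hab
    simp only [Finset.mem_insert, Finset.mem_singleton] at ha hb
    rcases ha with rfl | rfl | rfl <;> rcases hb with rfl | rfl | rfl
    · exact absurd rfl hab
    · exact n4
    · exact n5
    · exact m4
    · exact absurd rfl hab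
    · exact n6
    · exact m5
    · exact m6
    · exact absurd rfl hab
  · rw [Finset.card_insert_of_notMem, Finset.card_insert_of_notMem, Finset.card_singleton]
    · simpa using k3
    · simp only [Finset.mem_insert, Finset.mem_singleton]
      push Not
      exact ⟨k1.symm, k2.symm⟩

omit [Group G] h in
theorem exists_r {x : ℤ} (hx : x % 2 = 1) (hx2 : 2 ≤ |x|) : ∃ r : ℕ, r.Prime ∧ r ≠ 2 ∧ (r : ℤ) ∣ x ^ 2 + 1 := by
  obtain ⟨t, ht⟩ : ∃ t, x = 2 * t + 1 := ⟨x / 2, by omega⟩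
  have h1 : x ^ 2 + 1 = 2 * (2 * (t ^ 2 + t) + 1) := by rw [ht]; ring
  obtain ⟨N, hN⟩ : ∃ N : ℕ, N = (2 * (t ^ 2 + t) + 1).natAbs := ⟨_, rfl⟩
  have h2 : 4 ≤ x ^ 2 := by rw [← sq_abs]; nlinarith
  have h3 : 1 < 2 * (t ^ 2 + t) + 1 := by linarith
  have hNZ : (N : ℤ) = 2 * (t ^ 2 + t) + 1 := by rw [hN, Int.natAbs_of_nonneg (by linarith)]
  have hN1 : N ≠ 1 := by
    rintro rfl
    push_cast at hNZ
    omega
  obtain ⟨r, hr, hrN⟩ := Nat.exists_prime_and_dvd hN1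
  have hrZ : (r : ℤ) ∣ 2 * (t ^ 2 + t) + 1 := by rw [← hNZ]; exact_mod_cast hrN
  refine ⟨r, hr, ?_, by rw [h1]; exact hrZ.mul_left 2⟩
  rintro rfl
  generalize t ^ 2 + t = w at hrZ
  omega

omit [Group G] h in
theorem exists_s {x : ℤ} (hx2 : 3 ≤ |x|) : ∃ s : ℕ, s.Prime ∧ s ≠ 3 ∧ (s : ℤ) ∣ x ^ 2 + x + 1 := by
  have h1 : 7 ≤ x ^ 2 + x + 1 := by
    have h2 : |x| * |x| = x ^ 2 := by rw [← sq, sq_abs]
    have h3 := neg_abs_le x
    nlinarith
  obtain ⟨N, hN⟩ : ∃ N : ℕ, N = (x ^ 2 + x + 1).natAbs := ⟨_, rfl⟩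
  have hNZ : (N : ℤ) = x ^ 2 + x + 1 := by rw [hN, Int.natAbs_of_nonneg (by linarith)]
  have h9 : ¬ (9 : ℤ) ∣ x ^ 2 + x + 1 := by
    obtain ⟨t, r, hxr, hr⟩ : ∃ t r, x = 9 * t + r ∧ (r = 0 ∨ r = 1 ∨ r = 2 ∨ r = 3 ∨ r = 4 ∨ r = 5 ∨ r = 6 ∨ r = 7 ∨ r = 8) :=
      ⟨x / 9, x % 9, by omega, by omega⟩
    have e1 : x ^ 2 + x + 1 = 9 * (9 * t ^ 2 + 2 * t * r + t) + (r ^ 2 + r + 1) := by rw [hxr]; ring
    rw [e1]
    generalize 9 * t ^ 2 + 2 * t * r + t = w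
    clear e1 hxr hNZ hN h1 hx2
    rcases hr with rfl | rfl | rfl | rfl | rfl | rfl | rfl | rfl | rfl <;> omega
  by_contra hcon
  push Not at hcon
  have h3 : ∀ s : ℕ, s.Prime → s ∣ N → s = 3 := by
    intro s hs hsN
    by_contra hne
    exact hcon s hs hne (by rw [← hNZ]; exact_mod_cast hsN)
  have hN0 : N ≠ 0 := by omega
  have h4 : N = 3 ^ N.primeFactorsList.length := Nat.eq_prime_pow_of_unique_prime_dvd hN0 (fun {d} hd hdN => h3 d hd hdN)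
  rcases hl : N.primeFactorsList.length with _ | _ | k
  · rw [hl] at h4; omega
  · rw [hl] at h4; omega
  · rw [hl] at h4
    apply h9
    rw [← hNZ, h4]
    push_cast
    exact ⟨3 ^ k, by ring⟩

theorem abs_ge : 5 ≤ |x| := by
  rw [le_abs]
  rcases h.cand.x_bd with h1 | h1 | h1 <;> omega

theorem exists_rs : (∃ r : ℕ, r.Prime ∧ r ≠ 2 ∧ (r : ℤ) ∣ x ^ 2 + 1) ∧
    ∃ s : ℕ, s.Prime ∧ s ≠ 3 ∧ (s : ℤ) ∣ x ^ 2 + x + 1 := by
  have h1 := h.abs_ge
  exact ⟨exists_r h.cand.odd (by omega), exists_s (by omega)⟩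

/-- an odd prime not adjacent to 2 -/
theorem far {s : ℕ} (hs : s.Prime) (hsM : s ∣ M) : s ≠ 2 ∧ s ∣ Nat.card G ∧ ¬ ∃ g : G, orderOf g = 2 * s := by
  refine ⟨(h.cand.prime_facts hs hsM).1, hsM.trans (dvd_card_of h.cand.elt), ?_⟩
  rintro ⟨g, hg⟩
  exact h.cand.not_two_dvd hs hsM (g := g) (by rw [hg]; exact dvd_mul_left _ _) (by rw [hg]; exact dvd_mul_right _ _)

variable [Finite G]

/-- **the reduction** -/
theorem exists_red : ∃ (K : Subgroup G) (_ : K.Normal) (S : Subgroup (G ⧸ K)) (_ : S.Normal), Red G K S := by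
  obtain ⟨⟨r, hr, hr2, hrx⟩, s, hs, hs3, hsx⟩ := h.exists_rs
  obtain ⟨h1, h2⟩ := h.coq hr hr2 hrx hs hs3 hsx
  obtain ⟨t, ht, htM⟩ := h.cand.exists_prime
  obtain ⟨k1, k2, k3⟩ := h.far ht htM
  exact H420.QR.exists_red h1 h2.ge ⟨t, ht, k1, k2, k3⟩

theorem not_solvable : ¬ Group.IsSolvable G := by
  obtain ⟨⟨r, hr, hr2, hrx⟩, s, hs, hs3, hsx⟩ := h.exists_rs
  obtain ⟨h1, h2⟩ := h.coq hr hr2 hrx hs hs3 hsx
  exact H420.QR.isCoq_not_solvable h1 h2.ge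

variable {K : Subgroup G} [K.Normal] {S : Subgroup (G ⧸ K)} [S.Normal]

omit [Finite G] in
/-- two bad primes of a coclique -/
theorem false_of_bad (R : Red G K S) {r s a b : ℕ} (hr : r.Prime) (hr2 : r ≠ 2) (hrx : (r : ℤ) ∣ x ^ 2 + 1)
    (hs : s.Prime) (hs3 : s ≠ 3) (hsx : (s : ℤ) ∣ x ^ 2 + x + 1) (ha : a ∈ ({p, r, s} : Finset ℕ))
    (hb : b ∈ ({p, r, s} : Finset ℕ)) (hab : a ≠ b) (h1 : a ∣ Nat.card K * S.index)
    (h2 : b ∣ Nat.card K * S.index) : False := by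
  obtain ⟨k1, k2⟩ := h.coq hr hr2 hrx hs hs3 hsx
  exact hab (R.coc' _ k1 k2.ge a ha b hb h1 h2)

/-- **the section** -/
theorem cand_of (R : Red G K S) (hn : Group.IsNilpotent K) : Cand p x M S := by
  refine ⟨h.cand.hp, h.cand.h5, h.cand.ex, h.cand.typ, fun g => ?_, ?_⟩
  · obtain ⟨y, hy⟩ := exists_of_S g
    rw [← hy]
    exact h.cand.spec y
  · refine H376.Six.order_of_coprime h.cand.elt (Nat.Coprime.mul_right ?_ ?_)
    · refine Nat.coprime_of_dvd fun s hs hsM hsK => ?_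
      obtain ⟨k1, k2, k3⟩ := h.far hs hsM
      exact (good_of_nil R hn hs k1 k2 k3).1 hsK
    · refine Nat.coprime_of_dvd fun s hs hsM hsK => ?_
      obtain ⟨k1, k2, k3⟩ := h.far hs hsM
      exact (good_of_nil R hn hs k1 k2 k3).2 hsK

end Fct

end Cfsg.Agent.R2.Spec.X3
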