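import Cfsg.Agent.R2.Spec.X3.Pair
import Cfsg.Agent.R2.Spec.X3.PL.NumOdd2
import Cfsg.Agent.S2476
import Cfsg.Agent.H124.SUThreeEig
import Cfsg.Agent.H127.PSUThreeEx

/-!
# Box X3 of S3435: the rows `PSL_3(u)` and `PSU_3(u)` (helper16)
-/

set_option autoImplicit false

namespace Cfsg.Agent.R2.Spec.X3

open Cfsg

/-- the exceptional pairs -/
def ckT (T N : ℤ) (u : ℕ) : Bool :=
  (!(decide (3 * T = (u : ℤ) * u + u + 1 ∧ 3 * N = (u : ℤ) * u - 1))) &&
    ((!(decide (3 * T + u = (u : ℤ) * u + 1 ∧ 3 * N = (u : ℤ) * u - 1))) || (Nat.beq u 8))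

theorem ckT_all : ((excI ++ excII).all fun P => (List.range 400).all fun u => ckT P.2.1 P.2.2 u) = true := by
  decide +kernel

theorem exc_small {P : ℤ × ℤ × ℤ} (hP : P ∈ excI ++ excII) : P.2.1 ≤ 39331 ∧
    (3 * P.2.1 + 8 = 8 * 8 + 1 ∧ 3 * P.2.2 = (8 : ℤ) * 8 - 1 → P.1 = 7) := by
  revert P
  decide

theorem exc_three {y T N x : ℤ} (hT : 3 * T = y ^ 2 + y + 1) (hN : 3 * N = y ^ 2 - 1)
    (hP : (x, T, N) ∈ excI ++ excII) : y = -8 ∧ x = 7 := by
  obtain ⟨h1, h2⟩ := exc_small hP
  have h3 : |y| < 400 := by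
    by_contra hcon
    push Not at hcon
    have h4 : 400 * |y| ≤ y ^ 2 := by
      rw [← sq_abs, sq]
      exact mul_le_mul_of_nonneg_right hcon (abs_nonneg _)
    have h5 := neg_abs_le y
    simp only at h1
    nlinarith
  obtain ⟨u, hu⟩ : ∃ u : ℕ, u = y.natAbs := ⟨_, rfl⟩
  have hu4 : u < 400 := by
    rw [Int.abs_eq_natAbs, ← hu] at h3
    exact_mod_cast h3
  have h4 := List.all_eq_true.1 ckT_all _ hP
  have h5 := List.all_eq_true.1 h4 u (List.mem_range.2 hu4)
  simp only [ckT, Bool.and_eq_true, Bool.not_eq_true', decide_eq_false_iff_not, Bool.or_eq_true, Nat.beq_eq] at h5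
  rcases Int.natAbs_eq y with h6 | h6
  · rw [← hu] at h6
    exact absurd ⟨by rw [hT, h6]; ring, by rw [hN, h6]; ring⟩ h5.1
  · rw [← hu] at h6
    rcases h5.2 with h7 | h7
    · exact absurd ⟨by rw [hT, h6]; ring, by rw [hN, h6]; ring⟩ h7
    · rw [h7] at h6
      refine ⟨h6, h2 ⟨?_, ?_⟩⟩
      · simp only; rw [hT, h6]; norm_num
      · simp only; rw [hN, h6]; norm_num

/-- **the numeric lemma, `d = 3`** -/
theorem num3 {p : ℕ} {y T N x : ℤ} (hy : 2 ≤ |y|) (hT : 3 * T = y ^ 2 + y + 1) (hN : 3 * N = y ^ 2 - 1)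
    (hP : PairOut p x T N) : y = x ∨ (y = -8 ∧ x = 7) := by
  have hTN : 3 * (T - N) = y + 2 := by linarith
  have hy1 : y ≠ 1 := by rintro rfl; norm_num at hy
  have hym : y ≠ -1 := by rintro rfl; norm_num at hy
  rcases hP with ⟨hx4, hx5, hO⟩ | ⟨hx4, hx7, hO⟩
  · rcases hO with ⟨h2, h3⟩ | ⟨-, h2, h3⟩ | ⟨-, a, ha, hao, h2, h3⟩ | h2
    · exfalso; apply hy1; linarith
    · exfalso
      have e1 : 2 * y = -3 * x - 1 := by linarith
      have e2 : 4 * (y ^ 2 + y + 1) = (2 * y) ^ 2 + 2 * (2 * y) + 4 := by ring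
      have e3 : 4 * (3 * T) = 6 * (x ^ 2 + 1) := by linarith
      rw [hT, e2, e1] at e3
      have e4 : 3 * (x * x) = 3 := by linear_combination e3
      have e5 : 5 * x ≤ x * x := mul_le_mul_of_nonneg_right hx5 (by omega)
      linarith
    · exfalso
      obtain ⟨s, hs⟩ : ∃ s, s = x + 1 := ⟨_, rfl⟩
      have e1 : 2 * y = 3 * (a * s) - 4 := by rw [hs]; linarith
      have e3 : 4 * (3 * T) = 6 * (a * (x ^ 2 + 1)) := by linarith
      have e2 : 4 * (y ^ 2 + y + 1) = (2 * y) ^ 2 + 2 * (2 * y) + 4 := by ring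
      rw [hT, e2, e1, show x = s - 1 by rw [hs]; ring] at e3
      have e4 : a * (s * s) * (3 * a - 2) = 2 * (a * s) + 4 * (a - 1) := by linarith
      have hs6 : 6 ≤ s := by omega
      have e5 : a * (s * s) * 1 ≤ a * (s * s) * (3 * a - 2) :=
        mul_le_mul_of_nonneg_left (by omega) (by positivity)
      have e6 : a * (6 * s) ≤ a * (s * s) := mul_le_mul_of_nonneg_left (mul_le_mul_of_nonneg_right hs6 (by omega)) (by omega)
      have e7 : a * 6 ≤ a * s := mul_le_mul_of_nonneg_left hs6 (by omega)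
      nlinarith
    · exact Or.inr (exc_three hT hN (List.mem_append_left _ h2))
  · have hx2 : 49 ≤ x * x := by rcases hx7 with h | h <;> nlinarith
    rcases hO with ⟨δ, hδ, ⟨h2, h3⟩ | ⟨-, h2, h3⟩ | ⟨-, a, ha, hao, h2, h3⟩⟩ | ⟨h2, h3⟩ | h2
    · rcases hδ with rfl | rfl
      · exfalso
        have e1 : y = 3 * x + 4 := by linarith
        rw [e1] at hT
        have e2 : (x + 1) * (x + 3) = 0 := by linarith
        rcases mul_eq_zero.1 e2 with h | h <;> omega
      · left; linarith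
    · exfalso
      rcases hδ with rfl | rfl
      · have e1 : y = 6 * x + 1 := by linarith
        rw [e1] at hT
        have e2 : x * (11 * x + 5) = 0 := by linarith
        rcases mul_eq_zero.1 e2 with h | h <;> omega
      · have e1 : y = 2 * x - 1 := by linarith
        rw [e1] at hT
        have e2 : x * (x - 1) = 0 := by linarith
        rcases mul_eq_zero.1 e2 with h | h <;> omega
    · exfalso
      rcases hδ with rfl | rfl
      · have e1 : y = 3 * a - 2 := by linarith
        rw [e1] at hT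
        have e2 : a * (x ^ 2 + x + 4 - 3 * a) = 1 := by linarith
        have e3 : a = 1 := Int.eq_one_of_mul_eq_one_right (by omega) e2
        omega
      · have e1 : y = a - 2 := by linarith
        rw [e1] at hT
        have e2 : a * (x ^ 2 + x + 4 - a) = 3 := by linear_combination hT - h2
        have e3 : a ∣ 3 := ⟨_, e2.symm⟩
        have e4 := Int.le_of_dvd (by norm_num) e3
        have e5 : a = 1 ∨ a = 3 := by omega
        omega
    · exfalso
      have e1 : y = 3 * x - 2 := by linarith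
      rw [e1] at hT
      have e2 : x * (x - 2) = 0 := by linarith
      rcases mul_eq_zero.1 e2 with h | h <;> omega
    · exact Or.inr (exc_three hT hN (List.mem_append_right _ h2))

/-- **the numerical core** -/
theorem core3 {p M : ℕ} {x : ℤ} {S : Type*} [Group S] (h : Cand p x M S) {u v d T N R : ℕ} {y : ℤ} (hu : 2 ≤ u)
    (hv : v = 2 ∨ u % 2 = 1) (hd : d = 1 ∨ d = 3)
    (hT : (y = u ∧ d * T = u ^ 2 + u + 1 ∧ d * R + 1 = u) ∨ (y = -u ∧ d * T + u = u ^ 2 + 1 ∧ d * R = u + 1))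
    (hN : d * N + 1 = u ^ 2)
    (eT : ∃ x : S, orderOf x = T) (eN : ∃ x : S, orderOf x = N) (eR : ∃ x : S, orderOf x = v * R)
    (spec : ∀ x : S, orderOf x ∣ T ∨ orderOf x ∣ N ∨ orderOf x ∣ d * R ∨ orderOf x ∣ v * R ∨
      (v = 2 ∧ orderOf x ∣ 4)) :
    y = x ∨ (y = 3 ∧ x = 5) ∨ (y = -4 ∧ x = 5) ∨ (y = 9 ∧ x = -17) ∨ (y = -8 ∧ x = 7) := by
  have hM13 := h.M_ge
  have hM1 : ∀ n, Nat.Coprime n M → ¬ M ∣ n := by
    intro n h1 h2
    have := Nat.eq_one_of_dvd_coprimes h1 h2 dvd_rfl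
    omega
  have c3 : Nat.Coprime 3 M := (Nat.Prime.coprime_iff_not_dvd Nat.prime_three).2 h.not_three
  have c2 : Nat.Coprime 2 M := by
    refine (Nat.Prime.coprime_iff_not_dvd Nat.prime_two).2 ?_
    have := h.M_odd
    omega
  have cd : Nat.Coprime d M := by
    rcases hd with rfl | rfl
    · exact Nat.coprime_one_left _
    · exact c3
  have hyu : |y| = u := by
    rcases hT with ⟨rfl, -⟩ | ⟨rfl, -⟩
    · exact Nat.abs_cast u
    · rw [abs_neg]; exact Nat.abs_cast u
  have hy2 : 2 ≤ |y| := by rw [hyu]; exact_mod_cast hu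
  have hysq : y ^ 2 = (u : ℤ) ^ 2 := by rw [← sq_abs, hyu]
  have hTZ : (d : ℤ) * T = y ^ 2 + y + 1 := by
    rcases hT with ⟨rfl, hT, -⟩ | ⟨rfl, hT, -⟩
    · exact_mod_cast hT
    · have : (d : ℤ) * T + u = u ^ 2 + 1 := by exact_mod_cast hT
      linear_combination this
  have hNZ : (d : ℤ) * N = y ^ 2 - 1 := by
    have : (d : ℤ) * N + 1 = u ^ 2 := by exact_mod_cast hN
    rw [hysq]
    linarith
  have hevR : 2 ∣ v * R := by
    rcases hv with rfl | hv
    · exact dvd_mul_right _ _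
    · refine Dvd.dvd.mul_left ?_ v
      rcases hT with ⟨-, -, hR⟩ | ⟨-, -, hR⟩ <;> rcases hd with rfl | rfl <;> omega
  have cvR : Nat.Coprime (v * R) M := by
    obtain ⟨z, hz⟩ := eR
    refine Nat.coprime_of_dvd fun r hr h3 h4 => ?_
    rw [← hz] at h3 hevR
    exact h.not_two_dvd hr h4 h3 hevR
  have cR : Nat.Coprime R M := Nat.Coprime.coprime_dvd_left (dvd_mul_left _ _) cvR
  obtain ⟨z, hz⟩ := h.elt
  have hs := spec z
  rw [hz] at hs
  have hN0 : N ≠ 0 := by
    rintro rfl
    have : 2 ^ 2 ≤ u ^ 2 := Nat.pow_le_pow_left hu 2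
    omega
  rcases hs with hs | hs | hs | hs | ⟨-, hs⟩
  · -- `M ∣ T`
    have cN : Nat.Coprime N M := by
      refine Nat.coprime_of_dvd fun r hr h3 h4 => ?_
      have h5 : (r : ℤ) ∣ y ^ 2 + y + 1 := by
        rw [← hTZ]
        exact_mod_cast (h4.trans hs).mul_left d
      have h6 : (r : ℤ) ∣ y ^ 2 - 1 := by
        rw [← hNZ]
        exact_mod_cast h3.mul_left d
      have h7 : (r : ℤ) ∣ 3 := by
        have h9 := dvd_sub h5 h6
        have h10 := h9.mul_right (y - 2)
        have h11 := dvd_sub h6 h10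
        have : y ^ 2 - 1 - (y ^ 2 + y + 1 - (y ^ 2 - 1)) * (y - 2) = 3 := by ring
        rwa [this] at h11
      have h8 : r ∣ 3 := by exact_mod_cast h7
      have h9 := (Nat.prime_dvd_prime_iff_eq hr Nat.prime_three).1 h8
      subst h9
      exact h.not_three h4
    have hdZ : (d : ℤ) = 1 ∨ (d : ℤ) = 3 := by
      rcases hd with rfl | rfl
      · left; rfl
      · right; rfl
    have hK : ((T : ℤ) - N) ^ 2 ≤ 5 * T := by
      have h1 : (d : ℤ) ^ 2 * ((T : ℤ) - N) ^ 2 ≤ 5 * (d * T) := by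
        have e : (d : ℤ) ^ 2 * ((T : ℤ) - N) ^ 2 = (y + 2) ^ 2 := by
          have : (d : ℤ) * (T - N) = y + 2 := by linear_combination hTZ - hNZ
          rw [← this]; ring
        rw [e, hTZ]
        nlinarith
      have hT0 : (0 : ℤ) ≤ T := Int.natCast_nonneg _
      have hq0 : 0 ≤ ((T : ℤ) - N) ^ 2 := sq_nonneg _
      rcases hdZ with h2 | h2 <;> rw [h2] at h1 <;> linarith
    have hT13 : (13 : ℤ) ≤ T := by
      have hT0 : 0 < T := by
        rcases Nat.eq_zero_or_pos T with rfl | h0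
        · rw [Nat.cast_zero, mul_zero] at hTZ
          nlinarith [sq_nonneg (2 * y + 1)]
        · exact h0
      have := Nat.le_of_dvd hT0 hs
      omega
    have hP := h.pair eT hs eN hN0 cN hK
    rcases hd with rfl | rfl
    · rcases PL.num_odd (y := y) (T := T) (N := N) (d := 1) (h := 1) hy2 (one_dvd _) (by norm_num) le_rfl (fun _ => rfl)
        (by rw [pow_one]; push_cast at hTZ ⊢; linear_combination (y - 1) * hTZ)
        (by rw [pow_one]; push_cast at hNZ ⊢; linear_combination (y - 1) * hNZ) hT13 hK hP with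
        k | ⟨k1, -, k2⟩ | ⟨k1, -, k2⟩ | ⟨k1, -, k2⟩ | ⟨k1, -, k2, k3, k4⟩
      · exact Or.inl k
      · exact Or.inr (Or.inl ⟨k1, k2⟩)
      · exact Or.inr (Or.inr (Or.inl ⟨k1, k2⟩))
      · exact Or.inr (Or.inr (Or.inr (Or.inl ⟨k1, k2⟩)))
      · exfalso
        rw [k1] at k2
        norm_num at k2
        omega
    · rcases num3 hy2 (by exact_mod_cast hTZ) (by exact_mod_cast hNZ) hP with k | k
      · exact Or.inl k
      · exact Or.inr (Or.inr (Or.inr (Or.inr k)))
  · -- `M ∣ N`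
    exfalso
    obtain ⟨H, hH, hH2⟩ : ∃ H, N = H * R ∧ (H = d * R + 2 ∨ H + 2 = d * R) := by
      rcases hT with ⟨-, -, hR⟩ | ⟨-, -, hR⟩
      · refine ⟨u + 1, ?_, Or.inl (by omega)⟩
        have h1 : d * N = d * ((u + 1) * R) := by
          have h2 : d * ((u + 1) * R) = (u + 1) * (d * R) := by ring
          rw [h2]
          obtain ⟨t, ht⟩ : ∃ t, t = d * R := ⟨_, rfl⟩
          rw [← ht] at hR ⊢
          subst hR
          have : (t + 1) ^ 2 = (t + 1 + 1) * t + 1 := by ring
          omega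
        exact Nat.eq_of_mul_eq_mul_left (by rcases hd with rfl | rfl <;> norm_num) h1
      · refine ⟨u - 1, ?_, Or.inr (by omega)⟩
        have h1 : d * N = d * ((u - 1) * R) := by
          have h2 : d * ((u - 1) * R) = (u - 1) * (d * R) := by ring
          rw [h2, hR]
          obtain ⟨t, rfl⟩ : ∃ t, u = t + 1 := ⟨u - 1, by omega⟩
          rw [Nat.add_sub_cancel]
          have : (t + 1) ^ 2 = t * (t + 1 + 1) + 1 := by ring
          omega
        exact Nat.eq_of_mul_eq_mul_left (by rcases hd with rfl | rfl <;> norm_num) h1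
    have hMH : M ∣ H := by
      rw [hH] at hs
      exact cR.symm.dvd_of_dvd_mul_right hs
    have hH0 : H ≠ 0 := by
      rintro rfl
      rw [Nat.zero_mul] at hH
      exact hN0 hH
    obtain ⟨-, h2, hI, hII⟩ := h.rest eN hH hMH hH0
    have hH3 : H ≤ 3 * R + 2 := by rcases hd with rfl | rfl <;> omega
    rcases h.typ with ⟨g1, g2, g3⟩ | ⟨δ, hty⟩
    · have h4 := Int.le_of_dvd (by omega) (hI g1)
      have h5 : x ^ 2 + 1 ≤ 2 * (3 * R + 2) := by rw [← g3]; omega
      have h6 : 5 * x ≤ x ^ 2 := by rw [sq]; exact mul_le_mul_of_nonneg_right g2 (by omega)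
      linarith
    · have h3 := hII δ hty
      obtain ⟨g1, g2, g3, g4⟩ := hty
      have h5 : (M : ℤ) ≤ 3 * R + 2 := by omega
      rcases g3 with ⟨rfl, -⟩ | ⟨rfl, g3⟩
      · have h4 := Int.le_of_dvd (abs_pos.2 (by omega : 1 * (x - 1) ≠ 0)) ((dvd_abs _ _).2 h3)
        rw [one_mul] at h4
        rcases g2 with g2 | g2
        · rw [abs_of_pos (by omega)] at h4
          have h6 : 7 * x ≤ x ^ 2 := by rw [sq]; exact mul_le_mul_of_nonneg_right g2 (by omega)
          linarith
        · rw [abs_of_neg (by omega)] at h4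
          have h6 : 13 * (-x) ≤ x ^ 2 := by
            have : 13 * (-x) ≤ (-x) * (-x) := mul_le_mul_of_nonneg_right (by omega) (by omega)
            linarith [neg_mul_neg x x, sq x]
          linarith
      · have h4 := Int.le_of_dvd (abs_pos.2 (by omega : 3 * (x - 1) ≠ 0)) ((dvd_abs _ _).2 h3)
        rcases g2 with g2 | g2
        · rw [abs_of_pos (by omega)] at h4
          rcases (by omega : x = 7 ∨ 19 ≤ x) with rfl | h7
          · have hM : M = 19 := by omega
            have hR6 : 6 ≤ R := by omega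
            have hR9 : (R : ℤ) ∣ 9 := by
              obtain ⟨c, hc⟩ := h3
              exact ⟨c, by linarith⟩
            have hR9' : R ∣ 9 := by exact_mod_cast hR9
            have h8 := Nat.le_of_dvd (by norm_num) hR9'
            have h9 : R = 9 := by
              interval_cases R
              · omega
              · omega
              · omega
              · rfl
            rw [h9] at hH2
            rw [hM] at hMH
            rcases hd with rfl | rfl <;> rcases hH2 with h10 | h10 <;> omega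
          · have h6 : 19 * x ≤ x ^ 2 := by rw [sq]; exact mul_le_mul_of_nonneg_right h7 (by omega)
            linarith
        · rw [abs_of_neg (by omega)] at h4
          have g2' : x ≤ -17 := by omega
          have h6 : 17 * (-x) ≤ x ^ 2 := by
            have : 17 * (-x) ≤ (-x) * (-x) := mul_le_mul_of_nonneg_right (by omega) (by omega)
            linarith [neg_mul_neg x x, sq x]
          linarith
  · exact absurd (cd.symm.dvd_of_dvd_mul_left hs) (hM1 _ cR)
  · exact absurd hs (hM1 _ cvR)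
  · exfalso
    have := Nat.le_of_dvd (by norm_num) hs
    omega

theorem gcd_three (n : ℕ) : (Nat.gcd 3 n = 1 ∧ ¬ 3 ∣ n) ∨ (Nat.gcd 3 n = 3 ∧ 3 ∣ n) := by
  by_cases h : 3 ∣ n
  · exact Or.inr ⟨Nat.gcd_eq_left h, h⟩
  · exact Or.inl ⟨(Nat.Prime.coprime_iff_not_dvd Nat.prime_three).2 h, h⟩

end Cfsg.Agent.R2.Spec.X3
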